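import Cfsg.Agent.Mult.Upper
import Cfsg.Agent.CGT.Act

set_option autoImplicit false
set_option linter.style.haveILetI false

/-! Assembling the Schur multiplier from bounds prime by prime and one large stem extension. -/

namespace Cfsg.Agent.Mult

open Subgroup hiding ext
open Cfsg.Agent.CGT

universe u v w

/-- `G` has a finite stem extension with kernel `A`. -/
def Stem (G : Type u) [Group G] (A : Type v) [CommGroup A] : Prop :=
  ∃ (Γ : Type u) (_ : Group Γ) (_ : Finite Γ) (σ : Γ →* G),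
    IsStemExtension σ ∧ Nonempty (σ.ker ≃* A)

theorem Stem.of_any {G : Type u} [Group G] {A : Type v} [CommGroup A] {Γ : Type w} [Group Γ]
    [Finite Γ] {σ : Γ →* G} (h : IsStemExtension σ) (e : σ.ker ≃* A) : Stem G A := by
  haveI : Small.{u} Γ := inferInstance
  exact ⟨Shrink.{u} Γ, inferInstance, Finite.of_equiv _ (equivShrink Γ), _,
    Cover.stem_comp_equiv h Shrink.mulEquiv (MulEquiv.refl G),
    ⟨(Cover.kerEquiv σ _ (MulEquiv.refl G)).trans e⟩⟩

theorem Stem.of_equiv {G : Type u} [Group G] {A : Type v} {B : Type w} [CommGroup A] [CommGroup B]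
    (h : Stem G A) (e : A ≃* B) : Stem G B := by
  obtain ⟨Γ, _, _, σ, h1, ⟨f⟩⟩ := h
  exact ⟨Γ, inferInstance, inferInstance, σ, h1, ⟨f.trans e⟩⟩

theorem Stem.of_equiv_left {G : Type u} {G' : Type w} [Group G] [Group G'] {A : Type v}
    [CommGroup A] (h : Stem G A) (e : G ≃* G') : Stem G' A := by
  obtain ⟨Γ, _, _, σ, h1, ⟨f⟩⟩ := h
  exact Stem.of_any (Cover.stem_comp_equiv h1 (MulEquiv.refl Γ) e)
    ((Cover.kerEquiv σ _ e).trans f)

theorem PBound.of_equiv {G : Type u} {G' : Type w} [Group G] [Group G'] {p e : ℕ}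
    (h : PBound G p e) (f : G ≃* G') : PBound G' p e := by
  intro Γ _ _ σ hσ
  haveI : Small.{u} Γ := inferInstance
  haveI : Finite (Shrink.{u} Γ) := Finite.of_equiv _ (equivShrink Γ)
  have := h (Shrink.{u} Γ) _ (Cover.stem_comp_equiv hσ Shrink.mulEquiv f.symm)
  rwa [Nat.card_congr (Cover.kerEquiv σ Shrink.mulEquiv f.symm).toEquiv] at this

theorem stem_one (G : Type u) [Group G] [Finite G] : Stem G (Multiplicative (ZMod 1)) := by
  refine ⟨G, inferInstance, inferInstance, MonoidHom.id G, ⟨fun g => ⟨g, rfl⟩, ?_, ?_⟩, ⟨?_⟩⟩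
  · simp
  · simp
  · haveI : Unique (MonoidHom.id G).ker := by rw [MonoidHom.ker_id]; infer_instance
    haveI : Unique (Multiplicative (ZMod 1)) := inferInstanceAs (Unique (Fin 1))
    exact MulEquiv.ofUnique

/-- A central quotient of a perfect group. -/
theorem stem_of_cover {G : Type u} [Group G] {A : Type v} [CommGroup A] {Γ : Type w} [Group Γ]
    [Finite Γ] (hp : commutator Γ = ⊤) (σ : Γ →* G) (hσ : Function.Surjective σ)
    (hc : σ.ker ≤ center Γ) (e : σ.ker ≃* A) : Stem G A :=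
  Stem.of_any ⟨hσ, hc, by rw [hp]; exact le_top⟩ e

/-- Sylow subgroups of order at most `p` contribute nothing. -/
theorem pbound_of_not_sq_dvd {G : Type u} [Group G] [Finite G] {p : ℕ} (hp : p.Prime)
    (h : ¬ p ^ 2 ∣ Nat.card G) : PBound G p 0 := by
  intro Γ _ _ σ hσ hd
  haveI := Fact.mk hp
  obtain ⟨P⟩ : Nonempty (Sylow p G) := inferInstance
  have hP : Nat.card P = 1 ∨ Nat.card P = p := by
    obtain ⟨n, hn⟩ := P.isPGroup'.exists_card_eq
    have h1 : p ^ n ∣ Nat.card G := hn ▸ card_subgroup_dvd_card (P : Subgroup G)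
    have : n ≤ 1 := by
      by_contra h2
      exact h ((pow_dvd_pow p (by omega)).trans h1)
    interval_cases n <;> simp [hn]
  haveI : IsCyclic P := by
    rcases hP with h1 | h1
    · haveI := (Nat.card_eq_one_iff_unique.1 h1).1; infer_instance
    · exact isCyclic_of_prime_card h1
  set Pt := (P : Subgroup G).comap σ with hPt
  let f : Pt →* P := (σ.comp Pt.subtype).codRestrict _ fun x => x.2
  have hf : f.ker ≤ center Pt := by
    intro x hx
    have : (x : Γ) ∈ σ.ker := congrArg Subtype.val hx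
    exact mem_center_iff.2 fun y => Subtype.ext (mem_center_iff.1 (hσ.2.1 this) y)
  letI := commGroupOfCyclicCenterQuotient f hf
  obtain ⟨k, hk⟩ := exists_prime_orderOf_dvd_card' (G := σ.ker) p (by simpa using hd)
  have hkP : (k : Γ) ∈ Pt := by
    rw [hPt, mem_comap, (MonoidHom.mem_ker).1 k.2]; exact Subgroup.one_mem _
  have h1 := Cover.transfer_central (MonoidHom.id Pt) (hσ.2.1 k.2) (hσ.2.2 k.2) hkP
  have h2 : k ^ Pt.index = 1 := Subtype.ext (congrArg (fun z : Pt => (z : Γ)) h1)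
  have h3 := orderOf_dvd_of_pow_eq_one h2
  rw [hk, hPt, index_comap_of_surjective _ hσ.1] at h3
  exact P.not_dvd_index h3

theorem card_ker_dvd {G : Type u} [Group G] {m : ℕ}
    (h : ∀ p, p.Prime → ∃ e, p ^ e ∣ m ∧ PBound G p e) (Γ : Type u) [Group Γ] [Finite Γ]
    (σ : Γ →* G) (hσ : IsStemExtension σ) : Nat.card σ.ker ∣ m := by
  rw [Nat.dvd_iff_prime_pow_dvd_dvd]
  intro p k hp hk
  obtain ⟨e, h1, h2⟩ := h p hp
  have : k ≤ e := by
    by_contra h3
    exact h2 Γ σ hσ ((pow_dvd_pow p (by omega)).trans hk)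
  exact (pow_dvd_pow p this).trans h1

theorem map_commutator_surj {P Γ : Type*} [Group P] [Group Γ] {f : P →* Γ}
    (hf : Function.Surjective f) {x : Γ} (hx : x ∈ commutator Γ) : ∃ y ∈ commutator P, f y = x := by
  have : x ∈ (commutator P).map f := by
    rwa [map_commutator_eq, MonoidHom.range_eq_top.2 hf, ← _root_.commutator_def]
  exact this

theorem mult_of_card_le {G : Type u} [Group G] (hperf : commutator G = ⊤) {A : Type v}
    [CommGroup A] (hex : Stem G A)
    (h : ∀ (Γ : Type u) [Group Γ] [Finite Γ] (σ : Γ →* G), IsStemExtension σ →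
      Nat.card σ.ker ≤ Nat.card A) : HasSchurMultiplier G A := by
  refine ⟨hex, ?_⟩
  obtain ⟨Γ₁, _, _, σ₁, h₁, ⟨e⟩⟩ := hex
  intro Γ _ _ σ hσ
  let P := Cover.pullback σ σ₁
  let p1 : P →* Γ₁ := Cover.pbFst σ σ₁
  let p2 : P →* Γ := Cover.pbSnd σ σ₁
  have hp : ∀ x, σ₁ (p1 x) = σ (p2 x) := Cover.pb_comm σ σ₁
  have s1 : Function.Surjective p1 := Cover.pbFst_surjective σ σ₁ hσ.1
  have s2 : Function.Surjective p2 := fun g => by
    obtain ⟨e, he⟩ := h₁.1 (σ g)
    exact ⟨⟨(e, g), he⟩, rfl⟩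
  let ρ : P →* G := σ₁.comp p1
  have hc : ρ.ker ≤ center P := by
    intro x hx
    have h1 : p1 x ∈ σ₁.ker := hx
    have h2 : p2 x ∈ σ.ker := by rw [MonoidHom.mem_ker, ← hp]; exact hx
    refine mem_center_iff.2 fun y => Cover.pb_ext σ σ₁ ?_ ?_
    · simpa using mem_center_iff.1 (h₁.2.1 h1) (p1 y)
    · simpa using mem_center_iff.1 (hσ.2.1 h2) (p2 y)
  let Q := commutator P
  let q : Q →* G := ρ.comp Q.subtype
  have hq : Function.Surjective q := fun g => by
    obtain ⟨y, hy, rfl⟩ := map_commutator_surj (f := ρ) (h₁.1.comp s1) (hperf ▸ mem_top g)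
    exact ⟨⟨y, hy⟩, rfl⟩
  have hQ : commutator Q = ⊤ := by
    have h1 : commutator P ≤ ⁅Q, Q⁆ := Cover.commutator_le_of_map_eq_top hc Q (fun x => by
      obtain ⟨y, hy⟩ := hq (ρ x)
      exact ⟨y, y.2, hy⟩)
    rw [eq_top_iff]
    intro x _
    have h2 := h1 x.2
    rw [← map_subtype_commutator] at h2
    obtain ⟨y, hy, hxy⟩ := h2
    have : y = x := Subtype.ext hxy
    rwa [← this]
  have hstem : IsStemExtension q :=
    ⟨hq, fun x hx => mem_center_iff.2 fun y => Subtype.ext (mem_center_iff.1 (hc hx) y),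
      by rw [hQ]; exact le_top⟩
  let f1 : q.ker →* σ₁.ker := ((p1.comp Q.subtype).comp q.ker.subtype).codRestrict _ fun x => x.2
  let f2 : q.ker →* σ.ker := ((p2.comp Q.subtype).comp q.ker.subtype).codRestrict _ fun x => by
    rw [MonoidHom.mem_ker]; exact (hp _).symm.trans x.2
  have t1 : Function.Surjective f1 := fun k => by
    obtain ⟨y, hy, hk⟩ := map_commutator_surj s1 (h₁.2.2 k.2)
    exact ⟨⟨⟨y, hy⟩, show σ₁ (p1 y) = 1 by rw [hk]; exact k.2⟩, Subtype.ext hk⟩
  have t2 : Function.Surjective f2 := fun k => by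
    obtain ⟨y, hy, hk⟩ := map_commutator_surj s2 (hσ.2.2 k.2)
    exact ⟨⟨⟨y, hy⟩, show σ₁ (p1 y) = 1 by rw [hp, hk]; exact k.2⟩, Subtype.ext hk⟩
  have b1 : Function.Bijective f1 := (Nat.bijective_iff_surjective_and_card _).2 ⟨t1,
    le_antisymm ((h Q q hstem).trans (Nat.card_congr e.toEquiv).ge)
      (Nat.card_le_card_of_surjective _ t1)⟩
  exact ⟨f2.comp ((e.symm.trans (MulEquiv.ofBijective f1 b1).symm).toMonoidHom),
    t2.comp (e.symm.trans (MulEquiv.ofBijective f1 b1).symm).surjective⟩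

theorem pbounds_of_list {G : Type u} [Group G] [Finite G] {N m : ℕ} (hN : Nat.card G = N)
    (fs : List (ℕ × ℕ)) (hfs : (fs.map fun f => f.1 ^ f.2).prod = N) (hpr : ∀ f ∈ fs, f.1.Prime)
    (hb : ∀ f ∈ fs, ¬ f.1 ^ 2 ∣ N ∨ ∃ e, f.1 ^ e ∣ m ∧ PBound G f.1 e) (p : ℕ) (hp : p.Prime) :
    ∃ e, p ^ e ∣ m ∧ PBound G p e := by
  by_cases h : p ^ 2 ∣ N
  · have h1 : p ∣ (fs.map fun f => f.1 ^ f.2).prod := hfs ▸ (dvd_pow_self p two_ne_zero).trans h
    obtain ⟨_, h2, h3⟩ := (Prime.dvd_prod_iff hp.prime).1 h1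
    obtain ⟨f, hf, rfl⟩ := List.mem_map.1 h2
    obtain rfl := (Nat.prime_dvd_prime_iff_eq hp (hpr f hf)).1 (hp.dvd_of_dvd_pow h3)
    exact (hb f hf).resolve_left (not_not.2 h)
  · exact ⟨0, by simp, pbound_of_not_sq_dvd hp (hN ▸ h)⟩

/-- The Schur multiplier of a perfect group from the bounds and a stem extension. -/
theorem mult_of_bounds {G : Type u} [Group G] [Finite G] (hperf : commutator G = ⊤) {A : Type v}
    [CommGroup A] [Finite A] (hex : Stem G A) {N m : ℕ} (hN : Nat.card G = N) (hm : Nat.card A = m)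
    (fs : List (ℕ × ℕ)) (hfs : (fs.map fun f => f.1 ^ f.2).prod = N) (hpr : ∀ f ∈ fs, f.1.Prime)
    (hb : ∀ f ∈ fs, ¬ f.1 ^ 2 ∣ N ∨ ∃ e, f.1 ^ e ∣ m ∧ PBound G f.1 e) : HasSchurMultiplier G A :=
  mult_of_card_le hperf hex fun Γ _ _ σ hσ => Nat.le_of_dvd Nat.card_pos
    (hm ▸ card_ker_dvd (pbounds_of_list hN fs hfs hpr hb) Γ σ hσ)

/-- The cyclic case. -/
theorem cyc_of_bounds {G : Type u} [Group G] [Finite G] (hperf : commutator G = ⊤) {m : ℕ}
    [NeZero m] (hex : Stem G (Multiplicative (ZMod m))) {N : ℕ} (hN : Nat.card G = N)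
    (fs : List (ℕ × ℕ)) (hfs : (fs.map fun f => f.1 ^ f.2).prod = N) (hpr : ∀ f ∈ fs, f.1.Prime)
    (hb : ∀ f ∈ fs, ¬ f.1 ^ 2 ∣ N ∨ ∃ e, f.1 ^ e ∣ m ∧ PBound G f.1 e) :
    HasCyclicSchurMultiplier G m :=
  mult_of_bounds hperf hex hN (by simp) fs hfs hpr hb

/-- The trivial case: perfectness is not needed. -/
theorem triv_of_bounds {G : Type u} [Group G] [Finite G] {N : ℕ} (hN : Nat.card G = N)
    (fs : List (ℕ × ℕ)) (hfs : (fs.map fun f => f.1 ^ f.2).prod = N) (hpr : ∀ f ∈ fs, f.1.Prime)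
    (hb : ∀ f ∈ fs, ¬ f.1 ^ 2 ∣ N ∨ PBound G f.1 0) : HasCyclicSchurMultiplier G 1 :=
  Cover.Closed.mult fun Γ _ _ σ hσ => card_eq_one.1 (Nat.dvd_one.1 (card_ker_dvd
    (pbounds_of_list hN fs hfs hpr fun f hf => (hb f hf).imp id fun h => ⟨0, by simp, h⟩) Γ σ hσ))

/-- Stem extensions with kernels of coprime orders can be combined. -/
theorem Stem.prod {G : Type u} [Group G] {A : Type v} {B : Type w} [CommGroup A] [CommGroup B]
    (hA : Stem G A) (hB : Stem G B) (hco : (Nat.card A).Coprime (Nat.card B)) : Stem G (A × B) := by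
  obtain ⟨Γ₁, _, _, σ₁, h₁, ⟨e₁⟩⟩ := hA
  obtain ⟨Γ, _, _, σ, hσ, ⟨e⟩⟩ := hB
  rw [← Nat.card_congr e₁.toEquiv, ← Nat.card_congr e.toEquiv] at hco
  let P := Cover.pullback σ σ₁
  let p1 : P →* Γ₁ := Cover.pbFst σ σ₁
  let p2 : P →* Γ := Cover.pbSnd σ σ₁
  have hp : ∀ x, σ₁ (p1 x) = σ (p2 x) := Cover.pb_comm σ σ₁
  have s1 : Function.Surjective p1 := Cover.pbFst_surjective σ σ₁ hσ.1
  have s2 : Function.Surjective p2 := fun g => by
    obtain ⟨e, he⟩ := h₁.1 (σ g)
    exact ⟨⟨(e, g), he⟩, rfl⟩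
  let ρ : P →* G := σ₁.comp p1
  have hk2 : ∀ x ∈ ρ.ker, p2 x ∈ σ.ker := fun x hx => by
    rw [MonoidHom.mem_ker, ← hp]; exact hx
  have hc : ρ.ker ≤ center P := by
    intro x hx
    refine mem_center_iff.2 fun y => Cover.pb_ext σ σ₁ ?_ ?_
    · simpa using mem_center_iff.1 (h₁.2.1 hx) (p1 y)
    · simpa using mem_center_iff.1 (hσ.2.1 (hk2 x hx)) (p2 y)
  let f : ρ.ker →* σ₁.ker × σ.ker := ((p1.comp ρ.ker.subtype).codRestrict _ fun x => x.2).prod
    ((p2.comp ρ.ker.subtype).codRestrict _ fun x => hk2 x x.2)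
  have hf : Function.Bijective f := by
    constructor
    · intro x y h
      exact Subtype.ext (Cover.pb_ext σ σ₁ (congrArg (fun z => (z.1 : Γ₁)) h)
        (congrArg (fun z => (z.2 : Γ)) h))
    · rintro ⟨a, b⟩
      exact ⟨⟨⟨(a, b), show σ₁ a = σ b by rw [a.2, b.2]⟩, a.2⟩, rfl⟩
  refine Stem.of_any (σ := ρ) ⟨h₁.1.comp s1, hc, fun x hx => ?_⟩
    ((MulEquiv.ofBijective f hf).trans (e₁.prodCongr e))
  obtain ⟨y₁, hy₁, e₁⟩ := map_commutator_surj s1 (h₁.2.2 hx)
  obtain ⟨y₂, hy₂, e₂⟩ := map_commutator_surj s2 (hσ.2.2 (hk2 x hx))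
  have a1 : (y₁⁻¹ * x) ^ Nat.card σ.ker = 1 := by
    have h1 : p2 (y₁⁻¹ * x) ∈ σ.ker := by
      rw [MonoidHom.mem_ker, ← hp, map_mul, map_inv, e₁, inv_mul_cancel, map_one]
    refine Cover.pb_ext σ σ₁ ?_ ?_
    · change p1 _ = p1 _
      rw [map_pow, map_mul, map_inv, e₁, inv_mul_cancel, one_pow, map_one]
    · change p2 _ = p2 _
      rw [map_pow, map_one]
      exact congrArg Subtype.val (pow_card_eq_one' (x := (⟨_, h1⟩ : σ.ker)))
  have a2 : (y₂⁻¹ * x) ^ Nat.card σ₁.ker = 1 := by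
    have h1 : p1 (y₂⁻¹ * x) ∈ σ₁.ker := by
      rw [MonoidHom.mem_ker, hp, map_mul, map_inv, e₂, inv_mul_cancel, map_one]
    refine Cover.pb_ext σ σ₁ ?_ ?_
    · change p1 _ = p1 _
      rw [map_pow, map_one]
      exact congrArg Subtype.val (pow_card_eq_one' (x := (⟨_, h1⟩ : σ₁.ker)))
    · change p2 _ = p2 _
      rw [map_pow, map_mul, map_inv, e₂, inv_mul_cancel, one_pow, map_one]
  let π : P →* Abelianization P := Abelianization.of
  have k1 : ∀ y ∈ commutator P, π y = 1 := fun y hy => by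
    rw [← MonoidHom.mem_ker, Abelianization.ker_of]; exact hy
  have b1 := congrArg π a1
  have b2 := congrArg π a2
  rw [map_pow, map_mul, map_inv, map_one] at b1 b2
  rw [k1 _ hy₁, inv_one, one_mul] at b1
  rw [k1 _ hy₂, inv_one, one_mul] at b2
  have := pow_gcd_eq_one.2 ⟨b2, b1⟩
  rw [hco, pow_one, ← MonoidHom.mem_ker, Abelianization.ker_of] at this
  exact this

theorem Stem.mul {G : Type u} [Group G] {a b : ℕ} (hA : Stem G (Multiplicative (ZMod a)))
    (hB : Stem G (Multiplicative (ZMod b))) (hco : a.Coprime b) :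
    Stem G (Multiplicative (ZMod (a * b))) :=
  (hA.prod hB (show (Nat.card (ZMod a)).Coprime (Nat.card (ZMod b)) by
    rw [Nat.card_zmod, Nat.card_zmod]; exact hco)).of_equiv
    ((MulEquiv.prodMultiplicative _ _).symm.trans
      (AddEquiv.toMultiplicative (ZMod.chineseRemainder hco).toAddEquiv).symm)

theorem Stem.prodM {G : Type u} [Group G] {A : Type v} {B : Type w} [AddCommGroup A]
    [AddCommGroup B] (hA : Stem G (Multiplicative A)) (hB : Stem G (Multiplicative B))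
    (hco : (Nat.card A).Coprime (Nat.card B)) : Stem G (Multiplicative (A × B)) :=
  (hA.prod hB hco).of_equiv (MulEquiv.prodMultiplicative _ _).symm

/-- The generators in the word with positive exponent (`b = 0`) or negative exponent (`b = 1`). -/
noncomputable def sgn (b : ℕ) (w : List ℕ) : List ℕ :=
  List.rec [] (fun a _ ih => Bool.rec ih (Nat.div a 2 :: ih) (Nat.beq (Nat.mod a 2) b)) w

/-- All exponent sums of the word, in the generators below `m`, vanish. -/
noncomputable def bal (m : ℕ) (w : List ℕ) : Bool :=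
  allL w (fun a => Nat.ble (Nat.succ (Nat.div a 2)) m) &&
    lit (Nat.add (len w) 2) fun B => Nat.beq (vecOf B 0 (sgn 0 w)) (vecOf B 0 (sgn 1 w))

theorem sgn_cons (b a : ℕ) (w : List ℕ) :
    sgn b (a :: w) = if a % 2 = b then a / 2 :: sgn b w else sgn b w := by
  show (Bool.rec (sgn b w) (a / 2 :: sgn b w) (Nat.beq (a % 2) b) : List ℕ) = _
  cases h : Nat.beq (a % 2) b with
  | true => rw [if_pos (Nat.eq_of_beq_eq_true h)]
  | false => rw [if_neg (Nat.ne_of_beq_eq_false h)]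

theorem sgn_spec (b : ℕ) (w : List ℕ) :
    (sgn b w).length ≤ w.length ∧ ∀ j ∈ sgn b w, ∃ a ∈ w, j = a / 2 := by
  induction w with
  | nil => exact ⟨le_rfl, fun j hj => absurd hj List.not_mem_nil⟩
  | cons a w ih =>
    rw [sgn_cons]
    split_ifs
    · refine ⟨by simpa using ih.1, fun j hj => ?_⟩
      rcases List.mem_cons.1 hj with rfl | hj
      · exact ⟨a, by simp, rfl⟩
      · obtain ⟨c, hc, e⟩ := ih.2 j hj
        exact ⟨c, by simp [hc], e⟩
    · refine ⟨by have := ih.1; simp; omega, fun j hj => ?_⟩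
      obtain ⟨c, hc, e⟩ := ih.2 j hj
      exact ⟨c, by simp [hc], e⟩

theorem ev_sgn {C : Type*} [CommGroup C] (f : ℕ → C) (w : List ℕ) :
    ev (ext f) w * ((sgn 1 w).map f).prod = ((sgn 0 w).map f).prod := by
  induction w with
  | nil => simp [sgn]
  | cons a w ih =>
    rw [sgn_cons, sgn_cons, ev_cons, ext]
    rcases Nat.mod_two_eq_zero_or_one a with h | h
    · simp only [h, if_true, zero_ne_one, if_false, List.map_cons, List.prod_cons]
      rw [mul_assoc, ih]
    · simp only [h, if_true, one_ne_zero, if_false, List.map_cons, List.prod_cons]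
      rw [← ih, mul_mul_mul_comm, inv_mul_cancel, one_mul]

theorem bal_sound {G : Type*} [Group G] (γ : ℕ → G) {m : ℕ} {w : List ℕ} (h : bal m w = true) :
    ev (ext γ) w ∈ commutator G := by
  unfold bal at h
  simp only [lit_eq, Bool.and_eq_true, allL_iff, Nat.ble_eq, Nat.beq_eq, len_eq, Nat.add_eq] at h
  rw [← Abelianization.ker_of, MonoidHom.mem_ker, map_ev]
  simp only [map_ext]
  set f := fun j => Abelianization.of (γ j)
  have key : ∀ b, nfF f (w.length + 2) 0 m (vecOf (w.length + 2) 0 (sgn b w)) =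
      ((sgn b w).map f).prod := fun b => by
    have := (vecOf_sound f (B := w.length + 2) (o := 0) (N := m) (l := sgn b w) (fun j hj => by
      obtain ⟨a, ha, rfl⟩ := (sgn_spec b w).2 j hj
      have := h.1 a ha
      rw [zero_add]; exact this) (by have := (sgn_spec b w).1; omega)).2
    simpa using this
  have h1 := ev_sgn f w
  rw [← key, ← key, h.2] at h1
  exact mul_right_cancel (h1.trans (one_mul _).symm)

/-- Perfectness from balanced words for the generators. -/
theorem perfect_of_bal {G : Type*} [Group G] {γ : ℕ → G} {L : List ℕ} (gen : gp γ L = ⊤)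
    (h : ∀ a ∈ L, ∃ m w, bal m w = true ∧ ev (ext γ) w = ext γ a) : commutator G = ⊤ := by
  rw [eq_top_iff, ← gen]
  refine gp_le fun a ha => ?_
  obtain ⟨m, w, h1, h2⟩ := h a ha
  rw [← h2]
  exact bal_sound γ h1

theorem ext_pair {G X : Type*} [Group G] [Group X] (γ : ℕ → G) (y : ℕ → X) (a : ℕ) :
    ext (fun j => (γ j, y j)) a = (ext γ a, ext y a) :=
  Prod.ext (map_ext (MonoidHom.fst G X) _ a) (map_ext (MonoidHom.snd G X) _ a)

theorem ev_pair {G X : Type*} [Group G] [Group X] (γ : ℕ → G) (y : ℕ → X) (w : List ℕ) :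
    ev (ext fun j => (γ j, y j)) w = (ev (ext γ) w, ev (ext y) w) := by
  induction w with
  | nil => rfl
  | cons a w ih => rw [ev_cons, ih, ext_pair, ev_cons, ev_cons]; rfl

/-- A stem extension from a projective model. -/
theorem stem_of_model {G : Type u} [Group G] [Finite G] {γ : ℕ → G} {L : List ℕ} (gen : gp γ L = ⊤)
    {X : Type v} [Group X] (y : ℕ → X) {A : Type w} [CommGroup A] [Finite A] (ι : A →* X)
    (hι : Function.Injective ι) (hc : ∀ a j, Commute (ι a) (y j))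
    (hP : ∀ w : List ℕ, (∀ a ∈ w, a ∈ L ∨ a ^^^ 1 ∈ L) → ev (ext γ) w = 1 → ev (ext y) w ∈ ι.range)
    (S : Set A) (hS : closure S = ⊤)
    (hw : ∀ a ∈ S, ∃ m w, wordIn L w = true ∧ bal m w = true ∧ ev (ext γ) w = 1 ∧
      ev (ext y) w = ι a) : Stem G A := by
  classical
  let δ : ℕ → G × X := fun j => (γ j, y j)
  let Γ := gp δ L
  let σ : Γ →* G := (MonoidHom.fst G X).comp Γ.subtype
  have hce : ∀ a w, Commute (ι a) (ev (ext y) w) := by
    intro a w
    induction w with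
    | nil => exact Commute.one_right _
    | cons b w ih =>
      rw [ev_cons]
      refine Commute.mul_right ?_ ih
      unfold ext; split_ifs
      · exact hc a _
      · exact (hc a _).inv_right
  have hσ : Function.Surjective σ := fun g => by
    obtain ⟨w, h1, rfl⟩ := exists_word (gen ▸ mem_top g)
    exact ⟨⟨ev (ext δ) w, ev_mem _ _ _ fun a ha => ext_mem_gp' δ (h1 a ha)⟩,
      by simp [σ, δ, ev_pair]⟩
  have hk : ∀ x ∈ σ.ker, ∃ a, (x : G × X) = (1, ι a) := by
    rintro ⟨x, hx⟩ hx1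
    obtain ⟨w, h1, rfl⟩ := exists_word hx
    have h2 : ev (ext γ) w = 1 := by simpa [σ, δ, ev_pair] using hx1
    obtain ⟨a, ha⟩ := hP w h1 h2
    exact ⟨a, by simp [δ, ev_pair, h2, ha]⟩
  let δ' : ℕ → Γ := fun j => if h : δ j ∈ Γ then ⟨δ j, h⟩ else 1
  have hδ' : ∀ w, wordIn L w = true → ((ev (ext δ') w : Γ) : G × X) = ev (ext δ) w := by
    intro w hw
    rw [← Γ.coe_subtype, map_ev]
    refine ev_congr fun a ha => ?_
    have h1 : ext δ a ∈ Γ := wordIn_sound δ (w := [a]) (by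
      unfold wordIn at hw ⊢
      rw [allL_iff] at hw ⊢
      simpa using hw a ha) |> fun h => by simpa using h
    have h2 : δ (a / 2) ∈ Γ := by
      unfold ext at h1; split_ifs at h1
      · exact h1
      · exact inv_mem_iff.1 h1
    rw [map_ext]
    unfold ext
    simp [δ', h2]
  have hA : ∀ a : A, ∃ x ∈ commutator Γ, (x : G × X) = (1, ι a) := by
    intro a
    have : a ∈ closure S := hS ▸ mem_top a
    induction this using closure_induction with
    | mem a ha =>
      obtain ⟨m, w, h1, h2, h3, h4⟩ := hw a ha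
      exact ⟨ev (ext δ') w, bal_sound δ' h2, by rw [hδ' w h1, ev_pair, h3, h4]⟩
    | one => exact ⟨1, Subgroup.one_mem _, by simp; rfl⟩
    | mul a b _ _ ha hb =>
      obtain ⟨x, hx, ex⟩ := ha
      obtain ⟨z, hz, ez⟩ := hb
      exact ⟨x * z, Subgroup.mul_mem _ hx hz, by simp [ex, ez]⟩
    | inv a _ ha =>
      obtain ⟨x, hx, ex⟩ := ha
      exact ⟨x⁻¹, Subgroup.inv_mem _ hx, by simp [ex]⟩
  have hm : ∀ a, ((1, ι a) : G × X) ∈ Γ := fun a => by
    obtain ⟨x, -, e⟩ := hA a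
    exact e ▸ x.2
  let f : A →* σ.ker :=
    { toFun := fun a => ⟨⟨(1, ι a), hm a⟩, rfl⟩
      map_one' := Subtype.ext (Subtype.ext (by simp))
      map_mul' := fun a b => Subtype.ext (Subtype.ext (by simp)) }
  have hf : Function.Bijective f := by
    constructor
    · intro a b h
      exact hι (congrArg (fun z : σ.ker => ((z : Γ) : G × X).2) h)
    · intro x
      obtain ⟨a, ha⟩ := hk x x.2
      exact ⟨a, Subtype.ext (Subtype.ext ha.symm)⟩
  haveI : Finite σ.ker := Finite.of_surjective f hf.2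
  haveI : Finite Γ := (MonoidHom.finite_iff_finite_ker_range σ).2 ⟨inferInstance, inferInstance⟩
  refine Stem.of_any (σ := σ) ⟨hσ, fun x hx => ?_, fun x hx => ?_⟩ (MulEquiv.ofBijective f hf).symm
  · obtain ⟨a, ha⟩ := hk x hx
    refine mem_center_iff.2 fun z => Subtype.ext ?_
    obtain ⟨w, -, hz⟩ := exists_word z.2
    rw [Subgroup.coe_mul, Subgroup.coe_mul, ha, ← hz, ev_pair]
    exact Prod.ext (by simp) (hce a w).eq.symm
  · obtain ⟨a, ha⟩ := hk x hx
    obtain ⟨z, hz, e⟩ := hA a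
    rwa [show x = z from Subtype.ext (ha.trans e.symm)]

end Cfsg.Agent.Mult
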