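import Cfsg.Agent.Mult.Std

set_option autoImplicit false
set_option linter.style.haveILetI false
set_option linter.unusedSectionVars false

/-! From a generating family of a linear group to a certificate. -/

namespace Cfsg.Agent.Mult

open Subgroup hiding ext
open Cfsg.Agent.CGT Equiv

/-- The derived generators with letters `L` generate. -/
noncomputable def genB (q D : ℕ) (Bs Rs : List Pl) (L : List ℕ) (U : List (List ℕ)) : Bool :=
  allLt Bs.length fun a => wordIn L (nth [] U a) && isW q D Rs (nth [] U a) (nth [] Bs a)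

/-- The value of `u` is the value of a word in the letters `L`. -/
noncomputable def inB (q D : ℕ) (Rs : List Pl) (L u v : List ℕ) : Bool :=
  wordIn L v && wordK q Rs (idP D) u (isW q D Rs v)

/-- The subgroup generated by the letters `L` is the commutator subgroup. -/
noncomputable def commB (q D : ℕ) (Rs : List Pl) (c : ℕ) (L : List ℕ) (m : ℕ)
    (X Y Z : List (List ℕ)) : Bool :=
  allLt L.length fun i => Nat.ble (Nat.succ (nth 0 L i)) Rs.length &&
    (bal m (nth [] X i) && (isW q D Rs (nth [] X i) (nth [] Rs (nth 0 L i)) &&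
    (inB q D Rs L [c, nth 0 L i, Nat.xor c 1] (nth [] Y i) &&
      inB q D Rs L [Nat.xor c 1, nth 0 L i, c] (nth [] Z i))))

theorem commutator_eq {G : Type*} [Group G] {H : Subgroup G} {c : G} {s : Set G}
    (hs : closure s = H) (gen : closure (insert c s) = ⊤) (h1 : H ≤ commutator G)
    (h2 : ∀ x ∈ s, c * x * c⁻¹ ∈ H) (h3 : ∀ x ∈ s, c⁻¹ * x * c ∈ H) : commutator G = H := by
  have key : ∀ d : G, (∀ x ∈ s, d * x * d⁻¹ ∈ H) → ∀ x ∈ H, d * x * d⁻¹ ∈ H := fun d h => by
    have : closure s ≤ H.comap (MulAut.conj d).toMonoidHom := (closure_le _).2 h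
    rw [hs] at this
    exact this
  have hc : c ∈ normalizer (H : Set G) := mem_normalizer_iff.2 fun x =>
    ⟨key c h2 x, fun h => by simpa [mul_assoc] using key c⁻¹ (by simpa using h3) _ h⟩
  haveI : H.Normal := by
    rw [← normalizer_eq_top_iff, eq_top_iff, ← gen, closure_le]
    rintro x (rfl | hx)
    · exact hc
    · exact le_normalizer (hs ▸ subset_closure hx)
  refine le_antisymm ?_ h1
  have h4 : (⊤ : Subgroup G) ≤ (zpowers (QuotientGroup.mk' H c)).comap (QuotientGroup.mk' H) := by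
    rw [← gen, closure_le]
    rintro x (rfl | hx)
    · exact mem_zpowers _
    · have : QuotientGroup.mk' H x = 1 := (QuotientGroup.eq_one_iff x).2 (hs ▸ subset_closure hx)
      rw [SetLike.mem_coe, mem_comap, this]; exact one_mem _
  rw [_root_.commutator_def, commutator_le]
  intro x hx y hy
  obtain ⟨a, ha⟩ := h4 hx
  obtain ⟨b, hb⟩ := h4 hy
  rw [← QuotientGroup.eq_one_iff, ← QuotientGroup.mk'_apply, map_commutatorElement, ← ha, ← hb,
    commutatorElement_eq_one_iff_commute]
  exact Commute.zpow_zpow_self _ _ _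

namespace Co

variable {q : ℕ} {F V : Type*} [Field F] [AddCommGroup V] [Module F V] (C : Co q F V)
  {G Q : Type*} [Group G] [Group Q]

/-- `G` is a linear group generated by elements with matrices `Bs`, and `π` is the quotient by the
scalars. -/
def Base (π : G →* Q) (Bs : List Pl) : Prop :=
  Function.Surjective π ∧ ∃ (ρ : G →* Module.End F V) (β : ℕ → G), Function.Injective ρ ∧
    C.ActsL ρ β Bs ∧ (∀ H : Subgroup G, (∀ a < Bs.length, β a ∈ H) → H = ⊤) ∧
    ∀ x, π x = 1 ↔ ∃ a : Fˣ, ρ x = (a : F) • 1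

variable {C}

theorem Base.cert {π : G →* Q} {Bs : List Pl} (hB : C.Base π Bs) {W : List (List ℕ)} {Rs : List Pl}
    (hd : derB q C.D Bs W Rs = true) {L : List ℕ} {U : List (List ℕ)}
    (hg : genB q C.D Bs Rs L U = true) {Ts : List Pl} (hT : C.Scal Ts) {P : Pl} (hP : P.length ≤ C.D)
    {N : ℕ} (hu : ∀ i j, i < N → j < N → ∀ a : Fˣ, C.vec P i = (a : F) • C.vec P j → i = j)
    {k : ℕ} {ns : List Net} (hv : validAll (2 ^ k) ns = true) (hfix : fixAbove k N ns = true)
    (h1 : W.length ≤ ns.length) (ha : ∀ j < ns.length, Mult.actB q C.D Rs Ts P ns j = true)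
    {ts : List Tab} (ht : TabsOK k (lp ns) ts) {ls : List Level}
    (hs : ∀ (φ : Q →* Perm ℕ) (γ : ℕ → Q), Model φ γ k ns ts → ChainSound φ (gp γ L) k [] ls)
    {R : List (List ℕ)} (hR : ∀ w ∈ R, Mult.scalW q C.D Rs Ts w = true) {n : ℕ}
    (hb : ∀ γ : ℕ → Q, Holds (ext γ) R → Bd (gp γ L) n) (e : Nat.ble n (chainCard ls) = true) :
    ∃ (γ : ℕ → Q) (φ : Q →* Perm ℕ), CGT.Cert φ γ k ns ts L ls ∧ Holds (ext γ) R := by
  obtain ⟨hπ, ρ, β, hρ, h2, h3, h4⟩ := hB
  have h5 := h2.der hd
  exact ⟨_, h5.cert π hπ h4 (h5.gen hρ h2 h3 hg) hT hP hu hv hfix (fun j hj => by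
    rw [CGT.der, nth_eq, List.getD_eq_default _ _ (h1.trans hj), ev_nil]) ha ht (fun φ => hs φ _) hR
    (hb _) e⟩

theorem ActsL.inB {ρ : G →* Module.End F V} {γ : ℕ → G} {Rs : List Pl} (h : C.ActsL ρ (ext γ) Rs)
    (hρ : Function.Injective ρ) {L u v : List ℕ} (e : inB q C.D Rs L u v = true) :
    ev (ext γ) u ∈ gp γ L := by
  rw [Mult.inB, Bool.and_eq_true] at e
  obtain ⟨Q, h1, h2⟩ := h.word e.2
  rw [h.isW hρ h1 h2]
  exact wordIn_sound γ e.1

/-- The commutator subgroup. -/
theorem Base.comm {Bs : List Pl} (hB : C.Base (MonoidHom.id G) Bs) {W : List (List ℕ)} {Rs : List Pl}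
    (hd : derB q C.D Bs W Rs = true) {c : ℕ} {L : List ℕ} {U : List (List ℕ)}
    (hg : genB q C.D Bs Rs (c :: L) U = true) {m : ℕ} {X Y Z : List (List ℕ)}
    (hc : commB q C.D Rs c L m X Y Z = true) :
    C.Base (MonoidHom.id (commutator G)) (L.map (nth [] Rs)) := by
  obtain ⟨-, ρ, β, hρ, h2, h3, h4⟩ := hB
  have h5 := h2.der hd
  have gen := h5.gen hρ h2 h3 hg
  set γ := CGT.der β W
  simp only [commB, allLt_iff, Bool.and_eq_true, Nat.ble_eq] at hc
  have hL : ∀ a ∈ L, ∃ i < L.length, nth 0 L i = a := fun a ha => by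
    obtain ⟨i, hi, rfl⟩ := List.getElem_of_mem ha
    exact ⟨i, hi, by rw [nth_eq, List.getD_eq_getElem _ _ hi]⟩
  have hm : ∀ i < L.length, ext γ (nth 0 L i) ∈ commutator G := fun i hi => by
    obtain ⟨h6, h7, h8, -⟩ := hc i hi
    rw [h5.isW hρ (h5 _ h6) h8]
    exact bal_sound γ h7
  have e : commutator G = gp γ L := by
    refine commutator_eq (c := ext γ c) (s := {x | ∃ a ∈ L, ext γ a = x}) rfl ?_ ?_ ?_ ?_
    · rw [← gen, gp]; congr 1; ext x; simp [eq_comm]
    · refine gp_le fun a ha => ?_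
      obtain ⟨i, hi, rfl⟩ := hL a ha
      exact hm i hi
    · rintro _ ⟨a, ha, rfl⟩
      obtain ⟨i, hi, rfl⟩ := hL a ha
      simpa [ext_xor_one, mul_assoc] using h5.inB hρ (hc i hi).2.2.2.1
    · rintro _ ⟨a, ha, rfl⟩
      obtain ⟨i, hi, rfl⟩ := hL a ha
      simpa [ext_xor_one, mul_assoc] using h5.inB hρ (hc i hi).2.2.2.2
  refine ⟨Function.surjective_id, ρ.comp (commutator G).subtype,
    fun i => if h : i < L.length then ⟨_, hm i h⟩ else 1, hρ.comp Subtype.val_injective,
    fun i hi => ?_, fun H hH => ?_, fun x => ?_⟩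
  · rw [List.length_map] at hi
    have : nth [] (L.map (nth [] Rs)) i = nth [] Rs (nth 0 L i) := by
      rw [nth_eq, nth_eq 0, List.getD_eq_getElem _ _ hi, List.getD_eq_getElem _ _ (by simpa using hi),
        List.getElem_map]
    rw [this]
    simp only [hi, dif_pos]
    exact h5 _ (hc i hi).1
  · apply map_injective (commutator G).subtype_injective
    rw [← MonoidHom.range_eq_map, range_subtype]
    refine le_antisymm (map_subtype_le _) (e.le.trans (gp_le fun a ha => ?_))
    obtain ⟨i, hi, rfl⟩ := hL a ha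
    have := hH i (by simpa using hi)
    simp only [hi, dif_pos] at this
    exact ⟨_, this, rfl⟩
  · exact Subtype.ext_iff.trans (h4 x.1)

end Co

end Cfsg.Agent.Mult
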