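import Cfsg.Agent.Mult.Spread

set_option autoImplicit false

/-! A collector with tails for the kernel. -/

namespace Cfsg.Agent.Mult

open Cfsg.Agent.CGT

/-- A power-conjugate presentation with fusion data. `tab[i][i]` is the power word of `x i`,
`tab[i][j]` (`i < j`) the conjugate of `x j` by `x i`; `nc[i]` masks the letters after `i` that do not
commute with `x i`; `fp` lists triples `(g, q, q')` with `x g * q = q' * x g`; `lq`, `lt` only help to
find the lowest non-zero digit of a number. -/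
structure PC where
  p : ℕ
  n : ℕ
  wb : ℕ
  w : ℕ
  tab : List (List ℕ)
  nc : List ℕ
  fp : List (ℕ × ℕ × ℕ)
  lq : ℕ
  lt : ℕ

namespace PC

variable (D : PC)

/-- The base of the digits of words. -/
def b : ℕ := Nat.pow 2 D.wb

/-- The base of the digits of vectors of tails. -/
def B : ℕ := Nat.pow 2 D.w

/-- The multiplier for spreading. -/
noncomputable def sm : ℕ := ones (Nat.pow 2 (Nat.sub D.w D.wb)) D.n

/-- The mask for spreading. -/
noncomputable def sk : ℕ := Nat.mul (Nat.sub D.b 1) (ones D.B D.n)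

/-- The number of unknown tails. -/
noncomputable def N : ℕ :=
  Nat.add (Nat.mul D.n D.n) (List.rec 0 (fun _ _ ih => Nat.succ ih) D.fp)

/-- Table look-up. -/
noncomputable def W (i j : ℕ) : ℕ := nth 0 (nth [] D.tab i) j

/-- Mask look-up. -/
noncomputable def NC (i : ℕ) : ℕ := nth 0 D.nc i

/-- Fusion triple look-up. -/
noncomputable def FP (a : ℕ) : ℕ × ℕ × ℕ := nth (0, 0, 0) D.fp a

theorem N_eq : D.N = D.n * D.n + D.fp.length := by
  unfold N
  congr 1
  induction D.fp with
  | nil => rfl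
  | cons a l ih => exact congrArg Nat.succ ih

theorem B_eq : D.B = 2 ^ D.w := rfl

theorem b_eq : D.b = 2 ^ D.wb := rfl

/-- Good words. -/
def Good (u : ℕ) : Prop := Gd (D.p - 1) D.b D.n u

/-- The shape conditions on the data. -/
structure OK : Prop where
  p_pos : 2 ≤ D.p
  p_lt : D.p < D.b
  wide : D.n * D.wb + D.wb ≤ D.w
  good : ∀ i j, i ≤ j → j < D.n → D.Good (D.W i j)
  low : ∀ i j, i ≤ j → j < D.n → D.W i j % D.b ^ (i + 1) = 0
  comm : ∀ i j, i < j → j < D.n →
    D.NC i / D.b ^ (j - (i + 1)) % D.b = D.b - 1 ∨ D.W i j = D.b ^ j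
  fgood : ∀ a < D.fp.length, D.Good (D.FP a).2.1 ∧ D.Good (D.FP a).2.2

/-- Kernel test of the shape conditions. -/
noncomputable def okB : Bool :=
  lit D.b fun B => lit (Nat.sub D.p 1) fun c =>
  Nat.ble 2 D.p && (Nat.ble (Nat.succ D.p) B && (Nat.ble (Nat.add (Nat.mul D.n D.wb) D.wb) D.w &&
  (allLt D.n (fun i => lit i fun i => allLt D.n fun j => lit j fun j => Nat.ble (Nat.succ j) i ||
    lit (D.W i j) fun x => gdB c B D.n x && (Nat.beq (Nat.mod x (Nat.pow B (Nat.succ i))) 0 &&
      (Nat.beq i j || (Nat.beq (Nat.mod (Nat.div (D.NC i) (Nat.pow B (Nat.sub j (Nat.succ i)))) B)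
        (Nat.sub B 1) || Nat.beq x (Nat.pow B j))))) &&
  allL D.fp fun t => gdB c B D.n t.2.1 && gdB c B D.n t.2.2)))

theorem ok_of_okB (h : D.okB = true) : D.OK := by
  unfold okB at h
  simp only [lit_eq, Bool.and_eq_true, Bool.or_eq_true, allLt_iff, allL_iff, Nat.ble_eq,
    Nat.beq_eq] at h
  obtain ⟨h1, h2, hw, h3, h4⟩ := h
  have h5 : ∀ i j, i ≤ j → j < D.n → gdB (D.p - 1) D.b D.n (D.W i j) = true ∧
      D.W i j % D.b ^ (i + 1) = 0 ∧ (i = j ∨ D.NC i / D.b ^ (j - (i + 1)) % D.b = D.b - 1 ∨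
        D.W i j = D.b ^ j) := fun i j hij hj =>
    (h3 i (by omega) j hj).resolve_left (by simp only [Nat.succ_eq_add_one]; omega)
  refine ⟨h1, h2, hw, fun i j hij hj => gdB_sound (h5 i j hij hj).1, fun i j hij hj => (h5 i j hij hj).2.1,
    fun i j hij hj => (h5 i j hij.le hj).2.2.resolve_left (by omega), fun a ha => ?_⟩
  have : D.FP a ∈ D.fp := by
    rw [FP, nth_eq, List.getD_eq_getElem _ _ ha]; exact List.getElem_mem ha
  exact ⟨gdB_sound (h4 _ this).1, gdB_sound (h4 _ this).2⟩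

/-- The normal word with exponent vector `u`. -/
def nf {Γ : Type*} [Monoid Γ] (X : ℕ → Γ) (u : ℕ) : Γ := nfF X D.b 0 D.n u

/-- The product of the normal words of a list. -/
def nfL {Γ : Type*} [Monoid Γ] (X : ℕ → Γ) (l : List ℕ) : Γ := (l.map (D.nf X)).prod

/-- The value of a vector of tails. -/
noncomputable def tau {C : Type*} [Monoid C] (T : ℕ → C) (x : ℕ) : C := nfF T D.B 0 D.N x

/-- Lifts `X` of the generators, with central tails `T`. -/
structure Setting {Γ C : Type*} [Group Γ] [CommGroup C] (ι : C →* Γ) (X : ℕ → Γ) (T : ℕ → C) :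
    Prop where
  cen : ∀ c g, ι c * g = g * ι c
  pow : ∀ i < D.n, X i ^ D.p = D.nf X (D.W i i) * ι (T (i * D.n + i))
  conj : ∀ i j, i < j → j < D.n → X j * X i = X i * D.nf X (D.W i j) * ι (T (i * D.n + j))
  fus : ∀ a < D.fp.length, X (D.FP a).1 * D.nf X (D.FP a).2.1 =
    D.nf X (D.FP a).2.2 * ι (T (D.n * D.n + a)) * X (D.FP a).1

/-- Put the conjugates by `x i` of the letters of `h` (first digit: letter `j`) on the stack. -/
noncomputable def push (B i m j h : ℕ) (stk : List ℕ) : List ℕ :=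
  Nat.rec (motive := fun _ => ℕ → ℕ → List ℕ) (fun _ _ => stk)
    (fun _ ih j h => Bool.rec
      (Nat.rec (lit (Nat.succ j) fun j' => lit (Nat.div h B) fun h' => ih j' h')
        (fun _ l => D.W i j :: l) (Nat.mod h B)) stk (Nat.beq h 0)) m j h

/-- A guess of the position of the lowest non-zero digit. -/
def low (x : ℕ) : ℕ :=
  Nat.land (Nat.shiftRight D.lt (Nat.mul (Nat.mod (Nat.xor x (Nat.sub x (nat_lit 1))) D.lq) (nat_lit 8)))
    (nat_lit 255)

/-- Moving the letter `i` into place; `s = B^i`, `v = u / s`. -/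
noncomputable def slow (B : ℕ) (ih : ℕ → ℕ → List ℕ → Bool) (u acc x : ℕ) (stk : List ℕ)
    (i s v : ℕ) : Bool :=
  lit (Nat.mod v B) fun e => lit (Nat.div v B) fun hi =>
  lit (Nat.add (Nat.mul i D.n) i) fun r =>
  lit (Nat.add acc (Nat.shiftLeft (Nat.land (Nat.mul hi D.sm) D.sk) (Nat.mul D.w (Nat.succ r))))
    fun acc1 =>
  lit (Nat.sub D.n (Nat.succ i)) fun m0 =>
  lit (Bool.rec (Nat.land hi (D.NC i))
    (Bool.rec hi (Nat.land hi (D.NC i)) (Nat.beq (D.W i i) 0)) (Nat.beq (Nat.succ e) D.p)) fun nc =>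
  lit (Bool.rec (D.low nc) m0 (Nat.beq nc 0)) fun t =>
  lit (Nat.pow B t) fun Bt =>
  Nat.ble t m0 && (Nat.beq (Nat.mod nc Bt) 0 &&
  lit (Nat.mul B (Nat.mod hi Bt)) fun kp =>
  lit (Nat.div hi Bt) fun h => lit (Nat.add (Nat.succ i) t) fun j0 => lit (Nat.sub m0 t) fun m1 =>
  lit (Nat.sub x s) fun x' =>
  Bool.rec
    (lit (Nat.add (Nat.mod u s) (Nat.mul s (Nat.add (Nat.succ e) kp))) fun u' =>
      ih u' acc1 (D.push B i m1 j0 h (x' :: stk)))
    (lit (Nat.add (Nat.mod u s) (Nat.mul s kp)) fun u' =>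
      lit (Nat.add acc1 (Nat.pow D.B r)) fun acc2 =>
      ih u' acc2 (D.W i i :: D.push B i m1 j0 h (x' :: stk)))
    (Nat.beq (Nat.succ e) D.p))

/-- One step of the collection. -/
noncomputable def step (B : ℕ) (ih : ℕ → ℕ → List ℕ → Bool) (u acc x : ℕ) (stk : List ℕ) : Bool :=
  lit x fun x => Bool.rec
    (lit (D.low x) fun i => lit (Nat.pow B i) fun s =>
      Nat.beq (Nat.mod x s) 0 &&
      lit (Nat.div u s) fun v => lit (Nat.mod (Nat.div x s) B) fun a =>
      Bool.rec (lit (Nat.add u x) fun u' => ih u' acc stk)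
        (Nat.ble 1 a && D.slow B ih u acc x stk i s v) (Nat.ble D.p (Nat.add v a)))
    (ih u acc stk) (Nat.beq x 0)

/-- Collection from the left. -/
noncomputable def run (B : ℕ) (k : ℕ → ℕ → Bool) (fuel u acc : ℕ) (stk : List ℕ) : Bool :=
  Nat.rec (motive := fun _ => ℕ → ℕ → List ℕ → Bool) (fun _ _ _ => false)
    (fun _ ih u acc stk => List.rec (k u acc) (fun x stk' _ => D.step B ih u acc x stk') stk)
    fuel u acc stk

variable {D}

section sound
variable {Γ C : Type*} [Group Γ] [CommGroup C] {ι : C →* Γ} {X : ℕ → Γ} {T : ℕ → C}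

theorem nfL_nil (X : ℕ → Γ) : D.nfL X [] = 1 := rfl

theorem nfL_cons (X : ℕ → Γ) (a : ℕ) (l : List ℕ) : D.nfL X (a :: l) = D.nf X a * D.nfL X l := by
  simp [nfL]

theorem push_succ (B i m j h : ℕ) (stk : List ℕ) :
    D.push B i (m + 1) j h stk = Bool.rec (Nat.rec (motive := fun _ => List ℕ)
      (D.push B i m (j + 1) (h / B) stk) (fun _ l => D.W i j :: l) (h % B)) stk (Nat.beq h 0) := rfl

theorem nfL_rec (X : ℕ → Γ) (a c : ℕ) (l : List ℕ) :
    D.nfL X (Nat.rec (motive := fun _ => List ℕ) l (fun _ l => a :: l) c) =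
      D.nf X a ^ c * D.nfL X l := by
  induction c with
  | zero => simp
  | succ c ih =>
    show D.nfL X (a :: Nat.rec (motive := fun _ => List ℕ) l (fun _ l => a :: l) c) = _
    rw [nfL_cons, ih, pow_succ', mul_assoc]

theorem mem_rec {a c b : ℕ} {l : List ℕ}
    (h : b ∈ (Nat.rec (motive := fun _ => List ℕ) l (fun _ l => a :: l) c)) : b = a ∨ b ∈ l := by
  induction c with
  | zero => exact Or.inr h
  | succ c ih =>
    rcases List.mem_cons.1 h with h | h
    · exact Or.inl h
    · exact ih h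

theorem nfL_push (X : ℕ → Γ) (B i m j h : ℕ) (stk : List ℕ) :
    D.nfL X (D.push B i m j h stk) = nfF (fun j => D.nf X (D.W i j)) B j m h * D.nfL X stk := by
  induction m generalizing j h with
  | zero => rw [nfF_zero, one_mul]; rfl
  | succ m ih =>
    rw [push_succ]
    cases hh : Nat.beq h 0 with
    | true => rw [Nat.eq_of_beq_eq_true hh, nfF_zero', one_mul]
    | false =>
      show D.nfL X (Nat.rec (motive := fun _ => List ℕ) _ (fun _ l => D.W i j :: l) (h % B)) = _
      rw [nfL_rec, ih, nfF_succ, mul_assoc]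

theorem mem_push {B i m j h b : ℕ} {stk : List ℕ} (hb : b ∈ D.push B i m j h stk) :
    (∃ r < m, b = D.W i (j + r)) ∨ b ∈ stk := by
  induction m generalizing j h with
  | zero => exact Or.inr hb
  | succ m ih =>
    rw [push_succ] at hb
    cases hh : Nat.beq h 0 with
    | true => rw [hh] at hb; exact Or.inr hb
    | false =>
      rw [hh] at hb
      rcases mem_rec hb with h1 | h1
      · exact Or.inl ⟨0, by omega, h1⟩
      · rcases ih h1 with ⟨r, hr, h2⟩ | h2
        · exact Or.inl ⟨r + 1, by omega, by rw [h2]; congr 1; omega⟩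
        · exact Or.inr h2

theorem Setting.conj_pow (S : D.Setting ι X T) {i j : ℕ} (hij : i < j) (hj : j < D.n) (c : ℕ) :
    X j ^ c * X i = X i * D.nf X (D.W i j) ^ c * ι (T (i * D.n + j) ^ c) := by
  induction c with
  | zero => simp
  | succ c ih =>
    rw [pow_succ', mul_assoc, ih, ← mul_assoc, ← mul_assoc, S.conj i j hij hj, pow_succ',
      pow_succ' (T _), map_mul, mul_assoc (X i * _), S.cen (T _)]
    simp only [mul_assoc]

theorem Setting.conj_nfF (S : D.Setting ι X T) (B : ℕ) {i j m : ℕ} (hij : i < j) (hj : j + m ≤ D.n)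
    (h : ℕ) : nfF X B j m h * X i = X i * nfF (fun j => D.nf X (D.W i j)) B j m h *
      ι (nfF T B (i * D.n + j) m h) := by
  induction m generalizing j h with
  | zero => simp [nfF_zero]
  | succ m ih =>
    rw [nfF_succ, nfF_succ, nfF_succ, mul_assoc, ih (by omega) (by omega), ← mul_assoc, ← mul_assoc,
      S.conj_pow hij (by omega), map_mul, mul_assoc (X i * _), S.cen (T _ ^ _), add_assoc]
    simp only [mul_assoc]

theorem keep_eq (ok : D.OK) (X : ℕ → Γ) {i t hi : ℕ} (ht : i + 1 + t ≤ D.n)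
    (h : (hi &&& D.NC i) % D.b ^ t = 0) :
    nfF (fun j => D.nf X (D.W i j)) D.b (i + 1) t (hi % D.b ^ t) =
      nfF X D.b (i + 1) t (hi % D.b ^ t) := by
  have hB : 1 < D.b := by have := ok.p_pos; have := ok.p_lt; omega
  refine nfF_congr D.b fun r hr => ?_
  rcases ok.comm i (i + 1 + r) (by omega) (by omega) with h1 | h1
  · left
    have h2 := digit_mod_pow (B := D.b) hr (hi &&& D.NC i)
    rw [h, b_eq, digit_land, ← b_eq] at h2
    rw [show i + 1 + r - (i + 1) = r by omega] at h1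
    rw [h1, b_eq, Nat.and_two_pow_sub_one_eq_mod, Nat.mod_mod, ← b_eq] at h2
    rw [digit_mod_pow hr, ← h2]; simp
  · right
    rw [h1, nf, nfF_pow X hB (by omega)]

theorem spread_sound (ok : D.OK) (T : ℕ → C) {c m h : ℕ} (hg : Gd c D.b m h) (hm : m ≤ D.n)
    (a : ℕ) : Gd c D.B m (h * D.sm &&& D.sk) ∧
      nfF T D.B a m (h * D.sm &&& D.sk) = nfF T D.b a m h := by
  have hb : 0 < D.b := Nat.two_pow_pos _
  have hh : h < (2 ^ D.wb) ^ D.n := (hg.lt hb).trans_le (Nat.pow_le_pow_right hb hm)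
  have h1 : ∀ r < D.n, (h * D.sm &&& D.sk) / D.B ^ r % D.B = h / D.b ^ r % D.b := fun r hr =>
    spread_digit ok.wide hh hr
  exact ⟨Gd_of_digits (spread_lt (by have := ok.wide; omega)) hm h1 hg,
    nfF_of_digits T fun r hr => h1 r (by omega)⟩

/-- The invariant of the collection. -/
structure St (D : PC) (X : ℕ → Γ) (ι : C →* Γ) (T : ℕ → C) (c : ℕ) (g : Γ) (u acc : ℕ)
    (stk : List ℕ) : Prop where
  gu : D.Good u
  gs : ∀ x ∈ stk, D.Good x
  ga : Gd c D.B D.N acc
  val : D.nf X u * D.nfL X stk * ι (D.tau T acc) = g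

theorem slow_sound (ok : D.OK) (S : D.Setting ι X T) {ih : ℕ → ℕ → List ℕ → Bool}
    {c u acc x : ℕ} {stk : List ℕ} {g : Γ} (hst : St D X ι T c g u acc (x :: stk))
    (hc : c + D.p < D.B) {i : ℕ} (hin : i < D.n) (hx : x % D.b ^ i = 0)
    (ha : 1 ≤ x / D.b ^ i % D.b)
    (h : D.slow D.b ih u acc x stk i (D.b ^ i) (u / D.b ^ i) = true) :
    ∃ u' acc' stk', St D X ι T (c + D.p) g u' acc' stk' ∧ ih u' acc' stk' = true := by
  have hp := ok.p_pos
  have hpB := ok.p_lt
  have hB : 1 < D.b := by omega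
  have hB0 : 0 < D.b := by omega
  obtain ⟨m0, hm0⟩ : ∃ m0, D.n = i + (m0 + 1) := ⟨D.n - i - 1, by omega⟩
  unfold slow at h
  simp only [lit_eq, Bool.and_eq_true, Nat.ble_eq, Nat.beq_eq] at h
  simp only [Nat.add_eq, Nat.mul_eq, Nat.pow_eq, Nat.succ_eq_add_one, Nat.sub_eq, div_eq',
    mod_eq', Nat.land_eq] at h
  rw [show D.n - (i + 1) = m0 by omega] at h
  -- the pieces of `u` and `x`
  have hlo : u % D.b ^ i < D.b ^ i := Nat.mod_lt _ (by positivity)
  have hu := split_eq D.b i u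
  have hgu := hst.gu
  have hval := hst.val
  generalize u % D.b ^ i = lo at *
  have he : u / D.b ^ i % D.b < D.b := Nat.mod_lt _ hB0
  generalize u / D.b ^ i % D.b = e at *
  generalize u / D.b ^ i / D.b = hi at *
  rw [Good, hu, hm0, Gd_split hB0 _ hlo he] at hgu
  obtain ⟨glo, ge, ghi⟩ := hgu
  have hx2 := split_eq D.b i x
  have hgx := hst.gs x (by simp)
  rw [hx] at hx2
  have hax : x / D.b ^ i % D.b < D.b := Nat.mod_lt _ hB0
  generalize x / D.b ^ i % D.b = a at *
  generalize x / D.b ^ i / D.b = xh at *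
  obtain ⟨a, rfl⟩ : ∃ a', a = a' + 1 := ⟨a - 1, by omega⟩
  have hx3 : x - D.b ^ i = 0 + D.b ^ i * (a + D.b * xh) := by
    rw [hx2]; apply Nat.sub_eq_of_eq_add; ring
  rw [Good, hx2, hm0, Gd_split hB0 _ (by positivity) hax] at hgx
  have hgx' : D.Good (x - D.b ^ i) := by
    rw [Good, hx3, hm0, Gd_split hB0 _ (by positivity) (by omega)]
    exact ⟨hgx.1, by omega, hgx.2.2⟩
  have hnx : D.nf X x = X i * D.nf X (x - D.b ^ i) := by
    rw [hx3, nf, nf, hx2, hm0, nfF_split X _ hB0 _ (by positivity) hax,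
      nfF_split X _ hB0 _ (by positivity) (by omega), nfF_zero', one_mul, one_mul, pow_succ',
      mul_assoc]
  have hnu : D.nf X u = nfF X D.b 0 i lo * (X i ^ e * nfF X D.b (i + 1) m0 hi) := by
    rw [nf, hu, hm0, nfF_split X _ hB0 _ hlo he]
  generalize x - D.b ^ i = x' at *
  -- the tails
  have hN : i * D.n + i + 1 + m0 ≤ D.N := by
    rw [N_eq]; nlinarith
  have hBB : 1 < D.B := by omega
  obtain ⟨gsp, nsp⟩ := spread_sound ok T ghi (by omega) (i * D.n + i + 1)
  generalize (hi * D.sm &&& D.sk) = sp at *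
  rw [show sp.shiftLeft (D.w * (i * D.n + i + 1)) = sp * D.B ^ (i * D.n + i + 1) by
    rw [B_eq, ← pow_mul]; exact Nat.shiftLeft_eq _ _] at h
  have ga1 : Gd (c + (D.p - 1)) D.B D.N (acc + sp * D.B ^ (i * D.n + i + 1)) :=
    hst.ga.add (gsp.mul_pow (by omega) hN) (by omega)
  have ta1 : D.tau T (acc + sp * D.B ^ (i * D.n + i + 1)) =
      D.tau T acc * nfF T D.b (i * D.n + (i + 1)) m0 hi := by
    rw [tau, nfF_add_comm T hst.ga (gsp.mul_pow (by omega) hN) (by omega),
      nfF_mul_pow T (by omega) gsp hN, nsp]; rfl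
  generalize acc + sp * D.B ^ (i * D.n + i + 1) = acc1 at *
  generalize hnc : (Bool.rec (hi &&& D.NC i) (Bool.rec hi (hi &&& D.NC i) ((D.W i i).beq 0))
    ((e + 1).beq D.p) : ℕ) = nc at h
  generalize (Bool.rec (D.low nc) m0 (nc.beq 0) : ℕ) = t at h
  obtain ⟨ht, hnc0, h⟩ := h
  obtain ⟨m1, rfl⟩ : ∃ m1, m0 = t + m1 := ⟨m0 - t, by omega⟩
  rw [show t + m1 - t = m1 by omega] at h
  have hconj := S.conj_nfF D.b (i := i) (j := i + 1) (m := t + m1) (by omega) (by omega) hi
  rw [nfF_add (fun j => D.nf X (D.W i j))] at hconj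
  have gk : Gd (D.p - 1) D.b (t + m1) (hi % D.b ^ t) := ((Gd_add _ _ _).1 ghi).1.extend hB0 m1
  have nk : nfF X D.b (i + 1) (t + m1) (hi % D.b ^ t) = nfF X D.b (i + 1) t (hi % D.b ^ t) := by
    rw [nfF_add, Nat.mod_mod, Nat.div_eq_of_lt (Nat.mod_lt _ (by positivity)), nfF_zero', mul_one]
  have gpush : ∀ b ∈ D.push D.b i m1 (i + 1 + t) (hi / D.b ^ t) (x' :: stk), D.Good b := by
    intro b hb
    rcases mem_push hb with ⟨r, hr, rfl⟩ | hb
    · exact ok.good _ _ (by omega) (by omega)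
    · rcases List.mem_cons.1 hb with rfl | hb
      · exact hgx'
      · exact hst.gs b (by simp [hb])
  rw [nfL_cons, hnx, hnu] at hval
  have key : g = nfF X D.b 0 i lo * (X i ^ (e + 1) *
      nfF (fun j => D.nf X (D.W i j)) D.b (i + 1) t (hi % D.b ^ t)) *
      D.nfL X (D.push D.b i m1 (i + 1 + t) (hi / D.b ^ t) (x' :: stk)) * ι (D.tau T acc1) := by
    rw [← hval, nfL_push, nfL_cons, ta1, mul_comm (D.tau T acc), map_mul, pow_succ]
    simp only [mul_assoc]
    congr 2
    rw [← mul_assoc (nfF X D.b (i + 1) (t + m1) hi), hconj]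
    simp only [mul_assoc]
    congr 3
    rw [← mul_assoc (ι _), S.cen, mul_assoc, ← mul_assoc (ι _), S.cen, mul_assoc]
  cases hov : (e + 1).beq D.p with
  | false =>
    rw [hov] at h hnc
    have hov' : e + 1 ≠ D.p := by
      intro h1; rw [h1, Nat.beq_refl] at hov; exact absurd hov (by simp)
    refine ⟨_, _, _, ⟨?_, gpush, ga1.mono (by omega), ?_⟩, h⟩
    · rw [Good, hm0, Gd_split hB0 _ hlo (by omega)]
      exact ⟨glo, by omega, gk⟩
    · rw [key, nf, hm0, nfF_split X _ hB0 _ hlo (by omega), nk, keep_eq ok X (by omega)]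
      rw [← hnc0, ← hnc]
  | true =>
    rw [hov] at h hnc
    have hov' : e + 1 = D.p := Nat.eq_of_beq_eq_true hov
    have hN2 : i * D.n + i < D.N := by omega
    have ga2 := ga1.add (Gd.pow hBB hN2) (by omega)
    refine ⟨_, _, _, ⟨?_, ?_, ga2.mono (by omega), ?_⟩, h⟩
    · rw [Good, hm0, ← zero_add (D.b * _), Gd_split hB0 _ hlo (by omega)]
      exact ⟨glo, by omega, gk⟩
    · intro b hb
      rcases List.mem_cons.1 hb with rfl | hb
      · exact ok.good _ _ le_rfl hin
      · exact gpush b hb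
    · rw [key, nf, ← zero_add (D.b * _), hm0, nfF_split X _ hB0 _ hlo (by omega), ← hm0, nk,
        hov', S.pow i hin, nfL_cons, tau, nfF_add_comm T ga1 (Gd.pow hBB hN2) (by omega),
        nfF_pow T hBB hN2, pow_zero, one_mul, mul_comm (nfF T _ _ _ _), map_mul]
      have h3 : nfF X D.b (i + 1) t (hi % D.b ^ t) * D.nf X (D.W i i) = D.nf X (D.W i i) *
          nfF (fun j => D.nf X (D.W i j)) D.b (i + 1) t (hi % D.b ^ t) := by
        cases hw : (D.W i i).beq 0 with
        | true =>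
          rw [hw] at hnc
          rw [Nat.eq_of_beq_eq_true hw, keep_eq ok X (by omega), nf, nfF_zero', mul_one, one_mul]
          rw [← hnc0, ← hnc]
        | false =>
          rw [hw] at hnc
          have : hi % D.b ^ t = 0 := by rw [← hnc0, ← hnc]
          rw [this, nfF_zero', nfF_zero', mul_one, one_mul]
      simp only [mul_assoc]
      congr 1
      rw [← mul_assoc, h3, mul_assoc]
      congr 1
      rw [← map_mul, mul_comm (T _), map_mul, S.cen (T _)]
      simp only [mul_assoc]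
      rfl

theorem step_sound (ok : D.OK) (S : D.Setting ι X T) {ih : ℕ → ℕ → List ℕ → Bool}
    {c u acc x : ℕ} {stk : List ℕ} {g : Γ} (hst : St D X ι T c g u acc (x :: stk))
    (hc : c + D.p < D.B) (h : D.step D.b ih u acc x stk = true) :
    ∃ u' acc' stk', St D X ι T (c + D.p) g u' acc' stk' ∧ ih u' acc' stk' = true := by
  have hp := ok.p_pos
  have hpB := ok.p_lt
  have hB0 : 0 < D.b := by omega
  unfold step at h
  simp only [lit_eq] at h
  cases hx0 : Nat.beq x 0 with
  | true =>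
    rw [hx0] at h
    refine ⟨u, acc, stk, ⟨hst.gu, fun b hb => hst.gs b (by simp [hb]), hst.ga.mono (by omega), ?_⟩, h⟩
    rw [← hst.val, nfL_cons, Nat.eq_of_beq_eq_true hx0, nf, nf, nfF_zero', one_mul]
  | false =>
    rw [hx0] at h
    have hx0' : x ≠ 0 := by
      intro h1; rw [h1, Nat.beq_refl] at hx0; exact absurd hx0 (by simp)
    generalize D.low x = i at h
    simp only [Bool.and_eq_true, Nat.beq_eq, Nat.add_eq, Nat.pow_eq, div_eq',
      mod_eq'] at h
    obtain ⟨hx, h⟩ := h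
    have hgx := hst.gs x (by simp)
    have hi : i < D.n := by
      by_contra hcon
      have h1 : x < D.b ^ i := (hgx.lt hB0).trans_le (Nat.pow_le_pow_right hB0 (by omega))
      rw [Nat.mod_eq_of_lt h1] at hx
      exact hx0' hx
    cases hf : Nat.ble D.p (u / D.b ^ i + x / D.b ^ i % D.b) with
    | true =>
      rw [hf] at h
      simp only [Bool.and_eq_true, Nat.ble_eq] at h
      exact slow_sound ok S hst hc hi hx h.1 h.2
    | false =>
      rw [hf] at h
      have hf' : u / D.b ^ i + x / D.b ^ i % D.b < D.p := by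
        by_contra h1
        rw [Nat.ble_eq_true_of_le (by omega)] at hf
        exact absurd hf (by simp)
      obtain ⟨m0, hm0⟩ : ∃ m0, D.n = i + (m0 + 1) := ⟨D.n - i - 1, by omega⟩
      have hlo : u % D.b ^ i < D.b ^ i := Nat.mod_lt _ (by positivity)
      have hu : u = u % D.b ^ i + D.b ^ i * (u / D.b ^ i + D.b * 0) := by
        rw [mul_zero, add_zero, Nat.mod_add_div]
      have hx2 := split_eq D.b i x
      rw [hx] at hx2
      have hgu := hst.gu
      have hval := hst.val
      have hax : x / D.b ^ i % D.b < D.b := Nat.mod_lt _ hB0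
      generalize u % D.b ^ i = lo at *
      generalize u / D.b ^ i = e at *
      generalize x / D.b ^ i % D.b = a at *
      generalize x / D.b ^ i / D.b = xh at *
      have hux : u + x = lo + D.b ^ i * (e + a + D.b * xh) := by rw [hu, hx2]; ring
      rw [Good, hu, hm0, Gd_split hB0 _ hlo (by omega)] at hgu
      rw [Good, hx2, hm0, Gd_split hB0 _ (by positivity) hax] at hgx
      refine ⟨u + x, acc, stk, ⟨?_, fun b hb => hst.gs b (by simp [hb]), hst.ga.mono (by omega), ?_⟩,
        h⟩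
      · rw [Good, hux, hm0, Gd_split hB0 _ hlo (by omega)]
        exact ⟨hgu.1, by omega, hgx.2.2⟩
      · rw [← hval, nfL_cons, ← mul_assoc]
        congr 2
        rw [hux, nf, nf, nf, hu, hx2, hm0, nfF_split X _ hB0 _ hlo (by omega),
          nfF_split X _ hB0 _ hlo (by omega), nfF_split X _ hB0 _ (by positivity) hax, nfF_zero',
          nfF_zero', pow_add]
        simp only [mul_one, one_mul, mul_assoc]

theorem run_sound (ok : D.OK) (S : D.Setting ι X T) {k : ℕ → ℕ → Bool} {fuel c u acc : ℕ}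
    {stk : List ℕ} {g : Γ} (hst : St D X ι T c g u acc stk) (hc : c + fuel * D.p < D.B)
    (h : D.run D.b k fuel u acc stk = true) :
    ∃ u' acc', St D X ι T (c + fuel * D.p) g u' acc' [] ∧ k u' acc' = true := by
  induction fuel generalizing c u acc stk with
  | zero => exact absurd h (by simp [run])
  | succ f ih =>
    cases stk with
    | nil => exact ⟨u, acc, ⟨hst.gu, hst.gs, hst.ga.mono (by omega), hst.val⟩, h⟩
    | cons x stk =>
      rw [Nat.succ_mul] at hc
      obtain ⟨u', acc', stk', h1, h2⟩ := step_sound ok S (ih := D.run D.b k f) hst (by omega) h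
      obtain ⟨u'', acc'', h3, h4⟩ := ih h1 (by omega) h2
      refine ⟨u'', acc'', ?_, h4⟩
      rwa [Nat.succ_mul, add_comm (f * D.p), ← add_assoc]

/-- Collection of a list of good words. -/
theorem run_val (ok : D.OK) (S : D.Setting ι X T) {k : ℕ → ℕ → Bool} {fuel c acc : ℕ}
    {stk : List ℕ} (hs : ∀ x ∈ stk, D.Good x) (ha : Gd c D.B D.N acc) (hc : c + fuel * D.p < D.B)
    (h : D.run D.b k fuel 0 acc stk = true) :
    ∃ u' acc', D.Good u' ∧ Gd (c + fuel * D.p) D.B D.N acc' ∧
      D.nf X u' * ι (D.tau T acc') = D.nfL X stk * ι (D.tau T acc) ∧ k u' acc' = true := by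
  obtain ⟨u', acc', h1, h2⟩ := run_sound ok S (g := D.nfL X stk * ι (D.tau T acc))
    ⟨Gd.zero _, hs, ha, by rw [nf, nfF_zero', one_mul]⟩ hc h
  exact ⟨u', acc', h1.gu, h1.ga, by rw [← h1.val, nfL_nil, mul_one], h2⟩

end sound

end PC

end Cfsg.Agent.Mult
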