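import Cfsg.Agent.Mult.Base
import Cfsg.Agent.Polar.Pts
import Cfsg.Agent.Polar.Span
import Cfsg.Agent.Polar.Std
import Cfsg.Agent.Chev.Gen
import Cfsg.Agent.GLn.Transv

set_option autoImplicit false
set_option linter.style.haveILetI false
set_option linter.unusedSectionVars false

/-! Generating families of classical groups and Chevalley groups over small fields. -/

namespace Cfsg.Agent.Mult

open Subgroup hiding ext
open Cfsg.Agent.CGT Cfsg.Agent.Polar Cfsg.Agent.Forms Cfsg.Lie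

variable {K : Type} [Field K] [Fintype K] [DecidableEq K] {q : ℕ} (S : KF K q)
  {ι : Type} [Fintype ι] [DecidableEq ι] (I : Ix ι) {F : Type*} [Field F]

/-- A field element from its code. -/
def KF.nm (n : ℕ) : K := ((n % q : ℕ) : K) + ((n / q : ℕ) : K) * S.θ

/-- A vector from its codes. -/
noncomputable def KF.vc (l : List ℕ) (z : ι) : K := S.nm (nth 0 l (I.σ z))

/-- The matrix representation as a linear one. -/
noncomputable def linOf {G : Type*} [Group G] (μ : G →* Matrix ι ι F) : G →* Module.End F (ι → F) :=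
  (Matrix.toLinAlgEquiv' (R := F) (n := ι)).toMulEquiv.toMonoidHom.comp μ

theorem linOf_inj {G : Type*} [Group G] {μ : G →* Matrix ι ι F} (h : Function.Injective μ) :
    Function.Injective (linOf μ) := Matrix.toLinAlgEquiv'.injective.comp h

theorem linOf_apply {G : Type*} [Group G] (μ : G →* Matrix ι ι F) (g : G) :
    linOf μ g = Matrix.toLinAlgEquiv' (μ g) := rfl

/-! ### Polar spaces -/

/-- A polar space over the model field. -/
structure KP (K ι : Type) where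
  B : (ι → K) → (ι → K) → K
  ok : (ι → K) → K → Bool
  ε : K

/-- The model describes `P`. -/
structure KP.Models (X : KP K ι) (ψ : K ≃+* F) {τ : F →+* F} {π : FP F τ} (P : PQ π (ι → F)) :
    Prop where
  B : ∀ x y, P.B (ψ ∘ x) (ψ ∘ y) = ψ (X.B x y)
  ok : ∀ x c, P.QEq (ψ ∘ x) (ψ c) ↔ X.ok x c = true
  ε : π.ε = ψ X.ε

/-- The projection of a unit vector to the complement of a hyperbolic pair. -/
def KP.pr (X : KP K ι) (e f : ι → K) (z : ι) : ι → K :=
  Pi.single z 1 - X.B (Pi.single z 1) f • e - (X.ε * X.B (Pi.single z 1) e) • f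

/-- The matrix of an Eichler transformation. -/
def KP.eM (X : KP K ι) (e w : ι → K) (c : K) (z z' : ι) : K :=
  (if z = z' then 1 else 0) + X.B (Pi.single z' 1) e * w z -
    (X.ε * (X.B (Pi.single z' 1) w + c * X.B (Pi.single z' 1) e)) * e z

/-- The list of Eichler transformations generates and has the matrices `Bs`. -/
def KP.Gen (X : KP K ι) (e f : List ℕ) (Es : List (List ℕ × List ℕ × ℕ)) (Bs : List Pl) : Prop :=
  (X.ok (S.vc I e) 0 = true ∧ X.ok (S.vc I f) 0 = true ∧ X.B (S.vc I e) (S.vc I f) = 1) ∧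
  (∀ u ∈ [e, f], (∀ z (k : K), k • X.pr (S.vc I e) (S.vc I f) z = 0 ∨
      ∃ p ∈ Es, p.1 = u ∧ S.vc I p.2.1 = k • X.pr (S.vc I e) (S.vc I f) z) ∧
    ∀ c, X.ok 0 c = true → c = 0 ∨ ∃ p ∈ Es, p.1 = u ∧ S.vc I p.2.1 = 0 ∧ S.nm p.2.2 = c) ∧
  Es.length = Bs.length ∧ ∀ a < Bs.length, (fun p : List ℕ × List ℕ × ℕ =>
    X.ok (S.vc I p.1) 0 = true ∧ X.B (S.vc I p.2.1) (S.vc I p.1) = 0 ∧
      X.ok (S.vc I p.2.1) (S.nm p.2.2) = true ∧
      S.Chk I (X.eM (S.vc I p.1) (S.vc I p.2.1) (S.nm p.2.2)) (nth [] Bs a)) (nth ([], [], 0) Es a)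

noncomputable instance (X : KP K ι) (e f : List ℕ) (Es : List (List ℕ × List ℕ × ℕ)) (Bs : List Pl) :
    Decidable (X.Gen S I e f Es Bs) := by unfold KP.Gen; infer_instance

variable {S I}

theorem exists_nth {α : Type} (d : α) {l : List α} {x : α} (h : x ∈ l) :
    ∃ i < l.length, nth d l i = x := by
  obtain ⟨i, hi, rfl⟩ := List.getElem_of_mem h
  exact ⟨i, hi, by rw [nth_eq, List.getD_eq_getElem _ _ hi]⟩

theorem comp_single (ψ : K ≃+* F) (z : ι) : ψ ∘ (Pi.single z 1 : ι → K) = Pi.single z 1 := by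
  funext x; by_cases h : x = z <;> simp [h]

theorem eg_base [Fintype F] {X : KP K ι} {ψ : K ≃+* F} {τ : F →+* F} {π : FP F τ}
    {P : PQ π (ι → F)} (hX : X.Models ψ P) (hP : P.ND) (h3 : 3 ≤ Fintype.card ι) {G : Type*}
    [Group G] (η : G ≃* P.EG) {e f : List ℕ} {Es : List (List ℕ × List ℕ × ℕ)} {Bs : List Pl}
    (h : X.Gen S I e f Es Bs) :
    (stdCo S I ψ.toRingHom).Base (QuotientGroup.mk' (center G)) Bs := by
  obtain ⟨⟨h1, h2, h4⟩, h5, h6, h7⟩ := h
  have hs : ∀ x, X.ok x 0 = true → P.Sing (ψ ∘ x) := fun x hx => by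
    have := (hX.ok x 0).2 hx
    rwa [map_zero] at this
  have hy : P.Hyp (ψ ∘ S.vc I e) (ψ ∘ S.vc I f) := ⟨hs _ h1, hs _ h2, by rw [hX.B, h4, map_one]⟩
  let ρ : G →* Module.End F (ι → F) := LinearEquiv.automorphismGroup.toLinearMapMonoidHom.comp
    (P.Iso.subtype.comp (P.EG.subtype.comp η.toMonoidHom))
  have hρ : Function.Injective ρ := fun x y hxy => η.injective (Subtype.ext (PQ.iso_ext fun v =>
    LinearMap.congr_fun hxy v))
  let E : List ℕ × List ℕ × ℕ → P.Iso := fun p =>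
    P.eich (ψ ∘ S.vc I p.1) (ψ ∘ S.vc I p.2.1) (ψ (S.nm p.2.2))
  have hE : ∀ a < Bs.length, P.EOk (ψ ∘ S.vc I (nth ([], [], 0) Es a).1)
      (ψ ∘ S.vc I (nth ([], [], 0) Es a).2.1) (ψ (S.nm (nth ([], [], 0) Es a).2.2)) := fun a ha =>
    ⟨hs _ (h7 a ha).1, by rw [hX.B, (h7 a ha).2.1, map_zero], (hX.ok _ _).2 (h7 a ha).2.2.1⟩
  haveI : Nonempty ι := Fintype.card_pos_iff.1 (by omega)
  refine ⟨QuotientGroup.mk'_surjective _, ρ,
    fun a => η.symm ⟨E (nth ([], [], 0) Es a), PQ.eich_mem_EG _ _ _⟩, hρ, fun a ha => ?_,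
    fun H hH => ?_, mk_eq_one_iff hρ fun z hz => ?_⟩
  · refine acts_std (fun z' => ?_) (h7 a ha).2.2.2
    have : ∀ (g : P.EG) (v : ι → F), ρ (η.symm g) v = (g : P.Iso) • v := fun g v => by
      change (η (η.symm g) : P.Iso) • v = _
      rw [η.apply_symm_apply]
    rw [this, (hE a ha).eich_smul, ← comp_single ψ, hX.B, hX.B, hX.ε]
    funext z
    by_cases e : z = z' <;> simp [KP.eM, e]
  · let H' := (H.map η.toMonoidHom).map P.EG.subtype
    have hm : ∀ p ∈ Es, P.EOk (ψ ∘ S.vc I p.1) (ψ ∘ S.vc I p.2.1) (ψ (S.nm p.2.2)) ∧ E p ∈ H' :=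
      fun p hp => by
        obtain ⟨a, ha, rfl⟩ := exists_nth ([], [], 0) hp
        exact ⟨hE a (h6 ▸ ha), _, ⟨_, hH a (h6 ▸ ha), η.apply_symm_apply _⟩, rfl⟩
    have k1 : ∀ u ∈ [e, f], P.Sing (ψ ∘ S.vc I u) → (∀ c ∈ π.Λ, P.eich (ψ ∘ S.vc I u) 0 c ∈ H') ∧
        ∀ z (a : F), ∃ c, P.EOk (ψ ∘ S.vc I u) (a • (ψ ∘ X.pr (S.vc I e) (S.vc I f) z)) c ∧
          P.eich (ψ ∘ S.vc I u) (a • (ψ ∘ X.pr (S.vc I e) (S.vc I f) z)) c ∈ H' := by
      intro u hu hsu
      have e0 : ψ ∘ (0 : ι → K) = 0 := by funext; simp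
      refine ⟨fun c hc => ?_, fun z a => ?_⟩
      · obtain ⟨c, rfl⟩ := ψ.surjective c
        rcases (h5 u hu).2 c ((hX.ok 0 c).1 (e0 ▸ (PQ.EOk.lam hsu hc).val)) with rfl | ⟨p, hp, rfl, h8, rfl⟩
        · rw [map_zero, PQ.eich_zero]; exact one_mem _
        · have := (hm p hp).2
          simp only [E, h8, e0] at this
          exact this
      · obtain ⟨k, rfl⟩ := ψ.surjective a
        have e1 : ψ k • (ψ ∘ X.pr (S.vc I e) (S.vc I f) z) = ψ ∘ (k • X.pr (S.vc I e) (S.vc I f) z) := by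
          funext x; simp
        rw [e1]
        rcases (h5 u hu).1 z k with h8 | ⟨p, hp, rfl, h8⟩
        · rw [h8, e0]
          exact ⟨0, PQ.EOk.zero hsu, by rw [PQ.eich_zero]; exact one_mem _⟩
        · rw [← h8]; exact ⟨_, hm p hp⟩
    have k2 : P.EG ≤ H' := hy.EG_le_of_span hP (fun z => ψ ∘ X.pr (S.vc I e) (S.vc I f) z)
      (fun w hw => by
        rw [PQ.mem_perp_pair] at hw
        let T : (ι → F) →ₗ[F] (ι → F) := LinearMap.id -
          (P.B.flip (ψ ∘ S.vc I f)).smulRight (ψ ∘ S.vc I e) -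
          (π.ε • P.B.flip (ψ ∘ S.vc I e)).smulRight (ψ ∘ S.vc I f)
        have t1 : T w = w := by simp [T, hw.1, hw.2]
        have t2 : ∀ z, T (Pi.single z 1) = ψ ∘ X.pr (S.vc I e) (S.vc I f) z := fun z => by
          simp only [T, LinearMap.sub_apply, LinearMap.id_apply, LinearMap.smulRight_apply,
            LinearMap.flip_apply, LinearMap.smul_apply]
          rw [← comp_single ψ, hX.B, hX.B, hX.ε]
          funext x; simp [KP.pr]
        rw [← t1, pi_eq_sum_univ' w, map_sum]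
        refine Submodule.sum_mem _ fun z _ => ?_
        rw [map_smul, t2]
        exact Submodule.smul_mem _ _ (Submodule.subset_span ⟨z, rfl⟩))
      (k1 e (by simp) hy.left).1 (k1 f (by simp) hy.right).1 (k1 e (by simp) hy.left).2
      (k1 f (by simp) hy.right).2
    rw [eq_top_iff]
    intro x _
    obtain ⟨_, ⟨y, hy, rfl⟩, h8⟩ := k2 (η x).2
    rwa [← η.injective (Subtype.ext h8)]
  · obtain ⟨t, ht⟩ := PQ.exists_scalar_of_commute hP (hP.rich (by simpa using h3)) hy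
      (z := (η z : P.Iso)) fun g hg => by
        have := congrArg (fun x => (η x : P.Iso)) (mem_center_iff.1 hz (η.symm ⟨g, hg⟩))
        simpa using this.symm
    exact ⟨t, LinearMap.ext ht⟩

/-- The symplectic model. -/
def kpSp (K : Type) [Field K] (n : ℕ) : KP K (Fin n ⊕ Fin n) :=
  ⟨fun u v => ∑ i, (u (.inr i) * v (.inl i) - u (.inl i) * v (.inr i)), fun _ _ => true, -1⟩

theorem kpSp_models (ψ : K ≃+* F) (n : ℕ) : (kpSp K n).Models ψ (spStd F n) :=
  ⟨fun x y => by simp [spStd_B, sympB_eq, kpSp], fun _ _ => iff_of_true trivial rfl,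
    by simp [kpSp, spFP]⟩

/-- The unitary model. -/
def kpU (K : Type) [Field K] [DecidableEq K] (n r : ℕ) : KP K (Fin n) :=
  ⟨fun u v => ∑ i, u i * v i ^ r, fun x c => decide (c + c ^ r = ∑ i, x i * x i ^ r), 1⟩

theorem kpU_models [Fintype F] {r : ℕ} (hF : Fintype.card F = r ^ 2) (ψ : K ≃+* F) (n : ℕ) :
    (kpU K n r).Models ψ (uStd hF n) :=
  ⟨fun x y => by simp [uStd_B, hermForm, kpU], fun x c => by
    rw [PQ.u_QEq_iff, uStd_B, kpU, decide_eq_true_iff, ← ψ.injective.eq_iff]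
    simp [hermForm, frobq_apply], by simp [kpU]⟩

/-- The orthogonal models. -/
def kpO (Q : (ι → K) → K) : KP K ι :=
  ⟨fun u v => Q (u + v) - Q u - Q v, fun x c => decide (Q x = c), 1⟩

theorem kpO_models (ψ : K ≃+* F) {Q : (ι → K) → K} {Q' : QuadraticForm F (ι → F)}
    (h : ∀ x, Q' (ψ ∘ x) = ψ (Q x)) : (kpO Q).Models ψ (PQ.ofQuad Q') :=
  ⟨fun x y => by
    have : ψ ∘ x + ψ ∘ y = ψ ∘ (x + y) := by funext; simp
    change Q' (ψ ∘ x + ψ ∘ y) - Q' (ψ ∘ x) - Q' (ψ ∘ y) = _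
    rw [this, h, h, h, kpO, map_sub, map_sub], fun x c => by
    rw [PQ.o_QEq_iff, kpO, decide_eq_true_iff, ← ψ.injective.eq_iff, ← h]; rfl, by simp [kpO]⟩

theorem sp_base [Fintype F] (ψ : K ≃+* F) {n : ℕ} (hn : 2 ≤ n) {I : Ix (Fin n ⊕ Fin n)} {e f Es Bs}
    (h : (kpSp K n).Gen S I e f Es Bs) : (stdCo S I ψ.toRingHom).Base
      (QuotientGroup.mk' (center (Matrix.symplecticGroup (Fin n) F))) Bs :=
  eg_base (kpSp_models ψ n) (spStd_nd n) (by simp; omega) (spEquivEG n) h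

theorem su_base [Fintype F] {r : ℕ} (hF : Fintype.card F = r ^ 2) (ψ : K ≃+* F) {n : ℕ} (hn : 3 ≤ n)
    {I : Ix (Fin n)} {e f Es Bs} (h : (kpU K n r).Gen S I e f Es Bs) :
    (stdCo S I ψ.toRingHom).Base (QuotientGroup.mk' (center (SU n F r))) Bs :=
  eg_base (kpU_models hF ψ n) (uStd_nd hF n) (by simpa) (suEquiv hF n) h

theorem oplus_base [Fintype F] (ψ : K ≃+* F) {n : ℕ} (hn : 3 ≤ n) {I : Ix (Fin n ⊕ Fin n)}
    {e f Es Bs} (h : (kpO (quadFormPlus n K)).Gen S I e f Es Bs) : (stdCo S I ψ.toRingHom).Base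
      (QuotientGroup.mk' (center (Omega F (quadFormPlus n F)))) Bs :=
  eg_base (kpO_models ψ (Q' := QPlus n F) fun x => by simp [QPlus_apply, quadFormPlus])
    (ofQuad_nd (QPlus_nondegenerate n)) (by simp; omega)
    (omegaEquiv (QPlus_nondegenerate n) (by simp; omega)) h

theorem oodd_base [Fintype F] (h2 : (2 : F) ≠ 0) (ψ : K ≃+* F) {n : ℕ} (hn : 2 ≤ n)
    {I : Ix (Unit ⊕ (Fin n ⊕ Fin n))} {e f Es Bs} (h : (kpO (quadFormOdd n K)).Gen S I e f Es Bs) :
    (stdCo S I ψ.toRingHom).Base (QuotientGroup.mk' (center (Omega F (quadFormOdd n F)))) Bs :=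
  eg_base (kpO_models ψ (Q' := QOdd n F) fun x => by simp [QOdd_apply, quadFormOdd])
    (ofQuad_nd (QOdd_nondegenerate n h2)) (by simp; omega)
    (omegaEquiv (QOdd_nondegenerate n h2) (by simp; omega)) h

/-! ### Special linear groups -/

theorem sl_base (ψ : K ≃+* F) {n : ℕ} (hn : 1 ≤ n) {I : Ix (Fin (n + 1))}
    {Es : List (Fin (n + 1) × ℕ)} {Bs : List Pl} (h1 : ∀ i k, k = 0 ∨ ∃ p ∈ Es, p.1 = i ∧ S.nm p.2 = k)
    (h2 : Es.length = Bs.length) (h3 : ∀ a < Bs.length, (fun p : Fin (n + 1) × ℕ => S.Chk I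
      (1 + Matrix.single p.1 (p.1 + 1) (S.nm p.2) : Matrix _ _ K) (nth [] Bs a)) (nth (0, 0) Es a)) :
    (stdCo S I ψ.toRingHom).Base
      (QuotientGroup.mk' (center (Matrix.SpecialLinearGroup (Fin (n + 1)) F))) Bs := by
  have hne : ∀ i : Fin (n + 1), i ≠ i + 1 := fun i e => by
    have := congrArg Fin.val (left_eq_add.1 e)
    rw [Fin.val_one', Nat.mod_eq_of_lt (by omega)] at this
    exact one_ne_zero this
  have hρ : Function.Injective (linOf (slToMat (n + 1) F)) := linOf_inj fun _ _ e => Subtype.ext e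
  refine ⟨QuotientGroup.mk'_surjective _, _, fun a => Matrix.SpecialLinearGroup.transvection
    (hne (nth (0, 0) Es a).1) (ψ (S.nm (nth (0, 0) Es a).2)), hρ, fun a ha => ?_, fun H hH => ?_,
    mk_eq_one_iff hρ fun z hz => ?_⟩
  · convert acts_mat (ψ := ψ.toRingHom) (h3 a ha) using 1
    rw [linOf_apply]
    congr 1
    change (1 : Matrix _ _ F) + Matrix.single _ _ _ = _
    ext x y
    simp [Matrix.one_apply, Matrix.single_apply, apply_ite ψ]
  · refine GLn.eq_top_of_rootIn_cycle hn fun i hi a => ?_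
    obtain ⟨k, rfl⟩ := ψ.surjective a
    rcases h1 i k with rfl | ⟨p, hp, rfl, rfl⟩
    · rw [map_zero, GLn.tv_zero]; exact one_mem _
    · obtain ⟨a, ha, rfl⟩ := exists_nth (0, 0) hp
      exact hH a (h2 ▸ ha)
  · obtain ⟨r, -, hr⟩ := Matrix.SpecialLinearGroup.mem_center_iff.1 hz
    refine ⟨r, ?_⟩
    rw [linOf_apply, show slToMat (n + 1) F z = Matrix.scalar _ r from hr.symm]
    ext x y
    simp [Matrix.toLinAlgEquiv'_apply, Pi.single_apply]

/-! ### Chevalley groups -/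

variable {D : ChevalleyDatum} (C : Chev.Cert D)

/-- A root element. -/
noncomputable def xE (F : Type*) [Field F] (p : ℕ × F) : D.group F :=
  if h : p.1 < D.nroots then (C.sys F).x ⟨p.1, h⟩ p.2 else 1

theorem xE_coe (p : ℕ × F) : Chev.Cert.toMat D F (xE C F p) = D.x F p.1 p.2 := by
  unfold xE
  split_ifs with h
  · exact C.sys_x_coe ⟨p.1, h⟩ p.2
  · rw [map_one, ChevalleyDatum.x, dif_neg h]

theorem chev_acts (ψ : K →+* F) {I : Ix D.Idx} {Es : List (ℕ × ℕ)} {Bs : List Pl}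
    (h : ∀ a < Bs.length, S.Chk I (D.x K (nth (0, 0) Es a).1 (S.nm (nth (0, 0) Es a).2)) (nth [] Bs a)) :
    (stdCo S I ψ).ActsL (linOf (Chev.Cert.toMat D F))
      (fun a => xE C F ((nth (0, 0) Es a).1, ψ (S.nm (nth (0, 0) Es a).2))) Bs := fun a ha => by
  convert acts_mat (ψ := ψ) (h a ha) using 1
  rw [linOf_apply, xE_coe]
  congr 1
  by_cases hr : (nth (0, 0) Es a).1 < D.nroots
  · rw [C.x_eq ⟨_, hr⟩, C.x_eq ⟨_, hr⟩, ← C.map_xR]; rfl
  · simp [ChevalleyDatum.x, hr]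

include C in
theorem chev_base (ψ : K ≃+* F) {I : Ix D.Idx} {Es : List (ℕ × ℕ)} {Bs : List Pl}
    (h1 : ∀ i < D.rank, ∀ r ∈ [D.simple i, D.neg (D.simple i)], ∀ k, k = 0 ∨
      ∃ p ∈ Es, p.1 = r ∧ S.nm p.2 = k) (h2 : Es.length = Bs.length)
    (h : ∀ a < Bs.length, S.Chk I (D.x K (nth (0, 0) Es a).1 (S.nm (nth (0, 0) Es a).2)) (nth [] Bs a)) :
    (stdCo S I ψ.toRingHom).Base (MonoidHom.id (D.group F)) Bs := by
  have hρ := linOf_inj (Chev.Cert.toMat_inj (D := D) F)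
  refine ⟨Function.surjective_id, _, _, hρ, chev_acts C ψ.toRingHom h, fun H hH => ?_,
    id_eq_one_iff hρ ((C.sys F).center_eq_bot (C.sys_φ_inj F))⟩
  have key : ∀ (i : Chev.Nd D) (r : Chev.Rt D), r.1 ∈ [D.simple i, D.neg (D.simple i)] → ∀ t,
      (C.sys F).x r t ∈ H := fun i r hr t => by
    obtain ⟨k, rfl⟩ := ψ.surjective t
    rcases h1 i i.2 r hr k with rfl | ⟨p, hp, e, rfl⟩
    · rw [map_zero, Chev.Sys.x_zero]; exact one_mem _
    · obtain ⟨a, ha, rfl⟩ := exists_nth (0, 0) hp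
      have := hH a (h2 ▸ ha)
      rwa [xE, dif_pos (e ▸ r.2), show (⟨_, _⟩ : Chev.Rt D) = r from Fin.ext e] at this
  exact (C.sys F).eq_top_of_sp (fun i => key i _ (by simp)) fun i => key i _ (by
    rw [C.neg_simple]; simp)

/-- A word without its trivial letters. -/
def nzW (w : List (ℕ × K)) : List (ℕ × K) := w.filter fun p => p.2 ≠ 0

include C in
theorem wordMat_nzW (w : List (ℕ × K)) : D.wordMat K (nzW w) = D.wordMat K w := by
  induction w with
  | nil => rfl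
  | cons p w ih =>
    by_cases h : p.2 = 0
    · rw [nzW, List.filter_cons_of_neg (by simpa using h), ← nzW, ih]
      simp [ChevalleyDatum.wordMat, h, C.x_zero]
    · rw [nzW, List.filter_cons_of_pos (by simpa using h), ← nzW]
      simp only [ChevalleyDatum.wordMat, List.map_cons, List.prod_cons] at ih ⊢
      rw [ih]

include C in
theorem gen_base (hK : Fintype.card K = 2) {I : Ix D.Idx} {T : Set (List (ℕ × K))}
    {Es : List (ℕ × ℕ)} {As : List Pl}
    (h : ∀ a < As.length, S.Chk I (D.x K (nth (0, 0) Es a).1 (S.nm (nth (0, 0) Es a).2)) (nth [] As a))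
    {Ws : List (List ℕ)} {Bs : List Pl} (hl : Ws.length = Bs.length)
    (h1 : ∀ u ∈ Ws, ∃ w ∈ T, nzW w = u.map fun a => ((nth (0, 0) Es a).1, S.nm (nth (0, 0) Es a).2))
    (h2 : ∀ w ∈ T, ∃ u ∈ [] :: Ws,
      nzW w = u.map fun a => ((nth (0, 0) Es a).1, S.nm (nth (0, 0) Es a).2))
    (h3 : ∀ a < Bs.length, (nth [] Bs a).length ≤ I.d * S.m ∧ wordK q As (idP (I.d * S.m))
      (nth [] Ws a) (fun Q => eqP q (I.d * S.m) Q (nth [] Bs a)) = true) :
    (stdCo S I (RingHom.id K)).Base (MonoidHom.id (D.genSubgroup K T)) Bs := by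
  have h4 := chev_acts C (RingHom.id K) h
  set g := fun a => xE C K ((nth (0, 0) Es a).1, RingHom.id K (S.nm (nth (0, 0) Es a).2))
  have e : ∀ u : List ℕ, Chev.Cert.toMat D K (ev g u) = D.wordMat K
      (u.map fun a => ((nth (0, 0) Es a).1, S.nm (nth (0, 0) Es a).2)) := fun u => by
    rw [map_ev, ev, ChevalleyDatum.wordMat, List.map_map]
    congr 2
    funext a
    exact xE_coe C _
  have hm : ∀ a, ((ev g (nth [] Ws a) : D.group K) : GL D.Idx K) ∈ D.genSubgroup K T := fun a => by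
    by_cases ha : a < Ws.length
    · obtain ⟨w, hw, h5⟩ := h1 (nth [] Ws a) (by
        rw [nth_eq, List.getD_eq_getElem _ _ ha]; exact List.getElem_mem ha)
      exact subset_closure ⟨w, hw, (e _).trans (by rw [← h5, wordMat_nzW C])⟩
    · rw [nth_eq, List.getD_eq_default _ _ (by omega), ev_nil]; exact one_mem _
  have hρ : Function.Injective (linOf ((Units.coeHom _).comp (D.genSubgroup K T).subtype)) :=
    linOf_inj fun _ _ e => Subtype.ext (Units.ext e)
  refine ⟨Function.surjective_id, _, fun a => ⟨_, hm a⟩, hρ, fun a ha => ?_, fun H hH => ?_,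
    id_eq_one_iff_two hK hρ⟩
  · obtain ⟨Q, h5, h6⟩ := h4.word (h3 a ha).2
    exact Co.Acts.of_eqP h5.2 (h3 a ha).1 h6
  · apply map_injective (D.genSubgroup K T).subtype_injective
    rw [← MonoidHom.range_eq_map, range_subtype]
    refine le_antisymm (map_subtype_le _) ((closure_le _).2 ?_)
    rintro x ⟨w, hw, h5⟩
    obtain ⟨u, hu, h6⟩ := h2 w hw
    have h7 : x = (ev g u : D.group K) := Units.ext (by rw [h5, ← wordMat_nzW C, h6]; exact (e u).symm)
    rcases List.mem_cons.1 hu with rfl | hu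
    · rw [h7]; exact one_mem _
    · obtain ⟨a, ha, rfl⟩ := exists_nth [] hu
      exact ⟨_, hH a (hl ▸ ha), h7.symm⟩

end Cfsg.Agent.Mult
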