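import Cfsg.Agent.Mult.Assemble

set_option autoImplicit false
set_option linter.style.haveILetI false

/-! The multiplier machinery on top of permutation models and presentations. -/

namespace Cfsg.Agent.Mult

open Subgroup hiding ext
open Cfsg.Agent.CGT Equiv

universe u v w

namespace PC

variable (D : PC)

/-- The rules with first index `i`, `a ≤ i < a + m`. -/
noncomputable def rulesRange (a m : ℕ) : List (List ℕ × List ℕ) :=
  Nat.rec [] (fun i ih => lit (Nat.add a i) fun i => appL (D.rulesAt i) ih) m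

/-- The rules with first index between `a` and `b` hold. -/
def RangeOK {G : Type*} [Group G] (x : ℕ → G) (a b : ℕ) : Prop :=
  ∀ i, a ≤ i → i < b → ∀ r ∈ D.rulesAt i, ev x r.1 = ev x r.2

/-- Extra letters that are normal words. -/
noncomputable def hRules (hs : List (ℕ × ℕ)) : List (List ℕ × List ℕ) :=
  mapL (fun t => ([t.1], D.unp t.2)) hs

variable {D}

theorem rangeOK_of {G : Type*} [Group G] {x : ℕ → G} {a m : ℕ}
    (h : ∀ r ∈ D.rulesRange a m, ev x r.1 = ev x r.2) : D.RangeOK x a (a + m) := by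
  induction m with
  | zero => intro i h1 h2; omega
  | succ m ih =>
    have e : D.rulesRange a (m + 1) = D.rulesAt (a + m) ++ D.rulesRange a m :=
      appL_eq (D.rulesAt (a + m)) (D.rulesRange a m)
    rw [e] at h
    intro i h1 h2 r hr
    rcases Nat.lt_succ_iff_lt_or_eq.1 (show i < a + m + 1 from h2) with h3 | rfl
    · exact ih (fun r hr => h r (List.mem_append_right _ hr)) i h1 h3 r hr
    · exact h r (List.mem_append_left _ hr)

theorem RangeOK.trans {G : Type*} [Group G] {x : ℕ → G} {a b c : ℕ} (h : D.RangeOK x a b)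
    (h' : D.RangeOK x b c) : D.RangeOK x a c := fun i h1 h2 =>
  (Nat.lt_or_ge i b).elim (h i h1) fun h3 => h' i h3 h2

theorem rules_of_range {G : Type*} [Group G] {x : ℕ → G} (h : D.RangeOK x 0 D.n)
    (hf : ∀ r ∈ D.fusRules, ev x r.1 = ev x r.2) : ∀ r ∈ D.rules, ev x r.1 = ev x r.2 := by
  intro r hr
  rw [rules, appL_eq, List.mem_append] at hr
  refine hr.elim (fun hr => ?_) (hf r)
  have : ∀ m, r ∈ (Nat.rec [] (fun i ih => lit i fun i => appL (D.rulesAt i) ih) m :
      List (List ℕ × List ℕ)) → ∃ i < m, r ∈ D.rulesAt i := by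
    intro m
    induction m with
    | zero => exact fun h => absurd h List.not_mem_nil
    | succ m ih =>
      intro h1
      replace h1 : r ∈ appL (D.rulesAt m) _ := h1
      rw [appL_eq, List.mem_append] at h1
      rcases h1 with h1 | h1
      · exact ⟨m, by omega, h1⟩
      · obtain ⟨i, h2, h3⟩ := ih h1
        exact ⟨i, by omega, h3⟩
  obtain ⟨i, hi, h1⟩ := this _ hr
  exact h i (Nat.zero_le _) hi r h1

end PC

/-- The words of the levels are the words of the extra letters. -/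
noncomputable def wordsFrom (ds : List (List ℕ)) (hs : List (ℕ × ℕ)) (ls : List Level) : Bool :=
  allL ls fun l => allL l.S fun u => memLL u (mapL (fun t => nth [] ds t.1) hs)

/-- The test that the subgroup generated by the letters below `n` has order at least `p^n`. -/
noncomputable def sylB (D : PC) (k : ℕ) (ns : List Net) (ts : List Tab) (B : List ℕ)
    (ds : List (List ℕ)) (hs : List (ℕ × ℕ)) (ls : List Level) : Bool :=
  rulesD k ts ds B (D.hRules hs) && (wordsFrom ds hs ls && (chainOK k ns ts ls [] &&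
    Nat.ble (Nat.pow D.p D.n) (chainCard ls)))

theorem sylB_sound {G : Type*} [Group G] [Finite G] {φ : G →* Perm ℕ} {γ : ℕ → G} {k : ℕ}
    {ns : List Net} {ts : List Tab} (M : Model φ γ k ns ts) {B : List ℕ} (hB : IsBase φ ⊤ B)
    (hp : ptsOK k B = true) {D : PC} {ds : List (List ℕ)} {hs : List (ℕ × ℕ)} {ls : List Level}
    (ok : D.OK) (hx : D.Rules (der (ext γ) ds)) (h : sylB D k ns ts B ds hs ls = true) :
    D.p ^ D.n ∣ Nat.card (closure (der (ext γ) ds '' Set.Iio D.n)) := by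
  unfold sylB at h
  simp only [Bool.and_eq_true, Nat.ble_eq] at h
  obtain ⟨h1, h2, h3, h4⟩ := h
  set K := closure (der (ext γ) ds '' Set.Iio D.n) with hK
  have hs' : ChainSound φ K k [] ls := chainOK_sound M rfl (fun l hl u hu => by
    have h5 := memLL_sound (allL_iff.1 (allL_iff.1 h2 l hl) u hu)
    rw [mapL_eq] at h5
    obtain ⟨t, ht, rfl⟩ := List.mem_map.1 h5
    have h6 := rulesD_sound M hB hp h1 _ (by
      rw [PC.hRules, mapL_eq]; exact List.mem_map.2 ⟨t, ht, rfl⟩)
    rw [ev_singleton, PC.ev_unp] at h6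
    change der (ext γ) ds t.1 ∈ K
    rw [h6]
    exact nfF_mem _ _ _ _ fun r hr => subset_closure ⟨_, by simpa using hr, rfl⟩) h3
  have h7 := hs'.le_card
  rw [St_nil] at h7
  exact dvd_of_eq (le_antisymm (h4.trans h7) (PC.Rules.card_le ok hx.pow hx.conj))

/-- The upper bound at one prime, from a permutation model. -/
theorem pbound_of_model {G : Type u} [Group G] [Finite G] {φ : G →* Perm ℕ} {γ : ℕ → G} {k : ℕ}
    {ns : List Net} {ts : List Tab} (M : Model φ γ k ns ts) {B : List ℕ} (hB : IsBase φ ⊤ B)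
    (hp : ptsOK k B = true) {N : ℕ} (hN : Nat.card G = N) (D : PC) (c : Mult.Cert) (ss : List Spec)
    (ds : List (List ℕ)) (hs : List (ℕ × ℕ)) (ls : List Level) (hpr : D.p.Prime)
    (hx : ∀ r ∈ D.rules, ev (der (ext γ) ds) r.1 = ev (der (ext γ) ds) r.2)
    (h1 : sylB D k ns ts B ds hs ls = true) (h2 : ¬ D.p ^ (D.n + 1) ∣ N)
    (h3 : D.check c ss = true) : PBound G D.p c.e := by
  have ok : D.OK := PC.ok_of_okB D (by
    unfold PC.check at h3; rw [Bool.and_eq_true] at h3; exact h3.1)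
  exact PC.pbound_of_check D c ss hpr _ hx (sylB_sound M hB hp ok (PC.rules_sound hx) h1)
    (hN ▸ h2) h3

/-- The same with the test in several pieces. -/
theorem pbound_of_model' {G : Type u} [Group G] [Finite G] {φ : G →* Perm ℕ} {γ : ℕ → G} {k : ℕ}
    {ns : List Net} {ts : List Tab} (M : Model φ γ k ns ts) {B : List ℕ} (hB : IsBase φ ⊤ B)
    (hp : ptsOK k B = true) {N : ℕ} (hN : Nat.card G = N) (D : PC) (c : Mult.Cert) (vs : List ℕ)
    (ds : List (List ℕ)) (hs : List (ℕ × ℕ)) (ls : List Level) (hpr : D.p.Prime)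
    (hx : ∀ r ∈ D.rules, ev (der (ext γ) ds) r.1 = ev (der (ext γ) ds) r.2)
    (h1 : sylB D k ns ts B ds hs ls = true) (h2 : ¬ D.p ^ (D.n + 1) ∣ N)
    (hok : D.okB = true) (hc : D.Chunk c vs) (hl : D.Lin c vs) : PBound G D.p c.e :=
  PC.pbound_of_chunks D c vs hpr _ hx
    (sylB_sound M hB hp (PC.ok_of_okB D hok) (PC.rules_sound hx) h1) (hN ▸ h2) hok hc hl

/-- For each letter a balanced word with the same value. -/
noncomputable def perfB (k : ℕ) (ts : List Tab) (B : List ℕ) (m : ℕ) (L : List ℕ)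
    (ws : List (List ℕ)) : Bool :=
  List.rec (motive := fun _ => List (List ℕ) → Bool) (fun _ => true)
    (fun a _ ih ws => bal m (nth [] ws 0) && (eqB k ts B (nth [] ws 0) [a] && ih (List.tail ws))) L ws

theorem perfB_sound {G : Type*} [Group G] {φ : G →* Perm ℕ} {γ : ℕ → G} {k : ℕ}
    {ns : List Net} {ts : List Tab} (M : Model φ γ k ns ts) {B : List ℕ} (hB : IsBase φ ⊤ B)
    (hp : ptsOK k B = true) {L : List ℕ} (gen : gp γ L = ⊤) {m : ℕ} {ws : List (List ℕ)}
    (h : perfB k ts B m L ws = true) : commutator G = ⊤ := by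
  refine perfect_of_bal gen ?_
  clear gen
  induction L generalizing ws with
  | nil => simp
  | cons a L ih =>
    have h' : (bal m (nth [] ws 0) && (eqB k ts B (nth [] ws 0) [a] &&
      perfB k ts B m L ws.tail)) = true := h
    simp only [Bool.and_eq_true] at h'
    intro b hb
    rcases List.mem_cons.1 hb with rfl | hb
    · exact ⟨m, _, h'.1, by simpa using eqB_sound M hB hp trivial trivial h'.2.1⟩
    · exact ih h'.2.2 b hb

theorem exists_quot {X : Type v} [Group X] (y : ℕ → X) (Z : Subgroup X)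
    (hc : ∀ z ∈ Z, ∀ j, Commute z (y j)) :
    ∃ (Q : Type v) (_ : Group Q) (h : ℕ → Q), ∀ w, ev (ext h) w = 1 ↔ ev (ext y) w ∈ Z := by
  let C := centralizer (Z : Set X)
  let y' : ℕ → C := fun j => ⟨y j, fun z hz => hc z hz j⟩
  haveI : (Z.subgroupOf C).Normal := ⟨fun z hz c => by
    have := c.2 z hz
    rw [mem_subgroupOf] at hz ⊢
    rwa [Subgroup.coe_mul, Subgroup.coe_mul, ← this, Subgroup.coe_inv, mul_inv_cancel_right]⟩
  refine ⟨C ⧸ Z.subgroupOf C, inferInstance, fun j => QuotientGroup.mk' _ (y' j), fun w => ?_⟩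
  have e1 : ev (ext fun j => QuotientGroup.mk' (Z.subgroupOf C) (y' j)) w =
      QuotientGroup.mk' _ (ev (ext y') w) := by
    rw [map_ev]; simp only [map_ext]
  have e2 : C.subtype (ev (ext y') w) = ev (ext y) w := by
    rw [map_ev]; simp only [map_ext]; rfl
  rw [e1, ← e2]
  exact QuotientGroup.eq_one_iff _

/-- Relations of `G` hold in the projective model, from a universal bound for the order. -/
theorem rel_of_bound {G : Type u} [Group G] [Finite G] {γ : ℕ → G} {L : List ℕ} (gen : gp γ L = ⊤)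
    {R : List (List ℕ)} (hR : Holds (ext γ) R) {N : ℕ} (hN : Nat.card G = N)
    (hU : ∀ {H : Type (max u v)} [Group H] {h : ℕ → H}, Holds (ext h) R → Bd (gp h L) N)
    {X : Type v} [Group X] {y : ℕ → X} {Z : Subgroup X} (hc : ∀ z ∈ Z, ∀ j, Commute z (y j))
    (hy : ∀ r ∈ R, ev (ext y) r ∈ Z) (w : List ℕ) (hw : ∀ a ∈ w, a ∈ L ∨ a ^^^ 1 ∈ L)
    (h1 : ev (ext γ) w = 1) : ev (ext y) w ∈ Z := by
  obtain ⟨Q, _, h, hh⟩ := exists_quot y Z hc
  let δ : ℕ → G × Q := fun j => (γ j, h j)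
  obtain ⟨_, h2⟩ := hU (h := δ) fun r hr => by
    rw [ev_pair, hR r hr, (hh r).2 (hy r hr)]; rfl
  let σ : gp δ L →* G := (MonoidHom.fst G Q).comp (gp δ L).subtype
  have hσ : Function.Surjective σ := fun g => by
    obtain ⟨w, h1, rfl⟩ := exists_word (gen ▸ mem_top g)
    exact ⟨⟨ev (ext δ) w, ev_mem _ _ _ fun a ha => ext_mem_gp' δ (h1 a ha)⟩,
      by simp [σ, δ, ev_pair]⟩
  have hb : Function.Bijective σ := (Nat.bijective_iff_surjective_and_card _).2 ⟨hσ,
    le_antisymm (hN ▸ h2) (Nat.card_le_card_of_surjective _ hσ)⟩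
  have h3 : (⟨ev (ext δ) w, ev_mem _ _ _ fun a ha => ext_mem_gp' δ (hw a ha)⟩ : gp δ L) = 1 :=
    hb.1 (by simp [σ, δ, ev_pair, h1])
  have h4 := congrArg (fun x : gp δ L => (x : G × Q).2) h3
  simp only [δ, ev_pair] at h4
  exact (hh w).1 h4

/-- Relations of `G` hold in the projective model, from the lifting property of a presentation. -/
theorem rel_of_lift {G : Type u} [Group G] {γ : ℕ → G} {R : List (List ℕ)} {m : ℕ}
    (hL : ∀ {H : Type v} [Group H] {h : ℕ → H}, (∀ j, m ≤ j → h j = 1) → Holds (ext h) R →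
      ∃ f : G →* H, ∀ j, f (γ j) = h j)
    {X : Type v} [Group X] {y : ℕ → X} {Z : Subgroup X} (hc : ∀ z ∈ Z, ∀ j, Commute z (y j))
    (hm : ∀ j, m ≤ j → y j ∈ Z) (hy : ∀ r ∈ R, ev (ext y) r ∈ Z) (w : List ℕ)
    (h1 : ev (ext γ) w = 1) : ev (ext y) w ∈ Z := by
  obtain ⟨Q, _, h, hh⟩ := exists_quot y Z hc
  obtain ⟨f, hf⟩ := hL (h := h) (fun j hj => by
    have := (hh [2 * j]).2 (by simpa [ext_two_mul] using hm j hj)
    simpa [ext_two_mul] using this) fun r hr => (hh r).2 (hy r hr)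
  rw [← hh]
  have := congrArg f h1
  rw [map_ev, map_one] at this
  simpa only [map_ext, hf] using this

/-- A cyclic cover from a projective model. -/
theorem stem_cyc {G : Type u} [Group G] [Finite G] {γ : ℕ → G} {L : List ℕ} (gen : gp γ L = ⊤)
    {X : Type v} [Group X] (y : ℕ → X) (z : X) {n : ℕ} [NeZero n] (hz : orderOf z = n)
    (hc : ∀ j, Commute z (y j))
    (hP : ∀ w : List ℕ, (∀ a ∈ w, a ∈ L ∨ a ^^^ 1 ∈ L) → ev (ext γ) w = 1 →
      ev (ext y) w ∈ zpowers z)
    {m : ℕ} {w : List ℕ} (h1 : wordIn L w = true) (h2 : bal m w = true) (h3 : ev (ext γ) w = 1)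
    (h4 : ev (ext y) w = z) : Stem G (Multiplicative (ZMod n)) := by
  letI : CommGroup (zpowers z) := IsCyclic.commGroup
  have hn : Nat.card (zpowers z) = n := by rw [Nat.card_zpowers, hz]
  haveI : Finite (zpowers z) := Nat.finite_of_card_ne_zero (hn ▸ NeZero.ne n)
  refine (stem_of_model gen y (zpowers z).subtype Subtype.val_injective ?_ (by simpa using hP)
    {⟨z, mem_zpowers z⟩} ?_ ?_).of_equiv (mulEquivOfCyclicCardEq (by simp [hn]))
  · rintro ⟨_, i, rfl⟩ j
    exact (hc j).zpow_left i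
  · rw [eq_top_iff]
    rintro ⟨_, i, rfl⟩ -
    exact zpow_mem (subset_closure (Set.mem_singleton _) :
      (⟨z, mem_zpowers z⟩ : zpowers z) ∈ Subgroup.closure {(⟨z, mem_zpowers z⟩ : zpowers z)}) i
  · rintro _ rfl
    exact ⟨m, w, h1, h2, h3, h4⟩

/-- A cover with a kernel of rank two from two projective models. -/
theorem stem_two {G : Type u} [Group G] [Finite G] {γ : ℕ → G} {L : List ℕ} (gen : gp γ L = ⊤)
    {X₁ X₂ : Type v} [Group X₁] [Group X₂] (y₁ : ℕ → X₁) (y₂ : ℕ → X₂) (z₁ : X₁) (z₂ : X₂)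
    {n₁ n₂ : ℕ} [NeZero n₁] [NeZero n₂] (hz₁ : orderOf z₁ = n₁) (hz₂ : orderOf z₂ = n₂)
    (hc₁ : ∀ j, Commute z₁ (y₁ j)) (hc₂ : ∀ j, Commute z₂ (y₂ j))
    (hP₁ : ∀ w : List ℕ, (∀ a ∈ w, a ∈ L ∨ a ^^^ 1 ∈ L) → ev (ext γ) w = 1 →
      ev (ext y₁) w ∈ zpowers z₁)
    (hP₂ : ∀ w : List ℕ, (∀ a ∈ w, a ∈ L ∨ a ^^^ 1 ∈ L) → ev (ext γ) w = 1 →
      ev (ext y₂) w ∈ zpowers z₂)
    {m : ℕ} {w₁ w₂ : List ℕ} (h1 : wordIn L w₁ = true) (h2 : bal m w₁ = true)
    (h3 : ev (ext γ) w₁ = 1) (h4 : ev (ext y₁) w₁ = z₁) (h5 : ev (ext y₂) w₁ = 1)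
    (h1' : wordIn L w₂ = true) (h2' : bal m w₂ = true)
    (h3' : ev (ext γ) w₂ = 1) (h4' : ev (ext y₁) w₂ = 1) (h5' : ev (ext y₂) w₂ = z₂) :
    Stem G (Multiplicative (ZMod n₁ × ZMod n₂)) := by
  letI : CommGroup (zpowers z₁) := IsCyclic.commGroup
  letI : CommGroup (zpowers z₂) := IsCyclic.commGroup
  have hn₁ : Nat.card (zpowers z₁) = n₁ := by rw [Nat.card_zpowers, hz₁]
  have hn₂ : Nat.card (zpowers z₂) = n₂ := by rw [Nat.card_zpowers, hz₂]
  haveI : Finite (zpowers z₁) := Nat.finite_of_card_ne_zero (hn₁ ▸ NeZero.ne n₁)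
  haveI : Finite (zpowers z₂) := Nat.finite_of_card_ne_zero (hn₂ ▸ NeZero.ne n₂)
  let a₁ : zpowers z₁ := ⟨z₁, mem_zpowers z₁⟩
  let a₂ : zpowers z₂ := ⟨z₂, mem_zpowers z₂⟩
  refine (stem_of_model gen (fun j => (y₁ j, y₂ j))
    ((zpowers z₁).subtype.prodMap (zpowers z₂).subtype)
    (Subtype.val_injective.prodMap Subtype.val_injective) ?_ ?_ {(a₁, 1), (1, a₂)} ?_ ?_).of_equiv
    (((mulEquivOfCyclicCardEq (G' := Multiplicative (ZMod n₁)) (by simp [hn₁])).prodCongr
      (mulEquivOfCyclicCardEq (G' := Multiplicative (ZMod n₂)) (by simp [hn₂]))).trans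
      (MulEquiv.prodMultiplicative _ _).symm)
  · rintro ⟨⟨_, i, rfl⟩, ⟨_, i', rfl⟩⟩ j
    exact Prod.ext ((hc₁ j).zpow_left i) ((hc₂ j).zpow_left i')
  · intro w hw h
    exact ⟨(⟨_, hP₁ w hw h⟩, ⟨_, hP₂ w hw h⟩), (ev_pair y₁ y₂ w).symm⟩
  · rw [eq_top_iff]
    rintro ⟨⟨_, i, rfl⟩, ⟨_, i', rfl⟩⟩ -
    have := Subgroup.mul_mem _ (zpow_mem (subset_closure (k := {(a₁, 1), (1, a₂)}) (Or.inl rfl)) i)
      (zpow_mem (subset_closure (k := {(a₁, 1), (1, a₂)}) (Or.inr rfl)) i')
    convert this using 1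
    ext <;> simp [a₁, a₂]
  · rintro _ (rfl | rfl)
    · exact ⟨m, w₁, h1, h2, h3, by rw [ev_pair, h4, h5]; rfl⟩
    · exact ⟨m, w₂, h1', h2', h3', by rw [ev_pair, h4', h5']; rfl⟩

/-- The relators `r z^(-a)`, where `z` is the generator `m`. -/
noncomputable def zRels (m : ℕ) (R : List (List ℕ)) (as : List ℕ) : List (List ℕ) :=
  List.rec (motive := fun _ => List ℕ → List (List ℕ)) (fun _ => [])
    (fun r _ ih as => appL r (Nat.rec [] (fun _ l => Nat.succ (Nat.mul 2 m) :: l) (nth 0 as 0)) ::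
      ih (List.tail as)) R as

theorem zRels_sound {X : Type*} [Group X] {y : ℕ → X} {m : ℕ} {R : List (List ℕ)} {as : List ℕ}
    (h : Holds (ext y) (zRels m R as)) : ∀ r ∈ R, ev (ext y) r ∈ zpowers (y m) := by
  induction R generalizing as with
  | nil => simp
  | cons r R ih =>
    intro s hs
    rcases List.mem_cons.1 hs with rfl | hs
    · have := h _ List.mem_cons_self
      rw [appL_eq, ev_append, ev_rec_cons, ev_nil, mul_one] at this
      rw [eq_inv_of_mul_eq_one_left this]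
      refine inv_mem (pow_mem ?_ _)
      rw [show Nat.succ (Nat.mul 2 m) = 2 * m + 1 from rfl, ext_two_mul_add_one]
      exact inv_mem (mem_zpowers _)
    · exact ih (fun t ht => h t (List.mem_cons_of_mem _ ht)) s hs

/-- The commutators of the generator `m` with the generators below `l`. -/
noncomputable def cRels (m l : ℕ) : List (List ℕ) :=
  Nat.rec [] (fun j ih => [Nat.mul 2 m, Nat.mul 2 j, Nat.succ (Nat.mul 2 m),
    Nat.succ (Nat.mul 2 j)] :: ih) l

theorem cRels_sound {X : Type*} [Group X] {y : ℕ → X} {m l : ℕ} (hl : ∀ j, l ≤ j → y j = 1)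
    (h : Holds (ext y) (cRels m l)) (j : ℕ) : Commute (y m) (y j) := by
  by_cases hj : j < l
  · clear hl
    induction l with
    | zero => omega
    | succ l ih =>
      rcases Nat.lt_succ_iff_lt_or_eq.1 hj with h1 | rfl
      · exact ih (fun t ht => h t (List.mem_cons_of_mem _ ht)) h1
      · have : ev (ext y) [2 * m, 2 * j, 2 * m + 1, 2 * j + 1] = 1 := h _ List.mem_cons_self
        simp only [ev_cons, ev_nil, ext_two_mul, ext_two_mul_add_one, mul_one] at this
        rw [← commutatorElement_eq_one_iff_commute, commutatorElement_def]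
        simpa only [mul_assoc] using this
  · rw [hl j (by omega)]; exact Commute.one_right _

/-- The word moves the point `b`. -/
noncomputable def movesN (ns : List Net) (b : ℕ) (w : List ℕ) : Bool :=
  Nat.beq (Nat.land (gatW ns w (Nat.shiftLeft 1 b)) (Nat.shiftLeft 1 b)) 0

theorem movesN_sound {B : ℕ} {ns : List Net} (hv : validAll B ns = true) {b : ℕ} {w : List ℕ}
    (h : movesN ns b w = true) : ev (lp ns) w ≠ 1 := by
  intro h1
  have h2 := congrArg (fun x => x.testBit b) (Nat.eq_of_beq_eq_true h)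
  simp only [Nat.land_eq, Nat.testBit_and, testBit_gatW hv, h1, shl_eq, Nat.one_shiftLeft] at h2
  simp at h2

/-- All tests for a cover in a permutation model: `z` is the generator `m`, the last one, of order
`q^(s+1)`; the relators hold up to powers of `z`. -/
noncomputable def coverRels (m q s : ℕ) (R : List (List ℕ)) (as : List ℕ) : List (List ℕ) :=
  (Nat.rec [] (fun _ l => Nat.mul 2 m :: l) (Nat.pow q (Nat.succ s))) ::
    appL (cRels m (Nat.succ m)) (zRels m R as)

/-- What the tests give. -/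
structure CoverData {X : Type*} [Group X] (y : ℕ → X) (m n : ℕ) (R : List (List ℕ)) : Prop where
  ord : orderOf (y m) = n
  comm : ∀ j, Commute (y m) (y j)
  high : ∀ j, m ≤ j → y j ∈ zpowers (y m)
  rel : ∀ r ∈ R, ev (ext y) r ∈ zpowers (y m)

theorem CoverData.comm' {X : Type*} [Group X] {y : ℕ → X} {m n : ℕ} {R : List (List ℕ)}
    (h : CoverData y m n R) : ∀ z ∈ zpowers (y m), ∀ j, Commute z (y j) := by
  rintro _ ⟨i, rfl⟩ j
  exact (h.comm j).zpow_left i

theorem coverData_of {X : Type*} [Group X] {y : ℕ → X} {m q s : ℕ} (hq : q.Prime)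
    (hl : ∀ j, m + 1 ≤ j → y j = 1) {R : List (List ℕ)} {as : List ℕ}
    (h : Holds (ext y) (coverRels m q s R as))
    (hm : ev (ext y) (List.replicate (q ^ s) (2 * m)) ≠ 1) : CoverData y m (q ^ (s + 1)) R := by
  haveI := Fact.mk hq
  have h1 := h _ List.mem_cons_self
  rw [ev_rec_cons, ev_nil, mul_one, show Nat.mul 2 m = 2 * m from rfl, ext_two_mul] at h1
  have h2 : Holds (ext y) (cRels m (m + 1) ++ zRels m R as) := fun t ht =>
    h t (List.mem_cons_of_mem _ (by rw [appL_eq]; exact ht))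
  refine ⟨orderOf_eq_prime_pow ?_ h1, cRels_sound hl fun t ht => h2 t (List.mem_append_left _ ht),
    fun j hj => ?_, zRels_sound fun t ht => h2 t (List.mem_append_right _ ht)⟩
  · simpa [ev, ext_two_mul] using hm
  · rcases Nat.eq_or_lt_of_le hj with rfl | h3
    · exact mem_zpowers _
    · rw [hl j h3]; exact Subgroup.one_mem _

theorem coverData_of_nets {B : ℕ} {ns : List Net} (hv : validAll B ns = true) {m q s : ℕ}
    (hq : q.Prime) (hl : ns.length = m + 1) {R : List (List ℕ)} {as : List ℕ}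
    (h : Holds (lp ns) (coverRels m q s R as)) {b : ℕ}
    (hm : movesN ns b (List.replicate (q ^ s) (2 * m)) = true) :
    CoverData (netPerm ns) m (q ^ (s + 1)) R :=
  coverData_of hq (fun _ hj => netPerm_of_le ns (hl ▸ hj)) h (movesN_sound hv hm)

end Cfsg.Agent.Mult
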