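import Cfsg.Agent.Mult.Rel

set_option autoImplicit false

/-! The linear algebra certificate on the tails. -/

namespace Cfsg.Agent.Mult

open Cfsg.Agent.CGT

/-- The certificate: `F` fuel, `h` width of quotients, `bs` the corrections of the lifts, `zs` the
generators (index list, exponent of the order, coefficients), `cs` the coefficients for each rule. -/
structure Cert where
  F : ℕ
  h : ℕ
  bs : List (List ℕ)
  zs : List (List ℕ × ℕ × ℕ)
  cs : List (List ℕ)

/-- The exponent of the bound. -/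
noncomputable def Cert.e (c : Cert) : ℕ := List.rec 0 (fun z _ ih => Nat.add z.2.1 ih) c.zs

theorem Cert.e_eq (c : Cert) : c.e = (c.zs.map fun z => z.2.1).sum := by
  unfold Cert.e
  induction c.zs with
  | nil => rfl
  | cons z l ih => rw [List.map_cons, List.sum_cons, ← ih]; rfl

namespace PC

variable (D : PC) (c : Cert)

/-- The modulus. -/
noncomputable def M : ℕ := Nat.pow D.p (Nat.succ c.e)

/-- The mask for quotients. -/
noncomputable def mask : ℕ :=
  Nat.mul (Nat.sub (Nat.pow 2 c.h) 1) (Nat.div (Nat.sub (Nat.pow D.B D.N) 1) (Nat.sub D.B 1))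

/-- Size conditions; `L` is the number of vectors of relations. -/
noncomputable def sizeB (L : ℕ) : Bool :=
  Nat.ble (Nat.mul (D.M c) (Nat.pow 2 c.h)) D.B &&
  (Nat.ble (Nat.mul (Nat.add (Nat.add 4 (Nat.mul D.p (Nat.mul D.n D.p)))
    (Nat.mul (Nat.add (Nat.succ L) (len c.zs)) (D.M c))) (Nat.succ (D.cb (D.M c) c.F))) D.B &&
  (Nat.beq (len c.bs) D.n &&
  (allL c.bs (fun l => Nat.ble (len l) c.F && allL l fun a => Nat.ble (Nat.succ a) D.N) &&
  allL c.zs (fun z => Nat.ble (len z.1) c.F && allL z.1 fun a => Nat.ble (Nat.succ a) D.N))))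

/-- The test for the rules with first index `i`. -/
noncomputable def rowB (bv all : List ℕ) (i : ℕ) : Bool :=
  lit i fun i => allLt D.n fun j => lit j fun j => Nat.ble (Nat.succ j) i ||
    zm D.p (D.mask c) (lc D.p all (nth 0 (nth [] c.cs i) j)
      (Nat.add (Nat.add (Nat.pow D.B (Nat.add (Nat.mul i D.n) j))
        (Bool.rec (nth 0 bv j) 0 (Nat.beq i j)))
        (Nat.mul (Nat.sub D.p 1) (lc D.b bv (D.W i j) 0))))

/-- The test for the orders of the generators. -/
noncomputable def ordB (vs : List ℕ) : Bool :=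
  allL c.zs fun z => zm (D.M c) (D.mask c)
    (lc (D.M c) vs z.2.2 (Nat.mul (Nat.pow D.p z.2.1) (vecOf D.B 0 z.1)))

/-- The tests for the rows `i` with `a ≤ i < a + m`. -/
noncomputable def rowsB (vs : List ℕ) (a m : ℕ) : Bool :=
  litL (mapL (vecOf D.B 0) c.bs) fun bv =>
  litL (appL (mapL (fun z => vecOf D.B 0 z.1) c.zs) vs) fun all =>
    allLt m fun i => D.rowB c bv all (Nat.add a i)

/-- The whole linear test. -/
noncomputable def linB (vs : List ℕ) : Bool :=
  D.sizeB c (len vs) && (D.ordB c vs && D.rowsB c vs 0 D.n)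

/-- The linear test, in a form that can be proved piece by piece. -/
def Lin (vs : List ℕ) : Prop :=
  D.sizeB c (len vs) = true ∧ D.ordB c vs = true ∧ ∀ i < D.n, D.rowB c (c.bs.map (vecOf D.B 0))
    (c.zs.map (fun z => vecOf D.B 0 z.1) ++ vs) i = true

variable {D c}

theorem rows_of_rowsB {vs : List ℕ} {a m : ℕ} (h : D.rowsB c vs a m = true) :
    ∀ i, a ≤ i → i < a + m → D.rowB c (c.bs.map (vecOf D.B 0))
      (c.zs.map (fun z => vecOf D.B 0 z.1) ++ vs) i = true := by
  unfold rowsB at h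
  simp only [litL_eq, mapL_eq, appL_eq, allLt_iff] at h
  intro i h1 h2
  have := h (i - a) (by omega)
  rwa [show Nat.add a (i - a) = i by rw [Nat.add_eq]; omega] at this

theorem lin_of_linB {vs : List ℕ} (h : D.linB c vs = true) : D.Lin c vs := by
  unfold linB at h
  simp only [Bool.and_eq_true] at h
  exact ⟨h.1, h.2.1, fun i hi => rows_of_rowsB h.2.2 i (by omega) (by omega)⟩

/-- What the certificate proves about the tails. -/
def Concl (D : PC) (e : ℕ) {C : Type*} [CommGroup C] (T : ℕ → C) : Prop :=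
  ∃ (γ : ℕ → C) (zl : List (C × ℕ)), (zl.map Prod.snd).sum = e ∧
    (∀ z ∈ zl, z.1 ^ D.p ^ z.2 ∈ (powMonoidHom (D.p ^ (e + 1)) : C →* C).range) ∧
    (∀ i < D.n, T (i * D.n + i) * nfF γ D.b 0 D.n (D.W i i) ^ (D.p - 1) ∈
      Subgroup.closure {a | ∃ z ∈ zl, z.1 = a} ⊔ (powMonoidHom D.p : C →* C).range) ∧
    ∀ i j, i < j → j < D.n → T (i * D.n + j) * γ j * nfF γ D.b 0 D.n (D.W i j) ^ (D.p - 1) ∈
      Subgroup.closure {a | ∃ z ∈ zl, z.1 = a} ⊔ (powMonoidHom D.p : C →* C).range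

theorem cb_lt_of_sizeB {L : ℕ} (h : D.sizeB c L = true) : D.cb (D.M c) c.F + 1 < D.B := by
  unfold sizeB at h
  simp only [Bool.and_eq_true, Nat.ble_eq, Nat.add_eq, Nat.mul_eq, Nat.succ_eq_add_one] at h
  have := h.2.1
  rw [add_mul, add_mul] at this
  omega

theorem lin_sound {C : Type*} [CommGroup C] {T : ℕ → C} (ok : D.OK) {vs : List ℕ}
    (hvs : ∀ v ∈ vs, D.Valid T (D.M c) c.F v) (h : D.Lin c vs) : D.Concl c.e T := by
  obtain ⟨hs, ho, hr⟩ := h
  have hp := ok.p_pos
  have hMe : D.M c = D.p ^ (c.e + 1) := rfl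
  unfold sizeB at hs
  simp only [Bool.and_eq_true, Nat.ble_eq, Nat.beq_eq, Nat.add_eq, Nat.mul_eq, Nat.succ_eq_add_one,
    allL_iff, len_eq, Nat.pow_eq] at hs
  obtain ⟨s1, s2, s3, s4, s5⟩ := hs
  have hpM : D.p ≤ D.M c := by
    rw [hMe, pow_succ]; exact Nat.le_mul_of_pos_left _ (by positivity)
  have hF : c.F ≤ D.cb (D.M c) c.F := by
    show c.F ≤ D.M c * (c.F + 2 * (c.F * D.p))
    nlinarith [Nat.zero_le (c.F * D.p)]
  have hh := Nat.two_pow_pos c.h
  generalize hcb : D.cb (D.M c) c.F = cb at *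
  rw [add_mul, add_mul] at s2
  have hcB : 4 * (cb + 1) ≤ D.B := by omega
  have hmask : D.mask c = (2 ^ c.h - 1) * ones (2 ^ D.w) D.N := by
    rw [← B_eq, ← ones_eq (by omega)]; rfl
  have hq : ∀ q ≤ D.M c, q * (2 ^ c.h - 1) < 2 ^ D.w := by
    intro q hq
    rw [← B_eq]
    obtain ⟨t, ht⟩ : ∃ t, 2 ^ c.h = t + 1 := ⟨2 ^ c.h - 1, by omega⟩
    rw [ht] at s1 ⊢
    have := Nat.mul_le_mul_right t hq
    rw [Nat.add_sub_cancel]
    rw [mul_add] at s1
    omega
  have hc1 : 2 ^ c.h - 1 < 2 ^ D.w := by simpa using hq 1 (by omega)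
  have gvec : ∀ l : List ℕ, (l.length ≤ c.F ∧ ∀ a ∈ l, a + 1 ≤ D.N) →
      Gd cb D.B D.N (vecOf D.B 0 l) := fun l hl =>
    (vecOf_sound T (fun a ha => by have := hl.2 a ha; omega) (by omega)).1.mono (by omega)
  have hvs' : ∀ v ∈ vs, Gd cb D.B D.N v ∧
      nfF T D.B 0 D.N v ∈ (powMonoidHom (D.p ^ (c.e + 1)) : C →* C).range := fun v hv =>
    ⟨hcb ▸ (hvs v hv).1, (hvs v hv).2⟩
  set bv := c.bs.map (vecOf D.B 0) with hbv
  have gbv : ∀ v ∈ bv, Gd cb D.B D.N v := by
    intro v hv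
    obtain ⟨l, hl, rfl⟩ := List.mem_map.1 hv
    exact gvec l (s4 l hl)
  have lbv : bv.length = D.n := by rw [hbv, List.length_map, s3]
  let γ : ℕ → C := fun k => nfF T D.B 0 D.N (bv.getD k 0)
  let zl : List (C × ℕ) := c.zs.map fun z => (nfF T D.B 0 D.N (vecOf D.B 0 z.1), z.2.1)
  set H := Subgroup.closure {a | ∃ z ∈ zl, z.1 = a} ⊔ (powMonoidHom D.p : C →* C).range with hH
  have hall : ∀ v ∈ c.zs.map (fun z => vecOf D.B 0 z.1) ++ vs,
      Gd cb D.B D.N v ∧ nfF T D.B 0 D.N v ∈ H := by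
    intro v hv
    rcases List.mem_append.1 hv with hv | hv
    · obtain ⟨z, hz, rfl⟩ := List.mem_map.1 hv
      exact ⟨gvec _ (s5 z hz), Subgroup.mem_sup_left (Subgroup.subset_closure
        ⟨_, List.mem_map.2 ⟨z, hz, rfl⟩, rfl⟩)⟩
    · refine ⟨(hvs' v hv).1, Subgroup.mem_sup_right ?_⟩
      obtain ⟨a, ha⟩ := (hvs' v hv).2
      exact ⟨a ^ D.p ^ c.e, by rw [← ha, powMonoidHom_apply, powMonoidHom_apply, ← pow_mul, pow_succ]⟩
  have lall : (c.zs.map (fun z => vecOf D.B 0 z.1) ++ vs).length = c.zs.length + vs.length := by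
    simp
  generalize c.zs.map (fun z => vecOf D.B 0 z.1) ++ vs = all at *
  obtain ⟨p', hp'⟩ : ∃ p', D.p = p' + 1 := ⟨D.p - 1, by omega⟩
  have hp1 : D.p - 1 = p' := by omega
  have b1 : 1 + cb + p' * (D.n * (p' * cb)) + all.length * (p' * cb) < D.B := by
    rw [lall]
    have h1 : p' * (D.n * (p' * cb)) ≤ D.p * (D.n * D.p) * (cb + 1) := by
      calc p' * (D.n * (p' * cb)) = p' * (D.n * p') * cb := by ring
        _ ≤ _ := Nat.mul_le_mul (Nat.mul_le_mul (by omega) (Nat.mul_le_mul le_rfl (by omega)))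
          (by omega)
    have h2 : (c.zs.length + vs.length) * (p' * cb) ≤
        (vs.length + 1 + c.zs.length) * D.M c * (cb + 1) := by
      rw [← mul_assoc]
      exact Nat.mul_le_mul (Nat.mul_le_mul (by omega) (by omega)) (by omega)
    omega
  have key : ∀ i j, i ≤ j → j < D.n → ∀ x, Gd cb D.B D.N x →
      zm D.p (D.mask c) (lc D.p all (nth 0 (nth [] c.cs i) j)
        (D.B ^ (i * D.n + j) + x + (D.p - 1) * lc D.b bv (D.W i j) 0)) = true →
      T (i * D.n + j) * nfF T D.B 0 D.N x * nfF γ D.b 0 D.n (D.W i j) ^ (D.p - 1) ∈ H := by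
    intro i j hij hj x gx hz
    have hN : i * D.n + j < D.N := by rw [N_eq]; nlinarith
    rw [hmask] at hz
    have h1 := zm_sound T hc1 (hq _ hpM) hz
    rw [← B_eq, lc_eq, lc_eq, zero_add, hp1] at h1
    have h0 : D.n * (p' * cb) ≤ p' * (D.n * (p' * cb)) := Nat.le_mul_of_pos_left _ (by omega)
    obtain ⟨g2, v2⟩ := lc0_sound T (q := D.b) (c := D.W i j) (d := p') gbv
      (fun r => hp1 ▸ (ok.good i j hij hj).digit r) (by rw [lbv]; omega) γ 0
      (fun k _ => by rw [zero_add])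
    rw [lbv] at g2 v2
    obtain ⟨g3, v3⟩ := lc0_mem T (q := D.p) (by omega) (nth 0 (nth [] c.cs i) j) H hall
      (by rw [hp1]; omega)
    rw [hp1] at g3
    have g1 : Gd 1 D.B D.N (D.B ^ (i * D.n + j)) := Gd.pow (by omega) hN
    have g4 := g1.add gx (by omega)
    have g5 := g2.smul p' (by omega)
    rw [nfF_add_comm T (g4.add g5 (by omega)) g3 b1, nfF_add_comm T g4 g5 (by omega),
      nfF_add_comm T g1 gx (by omega), nfF_pow T (by omega) hN, nfF_smul T g2 p' (by omega),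
      v2] at h1
    rw [hp1]
    exact (Subgroup.mul_mem_cancel_right H v3).1 (Subgroup.mem_sup_right h1)
  have hr' : ∀ i j, i ≤ j → j < D.n → zm D.p (D.mask c) (lc D.p all (nth 0 (nth [] c.cs i) j)
      (D.B ^ (i * D.n + j) + (Bool.rec (nth 0 bv j) 0 (Nat.beq i j) : ℕ) +
        (D.p - 1) * lc D.b bv (D.W i j) 0)) = true := by
    intro i j hij hj
    have := hr i (by omega)
    unfold rowB at this
    simp only [lit_eq, allLt_iff, Bool.or_eq_true, Nat.ble_eq] at this
    exact (this j hj).resolve_left (by simp only [Nat.succ_eq_add_one]; omega)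
  refine ⟨γ, zl, ?_, ?_, ?_, ?_⟩
  · rw [Cert.e_eq]; simp [zl, List.map_map, Function.comp_def]
  · intro z hz
    obtain ⟨z, hz', rfl⟩ := List.mem_map.1 hz
    unfold ordB at ho
    have h1 := allL_iff.1 ho z hz'
    rw [hmask] at h1
    have h2 := zm_sound T hc1 (hq _ le_rfl) h1
    have he : z.2.1 ≤ c.e := by
      rw [Cert.e_eq]
      exact List.single_le_sum (fun _ _ => Nat.zero_le _) _ (List.mem_map.2 ⟨z, hz', rfl⟩)
    have h3 : D.p ^ z.2.1 ≤ D.M c := Nat.pow_le_pow_right (by omega) (by omega)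
    have b2 : D.p ^ z.2.1 * cb + vs.length * ((D.M c - 1) * cb) < D.B := by
      have h4 : D.p ^ z.2.1 * cb ≤ D.M c * (cb + 1) := Nat.mul_le_mul h3 (by omega)
      have h5 : vs.length * ((D.M c - 1) * cb) ≤ vs.length * (D.M c * (cb + 1)) :=
        Nat.mul_le_mul le_rfl (Nat.mul_le_mul (by omega) (by omega))
      rw [add_mul, add_mul, add_mul, add_mul, one_mul, mul_assoc vs.length] at s2
      omega
    obtain ⟨g3, v3⟩ := lc0_mem T (q := D.M c) (by omega) z.2.2 _ hvs' (by omega)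
    have g1 := gvec _ (s5 z hz')
    rw [← B_eq, lc_eq] at h2
    change nfF T D.B 0 D.N (D.p ^ z.2.1 * vecOf D.B 0 z.1 + _) ∈ _ at h2
    rw [nfF_add_comm T (g1.smul _ (by omega)) g3 b2, nfF_smul T g1 _ (by omega)] at h2
    exact (Subgroup.mul_mem_cancel_right _ v3).1 h2
  · intro i hi
    have h1 := hr' i i le_rfl hi
    rw [Nat.beq_refl] at h1
    have := key i i le_rfl hi 0 (Gd.zero _) h1
    rwa [nfF_zero', mul_one] at this
  · intro i j hij hj
    have h1 := hr' i j hij.le hj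
    have h2 : Nat.beq i j = false := by
      cases h : Nat.beq i j with
      | false => rfl
      | true => have := Nat.eq_of_beq_eq_true h; omega
    rw [h2] at h1
    have h3 : Gd cb D.B D.N (nth 0 bv j) := by
      rw [nth_eq, List.getD_eq_getElem _ _ (by omega)]; exact gbv _ (List.getElem_mem _)
    have := key i j hij.le hj _ h3 h1
    rwa [nth_eq] at this

end PC

end Cfsg.Agent.Mult
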