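import Cfsg.Agent.Mult.Slices

set_option autoImplicit false
set_option linter.style.haveILetI false

/-! Linear groups in characteristic two and three: vectors and matrices as bit planes. -/

namespace Cfsg.Agent.Mult

open Subgroup hiding ext
open Cfsg.Agent.CGT Equiv

/-- A list of digit planes. -/
abbrev Pl := List (ℕ × ℕ)

/-- Digit `n` of plane `t`. -/
noncomputable def pv (q : ℕ) (P : Pl) (t n : ℕ) : ZMod q :=
  val q (nth (0, 0) P t).1 (nth (0, 0) P t).2 n

theorem pv_nil (q t n : ℕ) : pv q [] t n = 0 := congrFun (val_zero q) n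

theorem pv_of_le {q : ℕ} {P : Pl} {t : ℕ} (h : P.length ≤ t) (n : ℕ) : pv q P t n = 0 := by
  rw [pv, nth_eq, List.getD_eq_default _ _ h]; exact congrFun (val_zero q) n

/-- Add the planes `c`, `d` if the flag is set. -/
noncomputable def addIf (q fl x y c d : ℕ) (k : ℕ → ℕ → Bool) : Bool :=
  Bool.rec (addK q x y c d k) (k x y) (Nat.beq (Nat.land fl 1) 0)

theorem addIf_sound {q : ℕ} (hq : q = 2 ∨ q = 3) {fl x y c d : ℕ} {k : ℕ → ℕ → Bool}
    (h : addIf q fl x y c d k = true) : ∃ s t,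
      (∀ n, val q s t n = val q x y n + bt _ (fl.testBit 0) * val q c d n) ∧ k s t = true := by
  unfold addIf at h
  have e : Nat.land fl 1 = fl % 2 := Nat.and_one_is_mod fl
  rw [e] at h
  rcases Nat.mod_two_eq_zero_or_one fl with h0 | h0
  · rw [h0] at h
    exact ⟨x, y, fun n => by simp [Nat.testBit_zero, h0, bt], h⟩
  · rw [h0] at h
    obtain ⟨s, t, h1, h2⟩ := addK_sound (hq.imp_right Or.inl) (h : addK q x y c d k = true)
    exact ⟨s, t, fun n => by simp [Nat.testBit_zero, h0, bt, h1], h2⟩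

/-- A linear combination of planes. -/
noncomputable def rowK (q : ℕ) (P : Pl) (k : ℕ → ℕ → Bool) (ra rb x y : ℕ) : Bool :=
  List.rec (motive := fun _ => ℕ → ℕ → ℕ → ℕ → Bool) (fun _ _ x y => k x y)
    (fun c _ ih ra rb x y => Bool.rec
      (addIf q ra x y c.1 c.2 fun x1 y1 => addIf q rb x1 y1 (Nat.mul (Nat.sub q 2) c.2) c.1 fun x2 y2 =>
        lit (Nat.shiftRight ra 1) fun ra' => lit (Nat.shiftRight rb 1) fun rb' => ih ra' rb' x2 y2)
      (k x y) (Nat.beq (Nat.lor ra rb) 0)) P ra rb x y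

theorem val_dbl {q : ℕ} (hq : q = 2 ∨ q = 3) (c d n : ℕ) :
    val q (Nat.mul (Nat.sub q 2) d) c n = 2 * val q c d n := by
  rcases hq with rfl | rfl
  · change val 2 (0 * d) c n = _
    simp only [val, Nat.zero_mul, Nat.zero_testBit]
    cases c.testBit n <;> cases d.testBit n <;> decide
  · change val 3 (1 * d) c n = _
    simp only [val, Nat.one_mul]
    cases c.testBit n <;> cases d.testBit n <;> decide

theorem rowK_sound {q : ℕ} (hq : q = 2 ∨ q = 3) {P : Pl} {k : ℕ → ℕ → Bool} {ra rb x y : ℕ}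
    (h : rowK q P k ra rb x y = true) : ∃ s t, (∀ n, val q s t n = val q x y n +
      ∑ i ∈ Finset.range P.length, val q ra rb i * pv q P i n) ∧ k s t = true := by
  induction P generalizing ra rb x y with
  | nil => exact ⟨x, y, by simp, h⟩
  | cons c P ih =>
    cases e : Nat.beq (Nat.lor ra rb) 0 with
    | true =>
      have h1 : k x y = true := by unfold rowK at h; simp only [e] at h; exact h
      have h2 := Nat.or_eq_zero_iff.1 (Nat.eq_of_beq_eq_true e)
      exact ⟨x, y, fun n => by simp [h2.1, h2.2, val_zero], h1⟩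
    | false =>
      have h1 : addIf q ra x y c.1 c.2 (fun x1 y1 => addIf q rb x1 y1 (Nat.mul (Nat.sub q 2) c.2) c.1
          fun x2 y2 => rowK q P k (ra >>> 1) (rb >>> 1) x2 y2) = true := by
        unfold rowK at h; simp only [e] at h; exact h
      obtain ⟨x1, y1, h2, h3⟩ := addIf_sound hq h1
      obtain ⟨x2, y2, h4, h5⟩ := addIf_sound hq h3
      obtain ⟨s, t, h6, h7⟩ := ih h5
      refine ⟨s, t, fun n => ?_, h7⟩
      rw [h6, h4, h2, val_dbl hq, List.length_cons, Finset.sum_range_succ']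
      have e1 : ∀ i, val q (ra >>> 1) (rb >>> 1) i = val q ra rb (i + 1) := fun i => by
        simp only [val, Nat.testBit_shiftRight, Nat.add_comm]
      have e2 : ∀ i, pv q (c :: P) (i + 1) n = pv q P i n := fun _ => rfl
      have e3 : pv q (c :: P) 0 n = val q c.1 c.2 n := rfl
      simp only [e1, e2, e3]
      rw [val.eq_1 q ra rb 0]
      ring

/-- The product of a matrix (given by its rows) and a list of planes. -/
noncomputable def mulK (q : ℕ) (r P : Pl) (k : Pl → Bool) : Bool :=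
  List.rec (motive := fun _ => (Pl → Bool) → Bool) (fun k => k [])
    (fun a _ ih k => rowK q P (fun x y => ih fun Q => k ((x, y) :: Q)) a.1 a.2 0 0) r k

theorem mulK_sound {q : ℕ} (hq : q = 2 ∨ q = 3) {r P : Pl} {k : Pl → Bool}
    (h : mulK q r P k = true) : ∃ Q : Pl, Q.length = r.length ∧
      (∀ t n, pv q Q t n = ∑ i ∈ Finset.range P.length, pv q r t i * pv q P i n) ∧ k Q = true := by
  induction r generalizing k with
  | nil => exact ⟨[], rfl, fun t n => by simp [pv_nil], h⟩
  | cons a r ih =>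
    obtain ⟨x, y, h1, h2⟩ := rowK_sound hq
      (h : rowK q P (fun x y => mulK q r P fun Q => k ((x, y) :: Q)) a.1 a.2 0 0 = true)
    obtain ⟨Q, h3, h4, h5⟩ := ih h2
    refine ⟨(x, y) :: Q, by simp [h3], fun t n => ?_, h5⟩
    cases t with
    | zero => exact (h1 n).trans (by rw [val_zero, zero_add]; rfl)
    | succ t => exact h4 t n

/-- The mask of the columns in which two lists of planes may differ. -/
noncomputable def difK (q D : ℕ) (P Q : Pl) (k : ℕ → Bool) : Bool :=
  Nat.rec (motive := fun _ => ℕ → Bool) k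
    (fun t ih m => negK q (nth (0, 0) Q t).1 (nth (0, 0) Q t).2 fun c d =>
      addK q (nth (0, 0) P t).1 (nth (0, 0) P t).2 c d fun s u => lit (Nat.lor m (Nat.xor s u)) ih) D 0

theorem difK_sound {q : ℕ} (hq : q = 2 ∨ q = 3) {D : ℕ} {P Q : Pl} {k : ℕ → Bool}
    (h : difK q D P Q k = true) : ∃ m, k m = true ∧
      ∀ n, m.testBit n = false → ∀ t < D, pv q P t n = pv q Q t n := by
  have key : ∀ (D m0 : ℕ), Nat.rec (motive := fun _ => ℕ → Bool) k
      (fun t ih m => negK q (nth (0, 0) Q t).1 (nth (0, 0) Q t).2 fun c d =>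
        addK q (nth (0, 0) P t).1 (nth (0, 0) P t).2 c d fun s u =>
          lit (Nat.lor m (Nat.xor s u)) ih) D m0 = true → ∃ m, k m = true ∧
      ∀ n, m.testBit n = false → m0.testBit n = false ∧ ∀ t < D, pv q P t n = pv q Q t n := by
    intro D
    induction D with
    | zero => exact fun m0 h => ⟨m0, h, fun n hn => ⟨hn, fun _ h => absurd h (Nat.not_lt_zero _)⟩⟩
    | succ D ih =>
      intro m0 h
      rcases hq with rfl | rfl
      · obtain ⟨m, h1, h2⟩ := ih _ h
        refine ⟨m, h1, fun n hn => ?_⟩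
        obtain ⟨h3, h4⟩ := h2 n hn
        simp only [lor_eq, xor_eq, Nat.testBit_or, Nat.testBit_xor, Bool.or_eq_false_iff,
          Nat.zero_testBit] at h3
        refine ⟨h3.1, fun t ht => ?_⟩
        rcases Nat.lt_succ_iff_lt_or_eq.1 ht with ht | rfl
        · exact h4 t ht
        · have h5 := h3.2
          unfold pv val
          revert h5
          cases (nth (0, 0) P t).1.testBit n <;> cases (nth (0, 0) P t).2.testBit n <;>
            cases (nth (0, 0) Q t).1.testBit n <;> cases (nth (0, 0) Q t).2.testBit n <;> decide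
      · obtain ⟨m, h1, h2⟩ := ih _ h
        refine ⟨m, h1, fun n hn => ?_⟩
        obtain ⟨h3, h4⟩ := h2 n hn
        simp only [lor_eq, xor_eq, land_eq, Nat.testBit_or, Nat.testBit_xor, Nat.testBit_and,
          Bool.or_eq_false_iff] at h3
        refine ⟨h3.1, fun t ht => ?_⟩
        rcases Nat.lt_succ_iff_lt_or_eq.1 ht with ht | rfl
        · exact h4 t ht
        · have h5 := h3.2
          unfold pv val
          revert h5
          cases (nth (0, 0) P t).1.testBit n <;> cases (nth (0, 0) P t).2.testBit n <;>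
            cases (nth (0, 0) Q t).1.testBit n <;> cases (nth (0, 0) Q t).2.testBit n <;> decide
  obtain ⟨m, h1, h2⟩ := key D 0 h
  exact ⟨m, h1, fun n hn => (h2 n hn).2⟩

/-- Every column of `Q` is a column of one of the products `T * P`, `T ∈ Ts`. -/
noncomputable def oneOf (q D : ℕ) (Ts : List Pl) (P Q : Pl) : Bool :=
  List.rec (motive := fun _ => (ℕ → Bool) → Bool) (fun _ => false)
    (fun T Ts ih k => mulK q T P fun R => difK q D Q R fun m =>
      List.rec (k m) (fun _ _ _ => ih fun m' => lit (Nat.land m m') k) Ts) Ts fun m => Nat.beq m 0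

/-- The unit matrix. -/
noncomputable def idP (D : ℕ) : Pl := (List.range D).map fun t => (2 ^ t, 0)

theorem pv_idP (q : ℕ) {D t : ℕ} (ht : t < D) (s : ℕ) : pv q (idP D) t s = if t = s then 1 else 0 := by
  rw [pv, nth_eq, List.getD_eq_getElem _ _ (by simpa [idP] using ht)]
  simp only [idP, List.getElem_map, List.getElem_range, val, Nat.testBit_two_pow, Nat.zero_testBit, bt]
  by_cases h : t = s <;> simp [h]

/-- The product of the matrices along a word, applied to `P`. -/
noncomputable def wordK (q : ℕ) (Rs : List Pl) (P : Pl) (w : List ℕ) (k : Pl → Bool) : Bool :=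
  List.rec (motive := fun _ => (Pl → Bool) → Bool) (fun k => k P)
    (fun a _ ih k => Nat.ble (Nat.succ a) Rs.length && ih fun Q => mulK q (nth [] Rs a) Q k) w k

/-- Equality of matrices. -/
noncomputable def eqP (q D : ℕ) (P Q : Pl) : Bool := difK q D P Q fun m => Nat.beq m 0

/-- The planes pulled back along a letter. -/
noncomputable def gatK (ns : List Net) (a : ℕ) (P : Pl) (k : Pl → Bool) : Bool :=
  List.rec (motive := fun _ => (Pl → Bool) → Bool) (fun k => k [])
    (fun c _ ih k => lit (gat ns a c.1) fun x => lit (gat ns a c.2) fun y =>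
      ih fun Q => k ((x, y) :: Q)) P k

theorem gatK_sound {B : ℕ} {ns : List Net} (hv : validAll B ns = true) (q : ℕ) {a : ℕ} {P : Pl}
    {k : Pl → Bool} (h : gatK ns a P k = true) : ∃ Q : Pl, Q.length = P.length ∧
      (∀ t n, pv q Q t n = pv q P t (lp ns a n)) ∧ k Q = true := by
  induction P generalizing k with
  | nil => exact ⟨[], rfl, fun t n => by simp [pv_nil], h⟩
  | cons c P ih =>
    obtain ⟨Q, h1, h2, h3⟩ := ih
      (h : gatK ns a P (fun Q => k ((gat ns a c.1, gat ns a c.2) :: Q)) = true)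
    refine ⟨_, by simp [h1], fun t n => ?_, h3⟩
    cases t with
    | zero => exact val_gat hv q a c.1 c.2 n
    | succ t => exact h2 t n

/-- The coordinates: a family of `D` vectors spanning `V`. -/
structure Co (q : ℕ) (F V : Type*) [Field F] [AddCommGroup V] [Module F V] where
  hq : q = 2 ∨ q = 3
  f : ZMod q →+* F
  D : ℕ
  b : ℕ → V
  span : Submodule.span F (b '' Set.Iio D) = ⊤

namespace Co

variable {q : ℕ} {F V : Type*} [Field F] [AddCommGroup V] [Module F V] (C : Co q F V)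

/-- Column `n` as a vector. -/
noncomputable def vec (P : Pl) (n : ℕ) : V := ∑ t ∈ Finset.range C.D, C.f (pv q P t n) • C.b t

/-- The matrix `r` describes `T`. -/
def Acts (T : Module.End F V) (r : Pl) : Prop := r.length ≤ C.D ∧ ∀ s < C.D, T (C.b s) = C.vec r s

variable {C}

theorem vec_congr {P Q : Pl} {n n' : ℕ} (h : ∀ t < C.D, pv q P t n = pv q Q t n') :
    C.vec P n = C.vec Q n' :=
  Finset.sum_congr rfl fun t ht => by rw [h t (Finset.mem_range.1 ht)]

theorem vec_idP {s : ℕ} (hs : s < C.D) : C.vec (idP C.D) s = C.b s := by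
  rw [vec, Finset.sum_eq_single s]
  · rw [pv_idP q hs]; simp
  · intro t ht e; rw [pv_idP q (Finset.mem_range.1 ht)]; simp [e]
  · simp [hs]

theorem acts_one : C.Acts 1 (idP C.D) := ⟨by simp [idP], fun _ hs => (vec_idP hs).symm⟩

theorem Acts.eq {T T' : Module.End F V} {r r' : Pl} (h : C.Acts T r) (h' : C.Acts T' r')
    (e : eqP q C.D r r' = true) : T = T' := by
  obtain ⟨m, h1, h2⟩ := difK_sound C.hq e
  refine LinearMap.ext_on C.span ?_
  rintro _ ⟨s, hs, rfl⟩
  rw [h.2 s hs, h'.2 s hs]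
  exact vec_congr (h2 s (by rw [Nat.eq_of_beq_eq_true h1]; simp))

theorem Acts.mulK {T : Module.End F V} {r P : Pl} (h : C.Acts T r) (hP : P.length ≤ C.D)
    {k : Pl → Bool} (e : mulK q r P k = true) :
    ∃ Q : Pl, Q.length ≤ C.D ∧ (∀ n, T (C.vec P n) = C.vec Q n) ∧ k Q = true := by
  obtain ⟨Q, h1, h2, h3⟩ := mulK_sound C.hq e
  refine ⟨Q, h1 ▸ h.1, fun n => ?_, h3⟩
  have e1 : ∀ t, pv q Q t n = ∑ i ∈ Finset.range C.D, pv q r t i * pv q P i n := fun t => by
    rw [h2]
    refine Finset.sum_subset (Finset.range_subset_range.2 hP) fun i _ hi => ?_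
    rw [pv_of_le (P := P) (by simpa using hi), mul_zero]
  rw [vec, map_sum, vec]
  simp only [e1, map_sum, Finset.sum_smul, map_smul]
  rw [Finset.sum_comm]
  refine Finset.sum_congr rfl fun i hi => ?_
  rw [h.2 i (Finset.mem_range.1 hi), vec, Finset.smul_sum]
  refine Finset.sum_congr rfl fun t _ => ?_
  rw [smul_smul, map_mul, mul_comm]

theorem Acts.of_eqP {T : Module.End F V} {r r' : Pl} (h : ∀ s < C.D, T (C.b s) = C.vec r s)
    (hl : r'.length ≤ C.D) (e : eqP q C.D r r' = true) : C.Acts T r' := by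
  obtain ⟨m, h1, h2⟩ := difK_sound C.hq e
  refine ⟨hl, fun s hs => (h s hs).trans (vec_congr (h2 s ?_))⟩
  rw [Nat.eq_of_beq_eq_true h1]; simp

variable {G : Type*} [Group G]

variable (C) in
/-- The matrices of a family of group elements. -/
def ActsL (ρ : G →* Module.End F V) (g : ℕ → G) (Rs : List Pl) : Prop :=
  ∀ a < Rs.length, C.Acts (ρ (g a)) (nth [] Rs a)

variable {ρ : G →* Module.End F V} {g : ℕ → G} {Rs : List Pl}

theorem ActsL.wordK (h : C.ActsL ρ g Rs) {P : Pl} (hP : P.length ≤ C.D) {w : List ℕ}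
    {k : Pl → Bool} (e : wordK q Rs P w k = true) :
    ∃ Q : Pl, Q.length ≤ C.D ∧ (∀ n, ρ (ev g w) (C.vec P n) = C.vec Q n) ∧ k Q = true := by
  induction w generalizing k with
  | nil => exact ⟨P, hP, fun n => by simp, e⟩
  | cons a w ih =>
    have e' : (Nat.ble (a + 1) Rs.length &&
        Mult.wordK q Rs P w fun Q => Mult.mulK q (nth [] Rs a) Q k) = true := e
    rw [Bool.and_eq_true, Nat.ble_eq] at e'
    obtain ⟨Q, h1, h2, h3⟩ := ih e'.2
    obtain ⟨Q', h4, h5, h6⟩ := (h a e'.1).mulK h1 h3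
    exact ⟨Q', h4, fun n => by rw [ev_cons, map_mul, Module.End.mul_apply, h2, h5], h6⟩

theorem ActsL.word (h : C.ActsL ρ g Rs) {w : List ℕ} {k : Pl → Bool}
    (e : Mult.wordK q Rs (idP C.D) w k = true) : ∃ Q : Pl, C.Acts (ρ (ev g w)) Q ∧ k Q = true := by
  obtain ⟨Q, h1, h2, h3⟩ := h.wordK (acts_one (C := C)).1 e
  exact ⟨Q, ⟨h1, fun s hs => by rw [← h2, vec_idP hs]⟩, h3⟩

end Co

/-- The matrices of derived generators and of their inverses. -/
noncomputable def derB (q D : ℕ) (Bs : List Pl) (W : List (List ℕ)) (Rs : List Pl) : Bool :=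
  Nat.ble Rs.length (Nat.mul 2 W.length) && allLt W.length fun j =>
    Nat.ble (nth [] Rs (Nat.mul 2 j)).length D &&
    (Nat.ble (nth [] Rs (Nat.succ (Nat.mul 2 j))).length D &&
    ((wordK q Bs (idP D) (nth [] W j) fun Q => eqP q D Q (nth [] Rs (Nat.mul 2 j))) &&
    mulK q (nth [] Rs (Nat.mul 2 j)) (nth [] Rs (Nat.succ (Nat.mul 2 j))) (eqP q D (idP D))))

/-- The value of the word is the matrix `r`. -/
noncomputable def isW (q D : ℕ) (Rs : List Pl) (w : List ℕ) (r : Pl) : Bool :=
  wordK q Rs (idP D) w (eqP q D r)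

/-- The value of the word is one of the matrices `Ts`. -/
noncomputable def scalW (q D : ℕ) (Rs Ts : List Pl) (w : List ℕ) : Bool :=
  wordK q Rs (idP D) w fun Q => List.rec false (fun T _ ih => Bool.rec ih true (eqP q D Q T)) Ts

/-- Generator `j` permutes the points. -/
noncomputable def actB (q D : ℕ) (Rs Ts : List Pl) (P : Pl) (ns : List Net) (j : ℕ) : Bool :=
  Nat.ble (Nat.succ (Nat.mul 2 j)) Rs.length && mulK q (nth [] Rs (Nat.mul 2 j)) P fun Q =>
    gatK ns (Nat.mul 2 j) P fun P' => oneOf q D Ts P' Q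

namespace Co

variable {q : ℕ} {F V : Type*} [Field F] [AddCommGroup V] [Module F V] {C : Co q F V}
  {G : Type*} [Group G] {ρ : G →* Module.End F V} {g : ℕ → G} {Rs : List Pl}

theorem ActsL.der {Bs : List Pl} (h : C.ActsL ρ g Bs) {W : List (List ℕ)}
    (e : derB q C.D Bs W Rs = true) : C.ActsL ρ (ext (der g W)) Rs := by
  simp only [derB, Bool.and_eq_true, allLt_iff, Nat.ble_eq, Nat.mul_eq] at e
  intro a ha
  obtain ⟨h1, h2, h3, h4⟩ := e.2 (a / 2) (by omega)
  obtain ⟨Q, h5, h6⟩ := h.word h3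
  have h7 : C.Acts (ρ (CGT.der g W (a / 2))) (nth [] Rs (2 * (a / 2))) := Acts.of_eqP h5.2 h1 h6
  unfold CGT.ext
  split_ifs with h0
  · rwa [show 2 * (a / 2) = a by omega] at h7
  · obtain ⟨Q', -, h8, h9⟩ := h7.mulK h2 h4
    rw [show (2 * (a / 2)).succ = a by omega] at h2 h8
    obtain ⟨m, h10, h11⟩ := difK_sound C.hq h9
    refine ⟨h2, fun s hs => ?_⟩
    rw [← vec_idP hs, vec_congr (h11 s (by rw [Nat.eq_of_beq_eq_true h10]; simp)), ← h8,
      ← Module.End.mul_apply, ← map_mul, inv_mul_cancel, map_one, Module.End.one_apply]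

theorem ActsL.isW (h : C.ActsL ρ g Rs) (hρ : Function.Injective ρ) {w : List ℕ} {r : Pl} {x : G}
    (hx : C.Acts (ρ x) r) (e : isW q C.D Rs w r = true) : x = ev g w := by
  obtain ⟨Q, h1, h2⟩ := h.word e
  exact hρ (hx.eq h1 h2)

variable (C) in
/-- The matrices `Ts` describe scalars. -/
def Scal (Ts : List Pl) : Prop := ∀ T ∈ Ts, ∃ a : Fˣ, C.Acts ((a : F) • 1) T

theorem ActsL.scalW (h : C.ActsL ρ g Rs) {Ts : List Pl} (hT : C.Scal Ts) {w : List ℕ}
    (e : scalW q C.D Rs Ts w = true) : ∃ a : Fˣ, ρ (ev g w) = (a : F) • 1 := by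
  obtain ⟨Q, h1, h2⟩ := h.word e
  clear e
  induction Ts with
  | nil => exact absurd h2 (by simp)
  | cons T Ts ih =>
    cases e : eqP q C.D Q T with
    | true =>
      obtain ⟨a, ha⟩ := hT T (by simp)
      exact ⟨a, h1.eq ha e⟩
    | false =>
      simp only [e] at h2
      exact ih (fun T h => hT T (by simp [h])) h2

theorem oneOf_sound {Ts : List Pl} (hT : C.Scal Ts) {P Q : Pl} (hP : P.length ≤ C.D)
    (h : oneOf q C.D Ts P Q = true) (n : ℕ) : ∃ a : Fˣ, C.vec Q n = (a : F) • C.vec P n := by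
  have key : ∀ k : ℕ → Bool, List.rec (motive := fun _ => (ℕ → Bool) → Bool) (fun _ => false)
      (fun T Ts ih k => mulK q T P fun R => difK q C.D Q R fun m =>
        List.rec (k m) (fun _ _ _ => ih fun m' => lit (Nat.land m m') k) Ts) Ts k = true →
      ∃ m, k m = true ∧ (m.testBit n = false → ∃ a : Fˣ, C.vec Q n = (a : F) • C.vec P n) := by
    clear h
    induction Ts with
    | nil => intro k h; exact absurd h (by simp)
    | cons T Ts ih =>
      intro k h
      obtain ⟨a, ha⟩ := hT T (by simp)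
      obtain ⟨R, -, h1, h2⟩ := ha.mulK hP h
      obtain ⟨m, h3, h4⟩ := difK_sound C.hq h2
      have h5 : m.testBit n = false → ∃ a : Fˣ, C.vec Q n = (a : F) • C.vec P n := fun e =>
        ⟨a, by rw [vec_congr (h4 n e), ← h1]; rfl⟩
      cases Ts with
      | nil => exact ⟨m, h3, h5⟩
      | cons T' Ts =>
        obtain ⟨m', h6, h7⟩ := ih (fun T h => hT T (List.mem_cons_of_mem _ h)) _ h3
        refine ⟨_, h6, fun e => ?_⟩
        rw [land_eq, Nat.testBit_and, Bool.and_eq_false_iff] at e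
        exact e.elim h5 h7
  obtain ⟨m, h1, h2⟩ := key _ h
  exact h2 (by rw [Nat.eq_of_beq_eq_true h1]; simp)

theorem ActsL.actB {γ : ℕ → G} (h : C.ActsL ρ (ext γ) Rs) {Ts : List Pl} (hT : C.Scal Ts) {P : Pl}
    (hP : P.length ≤ C.D) {B : ℕ} {ns : List Net} (hv : validAll B ns = true) {j : ℕ}
    (e : actB q C.D Rs Ts P ns j = true) (n : ℕ) :
    ∃ a : Fˣ, ρ (γ j) (C.vec P n) = (a : F) • C.vec P (netPerm ns j n) := by
  simp only [Mult.actB, Bool.and_eq_true, Nat.ble_eq, Nat.mul_eq] at e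
  have h1 := h (2 * j) e.1
  have e1 : ∀ {H : Type _} [Group H] (δ : ℕ → H), CGT.ext δ (2 * j) = δ j := fun δ => by
    unfold CGT.ext; simp
  have e2 : lp ns (2 * j) = netPerm ns j := by unfold CGT.lp CGT.ext; simp
  rw [e1] at h1
  obtain ⟨Q, -, h2, h3⟩ := h1.mulK hP e.2
  obtain ⟨P', h4, h5, h6⟩ := gatK_sound hv q h3
  obtain ⟨a, ha⟩ := oneOf_sound hT (h4 ▸ hP) h6 n
  exact ⟨a, by rw [h2, ha, vec_congr fun t _ => h5 t n, e2]⟩

/-- Generation is inherited by derived generators. -/
theorem ActsL.gen {γ : ℕ → G} (h : C.ActsL ρ (ext γ) Rs) (hρ : Function.Injective ρ) {Bs : List Pl}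
    (hB : C.ActsL ρ g Bs) (hgen : ∀ H : Subgroup G, (∀ a < Bs.length, g a ∈ H) → H = ⊤)
    {L : List ℕ} {U : List (List ℕ)} (e : (allLt Bs.length fun a => wordIn L (nth [] U a) &&
      Mult.isW q C.D Rs (nth [] U a) (nth [] Bs a)) = true) : gp γ L = ⊤ :=
  hgen _ fun a ha => by
    have := allLt_iff.1 e a ha
    rw [Bool.and_eq_true] at this
    rw [h.isW hρ (hB a ha) this.2]
    exact wordIn_sound γ this.1

/-- The certificate of the quotient of a linear group by its scalars. -/
theorem ActsL.cert {Q : Type*} [Group Q] {γ : ℕ → G} (h : C.ActsL ρ (ext γ) Rs) (π : G →* Q)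
    (hπ : Function.Surjective π) (hker : ∀ x, π x = 1 ↔ ∃ a : Fˣ, ρ x = (a : F) • 1)
    {L : List ℕ} (gen : gp γ L = ⊤) {Ts : List Pl} (hT : C.Scal Ts) {P : Pl} (hP : P.length ≤ C.D)
    {N : ℕ} (hu : ∀ i j, i < N → j < N → ∀ a : Fˣ, C.vec P i = (a : F) • C.vec P j → i = j)
    {k : ℕ} {ns : List Net} (hv : validAll (2 ^ k) ns = true) (hfix : fixAbove k N ns = true)
    (h1 : ∀ j, ns.length ≤ j → γ j = 1) (ha : ∀ j < ns.length, Mult.actB q C.D Rs Ts P ns j = true)
    {ts : List Tab} (ht : TabsOK k (lp ns) ts) {ls : List Level}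
    (hs : ∀ φ : Q →* Perm ℕ, Model φ (fun j => π (γ j)) k ns ts →
      ChainSound φ (gp (fun j => π (γ j)) L) k [] ls)
    {R : List (List ℕ)} (hR : ∀ w ∈ R, Mult.scalW q C.D Rs Ts w = true) {n : ℕ}
    (hb : Holds (ext fun j => π (γ j)) R → Bd (gp (fun j => π (γ j)) L) n)
    (e : Nat.ble n (chainCard ls) = true) :
    ∃ φ, CGT.Cert φ (fun j => π (γ j)) k ns ts L ls ∧ Holds (ext fun j => π (γ j)) R := by
  have e1 : (ext fun j => π (γ j)) = fun a => π (ext γ a) := funext fun a => (map_ext π γ a).symm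
  have hg : gp (fun j => π (γ j)) L = ⊤ := by
    rw [eq_top_iff, ← MonoidHom.range_eq_top.2 hπ, MonoidHom.range_eq_map, ← gen, map_le_iff_le_comap]
    exact gp_le fun a ha => by rw [mem_comap, map_ext]; exact ext_mem_gp _ ha
  have hrel : Holds (ext fun j => π (γ j)) R := fun w hw => by
    rw [e1, ← map_ev, hker]; exact h.scalW hT (hR w hw)
  obtain ⟨φ, h2, -⟩ := exists_hom_rel hg (N := N) (p := netPerm ns)
    (fun x i j => ∃ y, π y = x ∧ ∃ a : Fˣ, ρ y (C.vec P i) = (a : F) • C.vec P j)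
    (fun i _ => ⟨1, map_one _, 1, by simp⟩)
    (by
      rintro _ _ i j l - - - ⟨y, rfl, a, h1⟩ ⟨x, rfl, b, h2⟩
      exact ⟨x * y, map_mul _ _ _, a * b, by
        rw [map_mul, Module.End.mul_apply, h1, map_smul, h2, smul_smul, Units.val_mul]⟩)
    (by
      rintro _ i j - - ⟨x, rfl, a, h1⟩
      refine ⟨x⁻¹, map_inv _ _, a⁻¹, ?_⟩
      have := congrArg (ρ x⁻¹) h1
      rw [← Module.End.mul_apply, ← map_mul, inv_mul_cancel, map_one, Module.End.one_apply,
        map_smul] at this
      rw [this, smul_smul, Units.inv_mul, one_smul])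
    (by
      rintro i j hi hj ⟨x, e, a, h1⟩
      obtain ⟨b, hb⟩ := (hker x).1 e
      refine hu i j hi hj (b⁻¹ * a) ?_
      rw [hb, LinearMap.smul_apply, Module.End.one_apply] at h1
      rw [Units.val_mul, mul_smul, ← h1, smul_smul, Units.inv_mul, one_smul])
    (fixAbove_sound hv hfix) (fun j i _ => ⟨γ j, rfl, by
      by_cases hj : j < ns.length
      · exact h.actB hT hP hv (ha j hj) i
      · have : netPerm ns j = 1 := by
          rw [netPerm, nth_eq, List.getD_eq_default _ _ (by omega)]; rfl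
        exact ⟨1, by rw [h1 j (by omega), this]; simp⟩⟩)
  have hb' := hb hrel
  rw [hg] at hb'
  have M : Model φ (fun j => π (γ j)) k ns ts := ⟨hv, h2, ht⟩
  haveI := hb'.1
  exact ⟨φ, CGT.Cert.of_bound M hg (hs φ M) ⟨Finite.of_equiv _ topEquiv.toEquiv, by
    simpa using hb'.2⟩ e, hrel⟩

end Co

end Cfsg.Agent.Mult
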