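import Cfsg.Agent.Mult.Split

set_option autoImplicit false
set_option linter.style.haveILetI false

/-! Covers as monomial permutation models, checked on bit planes. -/

namespace Cfsg.Agent.Mult

open Subgroup hiding ext
open Cfsg.Agent.CGT Equiv

universe u v

/-- A projective model: the relator `R j` has the value `z ^ as j`. -/
structure Proj {X : Type*} [Group X] (y : ℕ → X) (z : X) (q : ℕ) (R : List (List ℕ))
    (as : List ℕ) : Prop where
  ord : orderOf z = q
  comm : ∀ j, Commute z (y j)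
  rel : ∀ j, ev (ext y) (nth [] R j) = z ^ nth 0 as j

/-- The exponent of `z` in a product of relators and inverse relators. -/
noncomputable def sumP (q : ℕ) (as u : List ℕ) : ℕ :=
  List.rec 0 (fun a _ ih => Nat.add (Nat.mul (Bool.rec (Nat.sub q 1) 1 (Nat.beq (Nat.mod a 2) 0))
    (nth 0 as (Nat.div a 2))) ih) u

theorem Proj.ev_pick {X : Type*} [Group X] {y : ℕ → X} {z : X} {q : ℕ} [NeZero q]
    {R : List (List ℕ)} {as : List ℕ} (P : Proj y z q R as) (u : List ℕ) :
    ev (ext y) (expand (dbl R) u) = z ^ (sumP q as u % q) := by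
  rw [ev_expand_dbl, ← P.ord, pow_mod_orderOf, P.ord]
  induction u with
  | nil => simp [sumP]
  | cons a u ih =>
    rw [ev_cons, ih]
    change _ = z ^ ((Bool.rec (q - 1) 1 (Nat.beq (a % 2) 0) : ℕ) * nth 0 as (a / 2) + sumP q as u)
    rw [pow_add, CGT.ext, wg, P.rel]
    congr 1
    rcases Nat.mod_two_eq_zero_or_one a with h | h
    · rw [h]; simp
    · rw [h, if_neg one_ne_zero, inv_eq_iff_mul_eq_one, ← pow_add]
      change z ^ (_ + (q - 1) * _) = 1
      rw [← Nat.one_mul (nth 0 as (a / 2)), ← mul_assoc, mul_one, ← add_mul,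
        Nat.add_sub_cancel' (Nat.pos_of_ne_zero (NeZero.ne q)), pow_mul, ← P.ord,
        pow_orderOf_eq_one, one_pow]

theorem ev_pick_one {G : Type*} [Group G] {γ : ℕ → G} {R : List (List ℕ)} (h : Holds (ext γ) R)
    (u : List ℕ) : ev (ext γ) (expand (dbl R) u) = 1 := by
  rw [ev_expand_dbl]
  refine mem_bot.1 (ev_mem _ _ _ fun a _ => ext_mem ?_)
  exact mem_bot.2 (Enum.holds_nth h _)

theorem Proj.rels {G : Type u} [Group G] [Finite G] {γ : ℕ → G} {L : List ℕ} (gen : gp γ L = ⊤)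
    {R : List (List ℕ)} (hR : Holds (ext γ) R) {N : ℕ} (hN : Nat.card G = N)
    (hU : ∀ {H : Type (max u v)} [Group H] {h : ℕ → H}, Holds (ext h) R → Bd (gp h L) N)
    {X : Type v} [Group X] {y : ℕ → X} {z : X} {q : ℕ} {as : List ℕ} (P : Proj y z q R as)
    (w : List ℕ) (hw : ∀ a ∈ w, a ∈ L ∨ a ^^^ 1 ∈ L) (h1 : ev (ext γ) w = 1) :
    ev (ext y) w ∈ zpowers z := by
  refine rel_of_bound gen hR hN hU ?_ (fun r hr => ?_) w hw h1
  · rintro _ ⟨i, rfl⟩ j
    exact (P.comm j).zpow_left i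
  · obtain ⟨j, hj, rfl⟩ := List.getElem_of_mem hr
    have := P.rel j
    rw [nth_eq, List.getD_eq_getElem _ _ hj] at this
    exact this ▸ pow_mem (mem_zpowers z) _

/-- The product of relators named by `u` is a balanced word in the letters `L`. -/
noncomputable def pickB (L : List ℕ) (m : ℕ) (R : List (List ℕ)) (u : List ℕ) : Bool :=
  litL (expand (dbl R) u) fun w => wordIn L w && bal m w

/-- A cyclic cover. -/
theorem stem_proj {G : Type u} [Group G] [Finite G] {γ : ℕ → G} {L : List ℕ} (gen : gp γ L = ⊤)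
    {R : List (List ℕ)} (hR : Holds (ext γ) R) {N : ℕ} (hN : Nat.card G = N)
    (hU : ∀ {H : Type (max u v)} [Group H] {h : ℕ → H}, Holds (ext h) R → Bd (gp h L) N)
    {X : Type v} [Group X] {y : ℕ → X} {z : X} {q : ℕ} [NeZero q] {as : List ℕ}
    (P : Proj y z q R as) (m : ℕ) (u : List ℕ)
    (h : (pickB L m R u && Nat.beq (Nat.mod (sumP q as u) q) 1) = true) :
    Stem G (Multiplicative (ZMod q)) := by
  simp only [pickB, litL_eq, Bool.and_eq_true, Nat.beq_eq, mod_eq'] at h
  exact stem_cyc gen y z P.ord P.comm (P.rels gen hR hN hU) h.1.1 h.1.2 (ev_pick_one hR u)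
    (by rw [P.ev_pick, h.2, pow_one])

/-- A cover with a kernel of rank two. -/
theorem stem_proj_two {G : Type u} [Group G] [Finite G] {γ : ℕ → G} {L : List ℕ}
    (gen : gp γ L = ⊤) {R : List (List ℕ)} (hR : Holds (ext γ) R) {N : ℕ} (hN : Nat.card G = N)
    (hU : ∀ {H : Type (max u v)} [Group H] {h : ℕ → H}, Holds (ext h) R → Bd (gp h L) N)
    {X₁ X₂ : Type v} [Group X₁] [Group X₂] {y₁ : ℕ → X₁} {y₂ : ℕ → X₂} {z₁ : X₁} {z₂ : X₂}
    {q₁ q₂ : ℕ} [NeZero q₁] [NeZero q₂] {as₁ as₂ : List ℕ}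
    (P₁ : Proj y₁ z₁ q₁ R as₁) (P₂ : Proj y₂ z₂ q₂ R as₂) (m : ℕ) (u₁ u₂ : List ℕ)
    (h : ((pickB L m R u₁ && (Nat.beq (Nat.mod (sumP q₁ as₁ u₁) q₁) 1 &&
      Nat.beq (Nat.mod (sumP q₂ as₂ u₁) q₂) 0)) &&
      (pickB L m R u₂ && (Nat.beq (Nat.mod (sumP q₁ as₁ u₂) q₁) 0 &&
      Nat.beq (Nat.mod (sumP q₂ as₂ u₂) q₂) 1))) = true) :
    Stem G (Multiplicative (ZMod q₁ × ZMod q₂)) := by
  simp only [pickB, litL_eq, Bool.and_eq_true, Nat.beq_eq, mod_eq'] at h
  obtain ⟨⟨⟨a1, a2⟩, a3, a4⟩, ⟨b1, b2⟩, b3, b4⟩ := h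
  exact stem_two gen y₁ y₂ z₁ z₂ P₁.ord P₂.ord P₁.comm P₂.comm (P₁.rels gen hR hN hU)
    (P₂.rels gen hR hN hU) a1 a2 (ev_pick_one hR _) (by rw [P₁.ev_pick, a3, pow_one])
    (by rw [P₂.ev_pick, a4, pow_zero]) b1 b2 (ev_pick_one hR _)
    (by rw [P₁.ev_pick, b3, pow_zero]) (by rw [P₂.ev_pick, b4, pow_one])

/-- For each letter `a` of `L` a product `w` of relators such that `a :: w` is balanced. -/
noncomputable def perfP (m : ℕ) (R : List (List ℕ)) (L : List ℕ) (us : List (List ℕ)) : Bool :=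
  List.rec (motive := fun _ => List (List ℕ) → Bool) (fun _ => true)
    (fun a _ ih us => litL (a :: expand (dbl R) (nth [] us 0)) (bal m) && ih (List.tail us)) L us

/-- Perfectness from the relators. -/
theorem perfP_sound {G : Type*} [Group G] {γ : ℕ → G} {L : List ℕ} (gen : gp γ L = ⊤)
    {R : List (List ℕ)} (hR : Holds (ext γ) R) (m : ℕ) (us : List (List ℕ))
    (h : perfP m R L us = true) : commutator G = ⊤ := by
  refine perfect_of_bal gen ?_
  clear gen
  induction L generalizing us with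
  | nil => simp
  | cons a L ih =>
    have h' : (litL (a :: expand (dbl R) (nth [] us 0)) (bal m) && perfP m R L us.tail) = true := h
    rw [Bool.and_eq_true, litL_eq] at h'
    intro b hb
    rcases List.mem_cons.1 hb with rfl | hb
    · exact ⟨m, _, h'.1, by rw [ev_cons, ev_pick_one hR, mul_one]⟩
    · exact ih _ h'.2 b hb

/-- A monomial permutation. -/
def mono {A : Type} [AddCommGroup A] (π : Perm ℕ) (c : ℕ → A) : Perm (ℕ × A) where
  toFun p := (π p.1, p.2 + c p.1)
  invFun p := (π⁻¹ p.1, p.2 - c (π⁻¹ p.1))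
  left_inv p := by simp
  right_inv p := by simp

theorem mono_mul {A : Type} [AddCommGroup A] (π σ : Perm ℕ) (c d : ℕ → A) :
    mono π c * mono σ d = mono (π * σ) fun x => c (σ x) + d x := by
  ext p
  · rfl
  · change p.2 + d p.1 + c (σ p.1) = p.2 + (c (σ p.1) + d p.1)
    abel

theorem mono_inv {A : Type} [AddCommGroup A] (π : Perm ℕ) (c : ℕ → A) :
    (mono π c)⁻¹ = mono π⁻¹ fun x => -c (π⁻¹ x) := by
  ext p
  · rfl
  · exact sub_eq_add_neg _ _

theorem mono_one {A : Type} [AddCommGroup A] : mono 1 (fun _ => (0 : A)) = 1 := by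
  ext p
  · rfl
  · exact add_zero _

theorem mono_pow {A : Type} [AddCommGroup A] (c : ℕ → A) (n : ℕ) :
    mono 1 c ^ n = mono 1 fun x => n • c x := by
  induction n with
  | zero => simp [mono_one]
  | succ n ih => rw [pow_succ, ih, mono_mul]; simp [succ_nsmul]

/-- The value of two bit planes at a point. -/
def val (q a b x : ℕ) : ZMod q := bt _ (a.testBit x) + 2 * bt _ (b.testBit x)

/-- Addition on bit planes modulo `q ∈ {2, 3, 4}`. -/
noncomputable def addK (q a b c d : ℕ) (k : ℕ → ℕ → Bool) : Bool :=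
  lit (Nat.xor a c) fun s => Bool.rec (Bool.rec
    (lit (Nat.xor (Nat.xor b d) (Nat.land a c)) (k s))
    (lit (Nat.land a c) fun e => lit (Nat.xor b d) fun u =>
      lit (Nat.lor (Nat.land b d) (Nat.land u e)) fun f => lit (Nat.xor s f) fun t =>
      lit (Nat.xor (Nat.xor u e) (Nat.land s f)) (k t)) (Nat.beq q 3)) (k s 0) (Nat.beq q 2)

/-- Negation on bit planes. -/
noncomputable def negK (q c d : ℕ) (k : ℕ → ℕ → Bool) : Bool :=
  Bool.rec (Bool.rec (lit (Nat.xor c d) (k c)) (k d c) (Nat.beq q 3)) (k c 0) (Nat.beq q 2)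

/-- The planes represent zero. -/
noncomputable def zeroK (q c d : ℕ) : Bool :=
  Bool.rec (Nat.beq c 0 && Nat.beq d 0) (Nat.beq c d) (Nat.beq q 3)

theorem addK_sound {q : ℕ} (hq : q = 2 ∨ q = 3 ∨ q = 4) {a b c d : ℕ} {k : ℕ → ℕ → Bool}
    (h : addK q a b c d k = true) :
    ∃ s t, (∀ x, val q s t x = val q a b x + val q c d x) ∧ k s t = true := by
  rcases hq with rfl | rfl | rfl <;>
  · refine ⟨_, _, fun x => ?_, h⟩
    simp only [val, xor_eq, land_eq, lor_eq, Nat.testBit_xor, Nat.testBit_and, Nat.testBit_or,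
      Nat.zero_testBit]
    cases a.testBit x <;> cases b.testBit x <;> cases c.testBit x <;> cases d.testBit x <;> decide

theorem negK_sound {q : ℕ} (hq : q = 2 ∨ q = 3 ∨ q = 4) {c d : ℕ} {k : ℕ → ℕ → Bool}
    (h : negK q c d k = true) : ∃ s t, (∀ x, val q s t x = -val q c d x) ∧ k s t = true := by
  rcases hq with rfl | rfl | rfl <;>
  · refine ⟨_, _, fun x => ?_, h⟩
    simp only [val, xor_eq, Nat.testBit_xor, Nat.zero_testBit]
    cases c.testBit x <;> cases d.testBit x <;> decide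

theorem zeroK_sound {q : ℕ} (hq : q = 2 ∨ q = 3 ∨ q = 4) {c d : ℕ} (h : zeroK q c d = true)
    (x : ℕ) : val q c d x = 0 := by
  rcases hq with rfl | rfl | rfl
  · have h' : (Nat.beq c 0 && Nat.beq d 0) = true := h
    simp only [Bool.and_eq_true, Nat.beq_eq] at h'
    simp [val, h'.1, h'.2, bt]
  · rw [Nat.eq_of_beq_eq_true (h : Nat.beq c d = true), val]
    cases d.testBit x <;> decide
  · have h' : (Nat.beq c 0 && Nat.beq d 0) = true := h
    simp only [Bool.and_eq_true, Nat.beq_eq] at h'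
    simp [val, h'.1, h'.2, bt]

/-- The generators of the monomial model. -/
noncomputable def yM (q : ℕ) (ns : List Net) (C : List (ℕ × ℕ)) (j : ℕ) : Perm (ℕ × ZMod q) :=
  mono (netPerm ns j) (val q (nth (0, 0) C j).1 (nth (0, 0) C j).2)

/-- The central element of the monomial model. -/
def zM (q U : ℕ) : Perm (ℕ × ZMod q) := mono 1 (val q U 0)

/-- The labels along a word. -/
noncomputable def labK (q : ℕ) (ns : List Net) (C : List (ℕ × ℕ)) (w : List ℕ)
    (k : ℕ → ℕ → Bool) (a b : ℕ) : Bool :=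
  List.rec (motive := fun _ => ℕ → ℕ → Bool) k
    (fun l _ ih a b => Bool.rec
      (negK q (nth (0, 0) C (Nat.div l 2)).1 (nth (0, 0) C (Nat.div l 2)).2 fun c d =>
        addK q a b c d fun s t => lit (gat ns l s) fun s' => lit (gat ns l t) (ih s'))
      (lit (gat ns l a) fun s => lit (gat ns l b) fun t =>
        addK q s t (nth (0, 0) C (Nat.div l 2)).1 (nth (0, 0) C (Nat.div l 2)).2 ih)
      (Nat.beq (Nat.mod l 2) 0)) w a b

theorem val_gat {B : ℕ} {ns : List Net} (hv : validAll B ns = true) (q l a b x : ℕ) :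
    val q (gat ns l a) (gat ns l b) x = val q a b (lp ns l x) := by
  simp only [val, testBit_gat hv]

theorem labK_sound {q : ℕ} (hq : q = 2 ∨ q = 3 ∨ q = 4) {B : ℕ} {ns : List Net}
    (hv : validAll B ns = true) {C : List (ℕ × ℕ)} {w : List ℕ} {k : ℕ → ℕ → Bool} {a b : ℕ}
    (h : labK q ns C w k a b = true) (π : Perm ℕ) :
    ∃ s t, mono π (val q a b) * ev (ext (yM q ns C)) w = mono (π * ev (lp ns) w) (val q s t) ∧
      k s t = true := by
  induction w generalizing a b π with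
  | nil => exact ⟨a, b, by simp, h⟩
  | cons l w ih =>
    rw [ev_cons, ev_cons, ← mul_assoc, ← mul_assoc]
    rcases Nat.mod_two_eq_zero_or_one l with h0 | h0
    · have h1 : addK q (gat ns l a) (gat ns l b) (nth (0, 0) C (l / 2)).1 (nth (0, 0) C (l / 2)).2
          (labK q ns C w k) = true := by
        have h2 : Nat.beq (Nat.mod l 2) 0 = true := by rw [mod_eq', h0]; rfl
        unfold labK at h
        simp only [h2] at h
        exact h
      obtain ⟨s, t, h2, h3⟩ := addK_sound hq h1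
      obtain ⟨s', t', h4, h5⟩ := ih h3 (π * lp ns l)
      refine ⟨s', t', ?_, h5⟩
      rw [← h4, CGT.ext, if_pos h0, yM, mono_mul, CGT.lp, CGT.ext, if_pos h0]
      congr 2
      funext x
      rw [h2, val_gat hv, CGT.lp, CGT.ext, if_pos h0]
    · have h1 : negK q (nth (0, 0) C (l / 2)).1 (nth (0, 0) C (l / 2)).2 (fun c d =>
          addK q a b c d fun s t => labK q ns C w k (gat ns l s) (gat ns l t)) = true := by
        have h2 : Nat.beq (Nat.mod l 2) 0 = false := by rw [mod_eq', h0]; rfl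
        unfold labK at h
        simp only [h2] at h
        exact h
      obtain ⟨c, d, h6, h7⟩ := negK_sound hq h1
      obtain ⟨s, t, h2, h3⟩ := addK_sound hq h7
      obtain ⟨s', t', h4, h5⟩ := ih h3 (π * lp ns l)
      refine ⟨s', t', ?_, h5⟩
      have h8 : ¬ l % 2 = 0 := by omega
      rw [← h4, CGT.ext, if_neg h8, yM, mono_inv, mono_mul, CGT.lp, CGT.ext, if_neg h8]
      congr 2
      funext x
      rw [val_gat hv, h2, h6, CGT.lp, CGT.ext, if_neg h8]

/-- The final test: the planes are `e` times the indicator of `U`. -/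
noncomputable def finK (q U e a b : ℕ) : Bool :=
  Nat.ble e 3 && negK q (Nat.mul (Nat.mod e 2) U) (Nat.mul (Nat.div e 2) U) fun c d =>
    addK q a b c d (zeroK q)

theorem finK_sound {q : ℕ} (hq : q = 2 ∨ q = 3 ∨ q = 4) {U e a b : ℕ} (h : finK q U e a b = true) :
    mono 1 (val q a b) = zM q U ^ e := by
  rw [finK, Bool.and_eq_true, Nat.ble_eq] at h
  obtain ⟨c, d, h1, h2⟩ := negK_sound hq h.2
  obtain ⟨s, t, h3, h4⟩ := addK_sound hq h2
  rw [zM, mono_pow]
  congr 1
  funext x
  have h5 := h3 x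
  rw [zeroK_sound hq h4, h1, ← sub_eq_add_neg, eq_comm, sub_eq_zero] at h5
  rw [h5]
  have h6 := h.1
  interval_cases e <;> simp [val, bt, mod_eq', div_eq'] ; split_ifs <;> norm_num

/-- The relators with indices `a, …, a + m - 1`. -/
noncomputable def monB (q : ℕ) (ns : List Net) (C : List (ℕ × ℕ)) (U : ℕ) (R : List (List ℕ))
    (as : List ℕ) (a m : ℕ) : Bool :=
  allLt m fun i => lit (Nat.add a i) fun j => labK q ns C (nth [] R j) (finK q U (nth 0 as j)) 0 0

/-- The relators below `b` have the right labels. -/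
def MonR (q : ℕ) (ns : List Net) (C : List (ℕ × ℕ)) (U : ℕ) (R : List (List ℕ)) (as : List ℕ)
    (b : ℕ) : Prop :=
  ∀ j < b, ∃ s t, ev (ext (yM q ns C)) (nth [] R j) = mono (ev (lp ns) (nth [] R j)) (val q s t) ∧
    mono 1 (val q s t) = zM q U ^ nth 0 as j

theorem MonR.zero {q : ℕ} {ns : List Net} {C : List (ℕ × ℕ)} {U : ℕ} {R : List (List ℕ)}
    {as : List ℕ} : MonR q ns C U R as 0 := fun _ h => absurd h (Nat.not_lt_zero _)

theorem val_zero (q : ℕ) : val q 0 0 = fun _ => 0 := by funext x; simp [val, bt]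

theorem MonR.step {q : ℕ} (hq : q = 2 ∨ q = 3 ∨ q = 4) {B : ℕ} {ns : List Net}
    (hv : validAll B ns = true) {C : List (ℕ × ℕ)} {U : ℕ} {R : List (List ℕ)} {as : List ℕ}
    {a m : ℕ} (h : MonR q ns C U R as a) (h' : monB q ns C U R as a m = true) :
    MonR q ns C U R as (a + m) := by
  intro j hj
  rcases Nat.lt_or_ge j a with h1 | h1
  · exact h j h1
  · have h2 := allLt_iff.1 h' (j - a) (by omega)
    rw [lit_eq, show Nat.add a (j - a) = j by rw [Nat.add_eq]; omega] at h2
    obtain ⟨s, t, h3, h4⟩ := labK_sound hq hv h2 1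
    rw [val_zero, mono_one, one_mul, one_mul] at h3
    exact ⟨s, t, h3, finK_sound hq h4⟩

/-- A relator checked in two pieces `u`, `v`, with the planes `s`, `t` in between. -/
def Seg (q : ℕ) (ns : List Net) (C : List (ℕ × ℕ)) (u : List ℕ) (s t : ℕ) : Prop :=
  ev (ext (yM q ns C)) u = mono (ev (lp ns) u) (val q s t)

theorem Seg.nil {q : ℕ} {ns : List Net} {C : List (ℕ × ℕ)} : Seg q ns C [] 0 0 := by
  rw [Seg, val_zero]; exact mono_one.symm

theorem Seg.step {q : ℕ} (hq : q = 2 ∨ q = 3 ∨ q = 4) {B : ℕ} {ns : List Net}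
    (hv : validAll B ns = true) {C : List (ℕ × ℕ)} {u v : List ℕ} {s t s' t' : ℕ}
    (h : Seg q ns C u s t)
    (h' : labK q ns C v (fun a b => Nat.beq a s' && Nat.beq b t') s t = true) :
    Seg q ns C (u ++ v) s' t' := by
  obtain ⟨a, b, h1, h2⟩ := labK_sound hq hv h' (ev (lp ns) u)
  simp only [Bool.and_eq_true, Nat.beq_eq] at h2
  rw [Seg, ev_append, ev_append, h, h1, h2.1, h2.2]

theorem MonR.seg {q : ℕ} (hq : q = 2 ∨ q = 3 ∨ q = 4) {ns : List Net} {C : List (ℕ × ℕ)} {U : ℕ}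
    {R : List (List ℕ)} {as : List ℕ} {a : ℕ} (h : MonR q ns C U R as a) {u : List ℕ} {s t : ℕ}
    (h' : Seg q ns C u s t) (h'' : (beqL (nth [] R a) u && finK q U (nth 0 as a) s t) = true) :
    MonR q ns C U R as (a + 1) := by
  intro j hj
  rw [Bool.and_eq_true] at h''
  rcases Nat.lt_succ_iff_lt_or_eq.1 hj with h1 | rfl
  · exact h j h1
  · exact ⟨s, t, by rw [beqL_sound h''.1]; exact h', finK_sound hq h''.2⟩

/-- The set `U` is not empty and invariant; the lists are short. -/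
noncomputable def invB (ns : List Net) (U : ℕ) (R : List (List ℕ)) (as : List ℕ) (b : ℕ) : Bool :=
  !(Nat.beq U 0) && (allLt (len ns) (fun j => Nat.beq (gat ns (Nat.mul 2 j) U) U) &&
    (Nat.ble (len R) b && Nat.ble (len as) b))

theorem proj_mono {q : ℕ} (hq : q = 2 ∨ q = 3 ∨ q = 4) {B : ℕ} {ns : List Net}
    (hv : validAll B ns = true) {R : List (List ℕ)} (hR : Holds (lp ns) R) {C : List (ℕ × ℕ)}
    {U : ℕ} {as : List ℕ} {b : ℕ} (h : MonR q ns C U R as b) (hi : invB ns U R as b = true) :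
    Proj (yM q ns C) (zM q U) q R as := by
  simp only [invB, Bool.and_eq_true, Bool.not_eq_true', allLt_iff, Nat.beq_eq, Nat.ble_eq,
    len_eq] at hi
  obtain ⟨h1, h2, h3, h4⟩ := hi
  refine ⟨?_, fun j => ?_, fun j => ?_⟩
  · obtain ⟨x, hx⟩ := Nat.exists_testBit_of_ne_zero (Nat.ne_of_beq_eq_false h1)
    have key : ∀ n, zM q U ^ n = 1 ↔ q ∣ n := fun n => by
      rw [zM, mono_pow, ← ZMod.natCast_eq_zero_iff]
      constructor
      · intro h5
        have := congrArg (fun f : Perm (ℕ × ZMod q) => (f (x, 0)).2) h5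
        simpa [mono, val, hx, bt] using this
      · intro h5
        simp only [nsmul_eq_mul, h5, zero_mul]
        exact mono_one
    exact Nat.dvd_antisymm (orderOf_dvd_of_pow_eq_one ((key q).2 dvd_rfl))
      ((key _).1 (pow_orderOf_eq_one _))
  · have h5 : ∀ x, val q U 0 (netPerm ns j x) = val q U 0 x := fun x => by
      rcases Nat.lt_or_ge j ns.length with h6 | h6
      · have := testBit_gat hv (2 * j) U x
        rw [show gat ns (2 * j) U = U from h2 j h6, CGT.lp, ext_two_mul] at this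
        simp only [val, ← this, Nat.zero_testBit]
      · rw [netPerm_of_le ns h6]; rfl
    change _ * _ = _ * _
    rw [zM, yM, mono_mul, mono_mul, one_mul, mul_one]
    congr 1
    funext x
    rw [h5, add_comm]; rfl
  · rcases Nat.lt_or_ge j b with h5 | h5
    · obtain ⟨s, t, h6, h7⟩ := h j h5
      rw [h6, Enum.holds_nth hR, h7]
    · rw [nth_eq, nth_eq, List.getD_eq_default _ _ (by omega), List.getD_eq_default _ _ (by omega),
        pow_zero, ev_nil]

end Cfsg.Agent.Mult
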