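import Cfsg.Agent.CGT.Net

set_option autoImplicit false

/-! Packed exponent vectors: digits in base `B`, normal words and bounds. -/

namespace Cfsg.Agent.Mult

open Cfsg.Agent.CGT

/-- Evaluate `x` to a literal and pass it on. -/
noncomputable def lit {α : Type} (x : ℕ) (k : ℕ → α) : α :=
  Nat.rec (k x) (fun m _ => k m) (Nat.succ x)

@[simp] theorem lit_eq {α : Type} (x : ℕ) (k : ℕ → α) : lit x k = k x := rfl

/-- The ordered product `X a ^ d₀ * X (a+1) ^ d₁ * ⋯` over the first `m` digits of `u`. -/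
def nfF {Γ : Type*} [Monoid Γ] (X : ℕ → Γ) (B : ℕ) : ℕ → ℕ → ℕ → Γ
  | _, 0, _ => 1
  | a, m + 1, u => X a ^ (u % B) * nfF X B (a + 1) m (u / B)

/-- `u` has at most `m` digits, all of them at most `c`. -/
def Gd (c B : ℕ) : ℕ → ℕ → Prop
  | 0, u => u = 0
  | m + 1, u => u % B ≤ c ∧ Gd c B m (u / B)

theorem mod_pow_succ_mod (B m u : ℕ) : u % B ^ (m + 1) % B = u % B :=
  Nat.mod_mod_of_dvd _ (dvd_pow_self B (by omega))

theorem mod_pow_succ_div (B m u : ℕ) : u % B ^ (m + 1) / B = u / B % B ^ m := by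
  rw [pow_succ', Nat.mod_mul_right_div_self]

theorem div_pow_succ' (B m u : ℕ) : u / B ^ (m + 1) = u / B / B ^ m := by
  rw [pow_succ', Nat.div_div_eq_div_mul]

section nf
variable {Γ : Type*} [Monoid Γ] (X : ℕ → Γ) (B : ℕ)

theorem nfF_zero (a u : ℕ) : nfF X B a 0 u = 1 := by rw [nfF]

theorem nfF_succ (a m u : ℕ) :
    nfF X B a (m + 1) u = X a ^ (u % B) * nfF X B (a + 1) m (u / B) := by rw [nfF]

@[simp] theorem nfF_zero' (a m : ℕ) : nfF X B a m 0 = 1 := by
  induction m generalizing a with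
  | zero => rw [nfF_zero]
  | succ m ih => rw [nfF_succ]; simp [ih]

theorem nfF_mod (a m u : ℕ) : nfF X B a m (u % B ^ m) = nfF X B a m u := by
  induction m generalizing a u with
  | zero => rw [nfF_zero, nfF_zero]
  | succ m ih => rw [nfF_succ, nfF_succ, mod_pow_succ_mod, mod_pow_succ_div, ih]

theorem nfF_add (a m₁ m₂ u : ℕ) :
    nfF X B a (m₁ + m₂) u = nfF X B a m₁ (u % B ^ m₁) * nfF X B (a + m₁) m₂ (u / B ^ m₁) := by
  induction m₁ generalizing a u with
  | zero => simp [nfF_zero]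
  | succ m ih =>
    rw [show m + 1 + m₂ = (m + m₂) + 1 by omega, nfF_succ, nfF_succ, ih, mod_pow_succ_mod,
      mod_pow_succ_div, div_pow_succ', mul_assoc, show a + 1 + m = a + (m + 1) by omega]

theorem nfF_congr {X Y : ℕ → Γ} {a m u : ℕ}
    (h : ∀ r < m, u / B ^ r % B = 0 ∨ X (a + r) = Y (a + r)) : nfF X B a m u = nfF Y B a m u := by
  induction m generalizing a u with
  | zero => rw [nfF_zero, nfF_zero]
  | succ m ih =>
    rw [nfF_succ, nfF_succ, ih]
    · congr 1
      rcases h 0 (by omega) with h0 | h0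
      · simp only [pow_zero, Nat.div_one] at h0; rw [h0]; simp
      · simp only [add_zero] at h0; rw [h0]
    · intro r hr
      have := h (r + 1) (by omega)
      rwa [div_pow_succ', show a + (r + 1) = a + 1 + r by omega] at this

theorem nfF_shift (c a m u : ℕ) : nfF (fun j => X (c + j)) B a m u = nfF X B (c + a) m u := by
  induction m generalizing a u with
  | zero => rw [nfF_zero, nfF_zero]
  | succ m ih => rw [nfF_succ, nfF_succ, ih, add_assoc]

theorem map_nfF {Δ : Type*} [Monoid Δ] (f : Γ →* Δ) (a m u : ℕ) :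
    f (nfF X B a m u) = nfF (fun j => f (X j)) B a m u := by
  induction m generalizing a u with
  | zero => rw [nfF_zero, nfF_zero, map_one]
  | succ m ih => rw [nfF_succ, nfF_succ, map_mul, map_pow, ih]

/-- Splitting at digit `i`. -/
theorem nfF_split {i m : ℕ} (hB : 0 < B) {lo e : ℕ} (hi : ℕ) (hlo : lo < B ^ i) (he : e < B) :
    nfF X B 0 (i + (m + 1)) (lo + B ^ i * (e + B * hi)) =
      nfF X B 0 i lo * (X i ^ e * nfF X B (i + 1) m hi) := by
  rw [nfF_add, Nat.add_mul_mod_self_left, Nat.mod_eq_of_lt hlo,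
    Nat.add_mul_div_left _ _ (by positivity), Nat.div_eq_of_lt hlo, zero_add, zero_add, nfF_succ,
    Nat.add_mul_mod_self_left, Nat.mod_eq_of_lt he, Nat.add_mul_div_left _ _ hB,
    Nat.div_eq_of_lt he, zero_add]

theorem nfF_pow {B : ℕ} (hB : 1 < B) {j n : ℕ} (hj : j < n) : nfF X B 0 n (B ^ j) = X j := by
  obtain ⟨m, rfl⟩ : ∃ m, n = j + (m + 1) := ⟨n - j - 1, by omega⟩
  have := nfF_split X B (i := j) (m := m) (by omega) (lo := 0) (e := 1) 0 (by positivity) hB
  simpa using this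

end nf

theorem nfF_mem {Γ : Type*} [Group Γ] (X : ℕ → Γ) (B : ℕ) (H : Subgroup Γ) {a m : ℕ} (u : ℕ)
    (h : ∀ r < m, X (a + r) ∈ H) : nfF X B a m u ∈ H := by
  induction m generalizing a u with
  | zero => rw [nfF_zero]; exact H.one_mem
  | succ m ih =>
    rw [nfF_succ]
    refine H.mul_mem (H.pow_mem (by simpa using h 0 (by omega)) _) (ih _ fun r hr => ?_)
    have := h (r + 1) (by omega)
    rwa [show a + (r + 1) = a + 1 + r by omega] at this

section gd
variable {c B : ℕ}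

theorem Gd_zero (u : ℕ) : Gd c B 0 u ↔ u = 0 := by rw [Gd]

theorem Gd_succ (m u : ℕ) : Gd c B (m + 1) u ↔ u % B ≤ c ∧ Gd c B m (u / B) := by rw [Gd]

theorem Gd.zero (m : ℕ) : Gd c B m 0 := by
  induction m with
  | zero => rw [Gd_zero]
  | succ m ih => rw [Gd_succ]; simpa using ih

theorem Gd.mono {c' m u : ℕ} (h : Gd c B m u) (hc : c ≤ c') : Gd c' B m u := by
  induction m generalizing u with
  | zero => rwa [Gd_zero] at *
  | succ m ih => rw [Gd_succ] at *; exact ⟨h.1.trans hc, ih h.2⟩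

theorem Gd.lt (hB : 0 < B) {m u : ℕ} (h : Gd c B m u) : u < B ^ m := by
  induction m generalizing u with
  | zero => rw [Gd_zero] at h; simp [h]
  | succ m ih =>
    rw [Gd_succ] at h
    have := ih h.2
    rw [pow_succ]
    exact (Nat.div_lt_iff_lt_mul hB).1 this

theorem Gd_add (m₁ m₂ u : ℕ) :
    Gd c B (m₁ + m₂) u ↔ Gd c B m₁ (u % B ^ m₁) ∧ Gd c B m₂ (u / B ^ m₁) := by
  induction m₁ generalizing u with
  | zero => simp [Gd_zero, Nat.mod_one]
  | succ m ih =>
    rw [show m + 1 + m₂ = (m + m₂) + 1 by omega, Gd_succ, Gd_succ, ih, mod_pow_succ_mod,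
      mod_pow_succ_div, div_pow_succ', and_assoc]

theorem Gd.digit {m u : ℕ} (h : Gd c B m u) (r : ℕ) : u / B ^ r % B ≤ c := by
  induction m generalizing u r with
  | zero => rw [Gd_zero] at h; simp [h]
  | succ m ih =>
    rw [Gd_succ] at h
    cases r with
    | zero => simpa using h.1
    | succ r => rw [div_pow_succ']; exact ih h.2 r

theorem Gd_split {i m : ℕ} (hB : 0 < B) {lo e : ℕ} (hi : ℕ) (hlo : lo < B ^ i) (he : e < B) :
    Gd c B (i + (m + 1)) (lo + B ^ i * (e + B * hi)) ↔ Gd c B i lo ∧ e ≤ c ∧ Gd c B m hi := by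
  rw [Gd_add, Nat.add_mul_mod_self_left, Nat.mod_eq_of_lt hlo,
    Nat.add_mul_div_left _ _ (by positivity), Nat.div_eq_of_lt hlo, zero_add, Gd_succ,
    Nat.add_mul_mod_self_left, Nat.mod_eq_of_lt he, Nat.add_mul_div_left _ _ hB,
    Nat.div_eq_of_lt he, zero_add]

theorem Gd.extend (hB : 0 < B) {m u : ℕ} (h : Gd c B m u) (k : ℕ) : Gd c B (m + k) u := by
  rw [Gd_add, Nat.mod_eq_of_lt (h.lt hB), Nat.div_eq_of_lt (h.lt hB)]
  exact ⟨h, Gd.zero k⟩

theorem Gd.shift (hB : 0 < B) {m u : ℕ} (h : Gd c B m u) (k : ℕ) : Gd c B (k + m) (u * B ^ k) := by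
  rw [Gd_add, Nat.mul_mod_left, Nat.mul_div_cancel _ (by positivity)]
  exact ⟨Gd.zero k, h⟩

theorem Gd.pow (hB : 1 < B) {j N : ℕ} (hj : j < N) : Gd 1 B N (B ^ j) := by
  obtain ⟨m, rfl⟩ : ∃ m, N = j + (m + 1) := ⟨N - j - 1, by omega⟩
  have := (Gd_split (c := 1) (i := j) (m := m) (by omega) (lo := 0) (e := 1) 0 (by positivity)
    hB).2 ⟨Gd.zero _, le_rfl, Gd.zero _⟩
  simpa using this

theorem split_eq (B i u : ℕ) : u = u % B ^ i + B ^ i * (u / B ^ i % B + B * (u / B ^ i / B)) := by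
  rw [Nat.mod_add_div, Nat.mod_add_div]

theorem add_mod_div {c' x y : ℕ} (hx : x % B ≤ c) (hy : y % B ≤ c') (h : c + c' < B) :
    (x + y) % B = x % B + y % B ∧ (x + y) / B = x / B + y / B := by
  have hB : 0 < B := by omega
  constructor
  · rw [Nat.add_mod, Nat.mod_eq_of_lt (by omega)]
  · rw [Nat.add_div hB, if_neg (by omega), add_zero]

theorem Gd.add {c' m x y : ℕ} (hx : Gd c B m x) (hy : Gd c' B m y) (h : c + c' < B) :
    Gd (c + c') B m (x + y) := by
  induction m generalizing x y with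
  | zero => rw [Gd_zero] at *; omega
  | succ m ih =>
    rw [Gd_succ] at *
    obtain ⟨h1, h2⟩ := add_mod_div hx.1 hy.1 h
    rw [h1, h2]
    exact ⟨Nat.add_le_add hx.1 hy.1, ih hx.2 hy.2⟩

theorem nfF_add_comm {C : Type*} [CommMonoid C] (T : ℕ → C) {c' a m x y : ℕ} (hx : Gd c B m x)
    (hy : Gd c' B m y) (h : c + c' < B) :
    nfF T B a m (x + y) = nfF T B a m x * nfF T B a m y := by
  induction m generalizing a x y with
  | zero => simp [nfF_zero]
  | succ m ih =>
    rw [Gd_succ] at *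
    obtain ⟨h1, h2⟩ := add_mod_div hx.1 hy.1 h
    rw [nfF_succ, nfF_succ, nfF_succ, h1, h2, ih hx.2 hy.2, pow_add, mul_mul_mul_comm]

theorem Gd.smul {m x : ℕ} (hx : Gd c B m x) (k : ℕ) (h : k * c < B) : Gd (k * c) B m (k * x) := by
  induction k with
  | zero => simpa using Gd.zero m
  | succ k ih =>
    rw [Nat.succ_mul, Nat.succ_mul] at *
    exact (ih (by omega)).add hx h

theorem nfF_smul {C : Type*} [CommMonoid C] (T : ℕ → C) {a m x : ℕ} (hx : Gd c B m x) (k : ℕ)
    (h : k * c < B) : nfF T B a m (k * x) = nfF T B a m x ^ k := by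
  induction k with
  | zero => simp
  | succ k ih =>
    rw [Nat.succ_mul] at h
    rw [Nat.succ_mul, nfF_add_comm T (hx.smul k (by omega)) hx h, ih (by omega), pow_succ]

theorem nfF_mul_pow {C : Type*} [Monoid C] (T : ℕ → C) (hB : 0 < B) {m u : ℕ} (h : Gd c B m u)
    {k N : ℕ} (hN : k + m ≤ N) : nfF T B 0 N (u * B ^ k) = nfF T B k m u := by
  obtain ⟨l, rfl⟩ : ∃ l, N = k + (m + l) := ⟨N - k - m, by omega⟩
  rw [nfF_add, Nat.mul_mod_left, Nat.mul_div_cancel _ (by positivity), nfF_zero', one_mul, zero_add,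
    nfF_add, Nat.mod_eq_of_lt (h.lt hB), Nat.div_eq_of_lt (h.lt hB), nfF_zero', mul_one]

theorem Gd.mul_pow (hB : 0 < B) {m u : ℕ} (h : Gd c B m u) {k N : ℕ} (hN : k + m ≤ N) :
    Gd c B N (u * B ^ k) := by
  obtain ⟨l, rfl⟩ : ∃ l, N = k + m + l := ⟨N - k - m, by omega⟩
  exact (h.shift hB k).extend hB l

end gd

/-- Kernel test for `Gd`. -/
noncomputable def gdB (c B m u : ℕ) : Bool :=
  Nat.rec (motive := fun _ => ℕ → Bool) (fun u => Nat.beq u 0)
    (fun _ ih u => Nat.ble (Nat.mod u B) c && lit (Nat.div u B) ih) m u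

theorem gdB_sound {c B m u : ℕ} (h : gdB c B m u = true) : Gd c B m u := by
  induction m generalizing u with
  | zero => rw [Gd_zero]; exact Nat.eq_of_beq_eq_true h
  | succ m ih =>
    have h' : (Nat.ble (u % B) c && gdB c B m (u / B)) = true := h
    rw [Bool.and_eq_true] at h'
    rw [Gd_succ]
    exact ⟨Nat.le_of_ble_eq_true h'.1, ih h'.2⟩

/-- Kernel test: the first `m` digits are multiples of `q`. -/
noncomputable def zmB (q B m u : ℕ) : Bool :=
  Nat.rec (motive := fun _ => ℕ → Bool) (fun _ => true)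
    (fun _ ih u => Nat.beq u 0 || (Nat.beq (Nat.mod (Nat.mod u B) q) 0 && lit (Nat.div u B) ih)) m u

theorem zmB_sound {C : Type*} [CommGroup C] (T : ℕ → C) {q B a m u : ℕ} (h : zmB q B m u = true) :
    nfF T B a m u ∈ (powMonoidHom q : C →* C).range := by
  induction m generalizing a u with
  | zero => rw [nfF_zero]; exact Subgroup.one_mem _
  | succ m ih =>
    have h' : (Nat.beq u 0 || (Nat.beq (u % B % q) 0 && zmB q B m (u / B))) = true := h
    rw [Bool.or_eq_true, Bool.and_eq_true] at h'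
    rcases h' with h' | h'
    · rw [Nat.eq_of_beq_eq_true h', nfF_zero']; exact Subgroup.one_mem _
    · rw [nfF_succ]
      refine Subgroup.mul_mem _ ?_ (ih h'.2)
      obtain ⟨k, hk⟩ := Nat.dvd_of_mod_eq_zero (Nat.eq_of_beq_eq_true h'.1)
      exact ⟨T a ^ k, by rw [hk, powMonoidHom_apply, ← pow_mul, mul_comm]⟩

/-- The word spelled by the first `m` digits of `u`, from the letter `a` on. -/
noncomputable def unpackF (B m a u : ℕ) : List ℕ :=
  Nat.rec (motive := fun _ => ℕ → ℕ → List ℕ) (fun _ _ => [])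
    (fun _ ih a u => Bool.rec
      (Nat.rec (lit (Nat.succ a) fun a' => lit (Nat.div u B) fun u' => ih a' u')
        (fun _ l => a :: l) (Nat.mod u B)) [] (Nat.beq u 0)) m a u

theorem ev_rec_cons {Γ : Type*} [Monoid Γ] (X : ℕ → Γ) (a c : ℕ) (l : List ℕ) :
    ev X (Nat.rec (motive := fun _ => List ℕ) l (fun _ l => a :: l) c) = X a ^ c * ev X l := by
  induction c with
  | zero => simp
  | succ c ih =>
    show ev X (a :: Nat.rec (motive := fun _ => List ℕ) l (fun _ l => a :: l) c) = _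
    rw [ev_cons, ih, pow_succ', mul_assoc]

theorem ev_unpackF {Γ : Type*} [Monoid Γ] (X : ℕ → Γ) (B m a u : ℕ) :
    ev X (unpackF B m a u) = nfF X B a m u := by
  induction m generalizing a u with
  | zero => rw [nfF_zero]; rfl
  | succ m ih =>
    show ev X (Bool.rec (Nat.rec (motive := fun _ => List ℕ) (unpackF B m (a + 1) (u / B))
      (fun _ l => a :: l) (u % B)) [] (Nat.beq u 0)) = _
    cases h : Nat.beq u 0 with
    | true => rw [Nat.eq_of_beq_eq_true h, nfF_zero']; rfl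
    | false => rw [nfF_succ, ← ih]; exact ev_rec_cons X a _ _

end Cfsg.Agent.Mult
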