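import Cfsg.Agent.Mult.Collect
import Cfsg.Agent.CGT.Closure

set_option autoImplicit false

/-! Relations between tails, and the linear algebra certificate. -/

namespace Cfsg.Agent.Mult

open Cfsg.Agent.CGT

/-- Length of a list, for the kernel. -/
noncomputable def len {α : Type} (l : List α) : ℕ := List.rec 0 (fun _ _ ih => Nat.succ ih) l

theorem len_eq {α : Type} (l : List α) : len l = l.length := by
  induction l with
  | nil => rfl
  | cons a l ih => exact congrArg Nat.succ ih

/-- `List.map`, for the kernel. -/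
noncomputable def mapL {α β : Type} (f : α → β) (l : List α) : List β :=
  List.rec [] (fun a _ ih => f a :: ih) l

theorem mapL_eq {α β : Type} (f : α → β) (l : List α) : mapL f l = l.map f := by
  induction l with
  | nil => rfl
  | cons a l ih => exact congrArg (f a :: ·) ih

/-- `List.append`, for the kernel. -/
noncomputable def appL {α : Type} (l l' : List α) : List α := List.rec l' (fun a _ ih => a :: ih) l

theorem appL_eq {α : Type} (l l' : List α) : appL l l' = l ++ l' := by
  induction l with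
  | nil => rfl
  | cons a l ih => exact congrArg (a :: ·) ih

/-- Evaluate all entries of a list of numbers. -/
noncomputable def litL (l : List ℕ) (k : List ℕ → Bool) : Bool :=
  List.rec (motive := fun _ => (List ℕ → Bool) → Bool) (fun k => k [])
    (fun a _ ih k => lit a fun a' => ih fun r => k (a' :: r)) l k

@[simp] theorem litL_eq (l : List ℕ) (k : List ℕ → Bool) : litL l k = k l := by
  induction l generalizing k with
  | nil => rfl
  | cons a l ih => exact ih _

/-- The sum of the unit vectors with the listed indices, moved up by `o`. -/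
noncomputable def vecOf (B o : ℕ) (l : List ℕ) : ℕ :=
  List.rec 0 (fun a _ ih => Nat.add (Nat.pow B (Nat.add o a)) ih) l

theorem vecOf_sound {C : Type*} [CommMonoid C] (T : ℕ → C) {B o N : ℕ} {l : List ℕ}
    (h : ∀ a ∈ l, o + a < N) (hB : l.length + 1 < B) :
    Gd l.length B N (vecOf B o l) ∧ nfF T B 0 N (vecOf B o l) = (l.map fun a => T (o + a)).prod := by
  induction l with
  | nil => exact ⟨Gd.zero N, nfF_zero' _ _ _ _⟩
  | cons a l ih =>
    rw [List.length_cons] at hB
    obtain ⟨h1, h2⟩ := ih (fun b hb => h b (by simp [hb])) (by omega)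
    have h3 : Gd 1 B N (B ^ (o + a)) := Gd.pow (by omega) (h a (by simp))
    have e : vecOf B o (a :: l) = B ^ (o + a) + vecOf B o l := rfl
    rw [e, List.length_cons, add_comm l.length, List.map_cons, List.prod_cons,
      nfF_add_comm T h3 h1 (by omega), h2, nfF_pow T (by omega) (h a (by simp))]
    exact ⟨h3.add h1 (by omega), rfl⟩

/-- Linear combination of the vectors of `l` with the digits of `c` in base `q`. -/
noncomputable def lc (q : ℕ) (l : List ℕ) (c acc : ℕ) : ℕ :=
  List.rec (motive := fun _ => ℕ → ℕ → ℕ) (fun _ acc => acc)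
    (fun v _ ih c acc => Bool.rec
      (lit (Nat.div c q) fun c' => lit (Nat.mod c q) fun d =>
        Bool.rec (lit (Nat.add acc (Nat.mul d v)) fun acc' => ih c' acc') (ih c' acc) (Nat.beq d 0))
      acc (Nat.beq c 0)) l c acc

/-- The value of `lc`. -/
def lc0 (q : ℕ) : List ℕ → ℕ → ℕ
  | [], _ => 0
  | v :: l, c => c % q * v + lc0 q l (c / q)

theorem lc0_nil (q c : ℕ) : lc0 q [] c = 0 := by rw [lc0]

theorem lc0_cons (q v : ℕ) (l : List ℕ) (c : ℕ) :
    lc0 q (v :: l) c = c % q * v + lc0 q l (c / q) := by rw [lc0]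

theorem lc0_zero (q : ℕ) (l : List ℕ) : lc0 q l 0 = 0 := by
  induction l with
  | nil => rw [lc0_nil]
  | cons v l ih => rw [lc0_cons]; simp [ih]

theorem lc_eq (q : ℕ) (l : List ℕ) (c acc : ℕ) : lc q l c acc = acc + lc0 q l c := by
  induction l generalizing c acc with
  | nil => rw [lc0_nil]; rfl
  | cons v l ih =>
    show (Bool.rec (Bool.rec (lc q l (c / q) (acc + c % q * v)) (lc q l (c / q) acc)
      (Nat.beq (c % q) 0)) acc (Nat.beq c 0) : ℕ) = _
    cases h : Nat.beq c 0 with
    | true => rw [Nat.eq_of_beq_eq_true h, lc0_zero]; rfl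
    | false =>
      rw [lc0_cons]
      cases h' : Nat.beq (c % q) 0 with
      | true => show lc q l (c / q) acc = _; rw [ih, Nat.eq_of_beq_eq_true h']; simp
      | false => show lc q l (c / q) (acc + c % q * v) = _; rw [ih, add_assoc]

theorem lc0_sound {C : Type*} [CommMonoid C] (T : ℕ → C) {B N cb d q : ℕ} {l : List ℕ} {c : ℕ}
    (hl : ∀ v ∈ l, Gd cb B N v) (hd : ∀ r, c / q ^ r % q ≤ d) (hB : l.length * (d * cb) < B)
    (γ : ℕ → C) (a : ℕ) (hγ : ∀ k < l.length, γ (a + k) = nfF T B 0 N (l.getD k 0)) :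
    Gd (l.length * (d * cb)) B N (lc0 q l c) ∧
      nfF T B 0 N (lc0 q l c) = nfF γ q a l.length c := by
  induction l generalizing c a with
  | nil => rw [lc0_nil, nfF_zero', List.length_nil, nfF_zero]; exact ⟨Gd.zero N, rfl⟩
  | cons v l ih =>
    rw [List.length_cons, Nat.succ_mul] at hB
    have h0 : c % q ≤ d := by simpa using hd 0
    have h1 : c % q * cb ≤ d * cb := Nat.mul_le_mul_right _ h0
    have hv := hl v (by simp)
    obtain ⟨h2, h3⟩ := ih (c := c / q) (fun u hu => hl u (by simp [hu]))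
      (fun r => by have := hd (r + 1); rwa [div_pow_succ'] at this) (by omega) (a + 1)
      (fun k hk => by
        have := hγ (k + 1) (by simp; omega)
        rwa [show a + (k + 1) = a + 1 + k by omega] at this)
    have h4 := hv.smul (c % q) (by omega)
    have h5 := hγ 0 (by simp)
    rw [lc0_cons, List.length_cons, nfF_succ, nfF_add_comm T h4 h2 (by omega), h3,
      nfF_smul T hv _ (by omega), Nat.succ_mul]
    refine ⟨(h4.add h2 (by omega)).mono (by omega), ?_⟩
    rw [add_zero] at h5
    rw [h5]; rfl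

theorem lc0_mem {C : Type*} [CommGroup C] (T : ℕ → C) {B N cb q : ℕ} (hq : 0 < q) {l : List ℕ}
    (c : ℕ) (H : Subgroup C) (hl : ∀ v ∈ l, Gd cb B N v ∧ nfF T B 0 N v ∈ H)
    (hB : l.length * ((q - 1) * cb) < B) :
    Gd (l.length * ((q - 1) * cb)) B N (lc0 q l c) ∧ nfF T B 0 N (lc0 q l c) ∈ H := by
  obtain ⟨h1, h2⟩ := lc0_sound T (q := q) (c := c) (fun v hv => (hl v hv).1)
    (fun r => by have := Nat.mod_lt (c / q ^ r) hq; omega) hB
    (fun k => nfF T B 0 N (l.getD k 0)) 0 (fun k _ => by rw [zero_add])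
  refine ⟨h1, ?_⟩
  rw [h2]
  refine nfF_mem _ _ _ _ fun r hr => ?_
  rw [zero_add, List.getD_eq_getElem _ _ hr]
  exact (hl _ (List.getElem_mem hr)).2

theorem Gd_of_le {c B m x : ℕ} (hx : x < B ^ m) (h : ∀ r < m, x / B ^ r % B ≤ c) : Gd c B m x := by
  induction m generalizing x with
  | zero => rw [Gd_zero]; simpa using hx
  | succ m ih =>
    have hB : 0 < B := by
      rcases Nat.eq_zero_or_pos B with rfl | hB
      · simp at hx
      · exact hB
    rw [Gd_succ]
    refine ⟨by simpa using h 0 (by omega), ih ?_ fun r hr => ?_⟩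
    · rw [Nat.div_lt_iff_lt_mul hB, ← pow_succ]; exact hx
    · have := h (r + 1) (by omega)
      rwa [div_pow_succ'] at this

theorem ones_eq {S : ℕ} (hS : 1 < S) (m : ℕ) : (S ^ m - 1) / (S - 1) = ones S m := by
  obtain ⟨t, rfl⟩ : ∃ t, S = t + 1 := ⟨S - 1, by omega⟩
  have : (t + 1) ^ m = t * ones (t + 1) m + 1 := by
    induction m with
    | zero => simp [ones]
    | succ m ih => rw [pow_succ, ih, ones_succ]; ring
  rw [this, Nat.add_sub_cancel, Nat.add_sub_cancel, Nat.mul_div_cancel_left _ (by omega)]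

/-- All digits of `d` are multiples of `q`, with quotients inside the mask. -/
noncomputable def zm (q mask d : ℕ) : Bool :=
  lit d fun d => lit (Nat.div d q) fun y => Nat.beq (Nat.mul q y) d && Nat.beq (Nat.land y mask) y

theorem zm_sound {C : Type*} [CommGroup C] (T : ℕ → C) {w N q c d : ℕ} (hc : c < 2 ^ w)
    (hq : q * c < 2 ^ w) (h : zm q (c * ones (2 ^ w) N) d = true) :
    nfF T (2 ^ w) 0 N d ∈ (powMonoidHom q : C →* C).range := by
  unfold zm at h
  simp only [lit_eq, Bool.and_eq_true, Nat.beq_eq, Nat.mul_eq, Nat.land_eq] at h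
  generalize Nat.div d q = y at h
  have hy : Gd c (2 ^ w) N y := by
    refine Gd_of_le ?_ fun r hr => ?_
    · rw [← h.2]; exact Nat.and_le_right.trans_lt (mul_ones_lt hc N)
    · rw [← h.2, digit_land, mul_ones_digit hc hr]; exact Nat.and_le_right
  rw [← h.1, nfF_smul T hy q hq]
  exact ⟨_, rfl⟩

/-- How a relation between tails is obtained: by associativity for three normal words, or from an
equality of two products of fusion words, all with the letter `g`. -/
inductive Spec : Type
  | assoc (a b c : ℕ) : Spec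
  | fus (g : ℕ) (u v : List ℕ) : Spec

namespace PC

variable (D : PC)

/-- Compute the vector of a relation. -/
noncomputable def relK (M F : ℕ) (s : Spec) (k : ℕ → Bool) : Bool :=
  lit D.b fun b => Spec.rec
    (fun x y z => gdB (Nat.sub D.p 1) b D.n x && (gdB (Nat.sub D.p 1) b D.n y &&
      (gdB (Nat.sub D.p 1) b D.n z &&
      D.run b (fun u1 A1 => D.run b (fun u2 A => D.run b (fun u3 A' =>
        Nat.beq u2 u3 && lit (Nat.add A (Nat.mul (Nat.sub M 1) A')) k)
        F 0 0 [x, y, z]) F 0 A1 [x, u1]) F 0 0 [y, z])))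
    (fun g u v =>
      allL (appL u v) (fun a => Nat.ble (Nat.succ a) (len D.fp) && Nat.beq (D.FP a).1 g) &&
      (Nat.ble (len (appL u v)) F &&
      lit (vecOf D.B (Nat.mul D.n D.n) u) fun ku => lit (vecOf D.B (Nat.mul D.n D.n) v) fun kv =>
      D.run b (fun n1 A1 => D.run b (fun n4 A => D.run b (fun n2 A1' => D.run b (fun n3 A' =>
        Nat.beq n1 n2 && (Nat.beq n3 n4 && lit (Nat.add A (Nat.mul (Nat.sub M 1) A')) k))
        F 0 A1' (mapL (fun a => (D.FP a).2.2) u)) F 0 ku (mapL (fun a => (D.FP a).2.1) v))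
        F 0 A1 (mapL (fun a => (D.FP a).2.2) v)) F 0 kv (mapL (fun a => (D.FP a).2.1) u))) s

/-- Compute the vectors of a list of relations (in reverse order). -/
noncomputable def vecsK (M F : ℕ) (ss : List Spec) (k : List ℕ → Bool) : Bool :=
  List.rec (motive := fun _ => List ℕ → Bool) k
    (fun s _ ih acc => D.relK M F s fun c => ih (c :: acc)) ss []

/-- The bound for the digits of the vectors of relations. -/
def cb (M F : ℕ) : ℕ := Nat.mul M (Nat.add F (Nat.mul 2 (Nat.mul F D.p)))

variable {D}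

section sound
variable {Γ C : Type*} [Group Γ] [CommGroup C] {ι : C →* Γ} {X : ℕ → Γ} {T : ℕ → C}

/-- A vector of tails whose value is an `M`-th power. -/
def Valid (D : PC) (T : ℕ → C) (M F c : ℕ) : Prop :=
  Gd (D.cb M F) D.B D.N c ∧ D.tau T c ∈ (powMonoidHom M : C →* C).range

theorem valid_of_eq {M F A A' : ℕ} (hM : 1 ≤ M) (hB : D.cb M F < D.B)
    (hA : Gd (F + 2 * (F * D.p)) D.B D.N A) (hA' : Gd (F + 2 * (F * D.p)) D.B D.N A')
    (h : D.tau T A = D.tau T A') : D.Valid T M F (A + (M - 1) * A') := by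
  obtain ⟨M, rfl⟩ : ∃ M', M = M' + 1 := ⟨M - 1, by omega⟩
  have e : D.cb (M + 1) F = (F + 2 * (F * D.p)) + M * (F + 2 * (F * D.p)) := by
    show (M + 1) * (F + 2 * (F * D.p)) = _; ring
  rw [Valid, e, Nat.add_sub_cancel]
  rw [e] at hB
  have h1 := hA'.smul M (by omega)
  refine ⟨hA.add h1 hB, D.tau T A', ?_⟩
  rw [tau, tau, nfF_add_comm T hA h1 hB, nfF_smul T hA' M (by omega), powMonoidHom_apply, pow_succ']
  exact congrArg (· * _) h.symm

theorem Setting.fus_list (S : D.Setting ι X T) {g : ℕ} {l : List ℕ}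
    (h : ∀ a ∈ l, a < D.fp.length ∧ (D.FP a).1 = g) :
    X g * D.nfL X (l.map fun a => (D.FP a).2.1) = D.nfL X (l.map fun a => (D.FP a).2.2) *
      ι (l.map fun a => T (D.n * D.n + a)).prod * X g := by
  induction l with
  | nil => simp [nfL]
  | cons a l ih =>
    have h1 := S.fus a (h a (by simp)).1
    rw [(h a (by simp)).2] at h1
    rw [List.map_cons, List.map_cons, List.map_cons, nfL_cons, nfL_cons, List.prod_cons,
      ← mul_assoc, h1, mul_assoc, ih fun b hb => h b (by simp [hb]), map_mul]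
    simp only [mul_assoc]
    congr 1
    rw [← mul_assoc, S.cen, mul_assoc]

theorem relK_sound (ok : D.OK) (S : D.Setting ι X T) (hι : Function.Injective ι) {M F : ℕ}
    (hM : 1 ≤ M) (hB : D.cb M F + 1 < D.B) {s : Spec} {k : ℕ → Bool} (h : D.relK M F s k = true) :
    ∃ c, D.Valid T M F c ∧ k c = true := by
  have hB' : F + 2 * (F * D.p) + 1 < D.B := by
    have : 1 * (F + 2 * (F * D.p)) ≤ D.cb M F := Nat.mul_le_mul_right _ hM
    omega
  unfold relK at h
  cases s with
  | assoc x y z =>
    simp only [lit_eq, Bool.and_eq_true] at h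
    obtain ⟨hx, hy, hz, h⟩ := h
    replace hx : D.Good x := gdB_sound hx
    replace hy : D.Good y := gdB_sound hy
    replace hz : D.Good z := gdB_sound hz
    obtain ⟨u1, A1, g1, b1, e1, h⟩ := run_val ok S (c := 0) (by simp [hy, hz]) (Gd.zero _)
      (by omega) h
    obtain ⟨u2, A, g2, b2, e2, h⟩ := run_val ok S (by simp [hx, g1]) b1 (by omega) h
    obtain ⟨u3, A', g3, b3, e3, h⟩ := run_val ok S (c := 0) (by simp [hx, hy, hz]) (Gd.zero _)
      (by omega) h
    simp only [Bool.and_eq_true, Nat.beq_eq] at h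
    refine ⟨_, valid_of_eq hM (by omega) (b2.mono (by omega)) (b3.mono (by omega)) (hι ?_), h.2⟩
    have t0 : D.tau T 0 = 1 := nfF_zero' _ _ _ _
    simp only [nfL_cons, nfL_nil, t0, map_one, mul_one] at e1 e2 e3
    rw [mul_assoc, e1, ← e3, h.1] at e2
    exact mul_left_cancel e2
  | fus g u v =>
    simp only [lit_eq, Bool.and_eq_true, allL_iff, appL_eq, len_eq, mapL_eq, Nat.ble_eq,
      Nat.beq_eq, List.mem_append, List.length_append] at h
    obtain ⟨huv, hF, h⟩ := h
    have hu : ∀ a ∈ u, a < D.fp.length ∧ (D.FP a).1 = g := fun a ha => huv a (Or.inl ha)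
    have hv : ∀ a ∈ v, a < D.fp.length ∧ (D.FP a).1 = g := fun a ha => huv a (Or.inr ha)
    obtain ⟨gu, tu⟩ := vecOf_sound T (B := D.B) (o := D.n * D.n) (N := D.N) (l := u)
      (fun a ha => by rw [N_eq]; have := (hu a ha).1; omega) (by omega)
    obtain ⟨gv, tv⟩ := vecOf_sound T (B := D.B) (o := D.n * D.n) (N := D.N) (l := v)
      (fun a ha => by rw [N_eq]; have := (hv a ha).1; omega) (by omega)
    have G1 : ∀ l : List ℕ, (∀ a ∈ l, a < D.fp.length ∧ (D.FP a).1 = g) →
        (∀ x ∈ l.map fun a => (D.FP a).2.1, D.Good x) ∧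
          ∀ x ∈ l.map fun a => (D.FP a).2.2, D.Good x := by
      intro l hl
      constructor <;>
      · intro x hx
        obtain ⟨a, ha, rfl⟩ := List.mem_map.1 hx
        first | exact (ok.fgood a (hl a ha).1).1 | exact (ok.fgood a (hl a ha).1).2
    obtain ⟨n1, A1, -, b1, e1, h⟩ := run_val ok S (G1 u hu).1 gv (by omega) h
    obtain ⟨n4, A, -, b4, e4, h⟩ := run_val ok S (G1 v hv).2 b1 (by omega) h
    obtain ⟨n2, A1', -, b2, e2, h⟩ := run_val ok S (G1 v hv).1 gu (by omega) h
    obtain ⟨n3, A', -, b3, e3, h⟩ := run_val ok S (G1 u hu).2 b2 (by omega) h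
    simp only [Bool.and_eq_true, Nat.beq_eq] at h
    obtain ⟨rfl, rfl, hk⟩ := h
    refine ⟨_, valid_of_eq hM (by omega) (b4.mono (by omega)) (b3.mono (by omega)) (hι ?_), hk⟩
    have fu := S.fus_list hu
    have fv := S.fus_list hv
    have tu' : D.tau T (vecOf D.B (D.n * D.n) u) = _ := tu
    have tv' : D.tau T (vecOf D.B (D.n * D.n) v) = _ := tv
    rw [tv'] at e1
    rw [tu'] at e2
    generalize (u.map fun a => T (D.n * D.n + a)).prod = ku at *
    generalize (v.map fun a => T (D.n * D.n + a)).prod = kv at *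
    generalize D.nfL X (u.map fun a => (D.FP a).2.1) = Qu at *
    generalize D.nfL X (v.map fun a => (D.FP a).2.1) = Qv at *
    generalize D.nfL X (u.map fun a => (D.FP a).2.2) = Qu' at *
    generalize D.nfL X (v.map fun a => (D.FP a).2.2) = Qv' at *
    generalize D.tau T A1 = a1 at *
    generalize D.tau T A1' = a2 at *
    have c1 : Qu * ι (kv * a2) = Qv * ι (ku * a1) := by
      rw [map_mul, map_mul, ← mul_assoc, ← mul_assoc, ← e1, ← e2, mul_assoc, mul_assoc, ← map_mul,
        ← map_mul, mul_comm a1]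
    have c2 : Qu' * ι ku * X g * ι (kv * a2) = Qv' * ι kv * X g * ι (ku * a1) := by
      rw [← fu, ← fv, mul_assoc, c1, mul_assoc]
    have c3 : ∀ (Q : Γ) (a b c : C), Q * ι a * X g * ι (b * c) = Q * ι c * (ι (a * b) * X g) := by
      intro Q a b c
      have : ι a * ι (b * c) = ι c * ι (a * b) := by
        rw [← map_mul, ← map_mul, ← mul_assoc a, mul_comm c]
      rw [mul_assoc _ (X g), ← S.cen (b * c), ← mul_assoc, ← mul_assoc, mul_assoc Q (ι a), this,
        ← mul_assoc]
    rw [c3, c3, mul_comm kv, mul_left_inj, ← e3, ← e4] at c2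
    exact (mul_left_cancel c2).symm

theorem vecsK_sound (ok : D.OK) (S : D.Setting ι X T) (hι : Function.Injective ι) {M F : ℕ}
    (hM : 1 ≤ M) (hB : D.cb M F + 1 < D.B) {ss : List Spec} {k : List ℕ → Bool}
    (h : D.vecsK M F ss k = true) : ∃ vs, (∀ c ∈ vs, D.Valid T M F c) ∧ k vs = true := by
  have key : ∀ acc : List ℕ, (∀ c ∈ acc, D.Valid T M F c) →
      List.rec (motive := fun _ => List ℕ → Bool) k
        (fun s _ ih acc => D.relK M F s fun c => ih (c :: acc)) ss acc = true →
      ∃ vs, (∀ c ∈ vs, D.Valid T M F c) ∧ k vs = true := by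
    clear h
    induction ss with
    | nil => exact fun acc h1 h2 => ⟨acc, h1, h2⟩
    | cons s ss ih =>
      intro acc h1 h2
      obtain ⟨c, hc, h3⟩ := relK_sound ok S hι hM hB h2
      exact ih (c :: acc) (by simpa [hc] using h1) h3
  exact key [] (by simp) h

end sound

end PC

end Cfsg.Agent.Mult
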