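import Cfsg.Agent.Mult.Mono

set_option autoImplicit false

/-! A long relator checked slice by slice. -/

namespace Cfsg.Agent.Mult

open Cfsg.Agent.CGT

/-- The slices `a, …, a + m - 1` are fixed by the word. -/
noncomputable def slicesB (k : ℕ) (ns : List Net) (w : List ℕ) (a m : ℕ) : Bool :=
  allLt m fun i => lit (Nat.add a i) fun j => Nat.beq (gatW ns w (sl j k)) (sl j k)

/-- The slices below `b` are fixed by the word. -/
def Slices (k : ℕ) (ns : List Net) (w : List ℕ) (b : ℕ) : Prop :=
  ∀ j < b, gatW ns w (sl j k) = sl j k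

theorem Slices.zero {k : ℕ} {ns : List Net} {w : List ℕ} : Slices k ns w 0 :=
  fun _ h => absurd h (Nat.not_lt_zero _)

theorem Slices.step {k : ℕ} {ns : List Net} {w : List ℕ} {a m : ℕ} (h : Slices k ns w a)
    (h' : slicesB k ns w a m = true) : Slices k ns w (a + m) := by
  intro j hj
  rcases Nat.lt_or_ge j a with h1 | h1
  · exact h j h1
  · have h2 := allLt_iff.1 h' (j - a) (by omega)
    rw [lit_eq, show Nat.add a (j - a) = j by rw [Nat.add_eq]; omega] at h2
    exact Nat.eq_of_beq_eq_true h2

theorem Slices.holds {k : ℕ} {ns : List Net} (hv : validAll (2 ^ k) ns = true)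
    {R : List (List ℕ)} {a : ℕ} (h : Slices k ns (nth [] R a) k) :
    ∀ r ∈ takeL 1 (dropL a R), ev (lp ns) r = 1 := by
  intro r hr
  have h1 : ev (lp ns) (nth [] R a) = ev (lp ns) [] :=
    eqW_sound hv (allLt_iff.2 fun j hj => by rw [h j hj]; exact Nat.beq_refl _)
  rw [takeL_eq, dropL_eq, List.take_one, Option.mem_toList, List.head?_drop] at hr
  rwa [nth_eq, List.getD_eq_getElem?_getD, hr] at h1

end Cfsg.Agent.Mult
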