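import Cfsg.Agent.Mult.Syl

set_option autoImplicit false

/-! Splitting a statement about all members of a list. -/

namespace Cfsg.Agent.Mult

/-- `List.drop`, for the kernel. -/
noncomputable def dropL {α : Type} (a : ℕ) (l : List α) : List α :=
  Nat.rec l (fun _ ih => List.rec [] (fun _ r _ => r) ih) a

/-- `List.take`, for the kernel. -/
noncomputable def takeL {α : Type} (m : ℕ) (l : List α) : List α :=
  Nat.rec (motive := fun _ => List α → List α) (fun _ => [])
    (fun _ ih l => List.rec [] (fun x r _ => x :: ih r) l) m l

theorem dropL_eq {α : Type} (a : ℕ) (l : List α) : dropL a l = l.drop a := by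
  induction a with
  | zero => rfl
  | succ a ih =>
    have : dropL (a + 1) l = List.rec [] (fun _ r _ => r) (dropL a l) := rfl
    rw [this, ih, ← List.tail_drop]
    cases l.drop a <;> rfl

theorem takeL_eq {α : Type} (m : ℕ) (l : List α) : takeL m l = l.take m := by
  induction m generalizing l with
  | zero => rfl
  | succ m ih =>
    cases l with
    | nil => rfl
    | cons x r => exact congrArg (x :: ·) (ih r)

theorem forall_dropL {α : Type} {P : α → Prop} {l : List α} {a m : ℕ}
    (h : ∀ r ∈ takeL m (dropL a l), P r) (h' : ∀ r ∈ dropL (a + m) l, P r) :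
    ∀ r ∈ dropL a l, P r := by
  simp only [dropL_eq, takeL_eq] at *
  intro r hr
  rw [← List.take_append_drop m (l.drop a), List.mem_append, List.drop_drop] at hr
  exact hr.elim (h r) (h' r)

theorem forall_dropL_end {α : Type} {P : α → Prop} {l : List α} {a : ℕ} (h : len l ≤ a) :
    ∀ r ∈ dropL a l, P r := by
  rw [dropL_eq, List.drop_eq_nil_of_le (len_eq l ▸ h)]
  simp

end Cfsg.Agent.Mult
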