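import Cfsg.Agent.Mult.Nf

set_option autoImplicit false

/-! Moving the digits of a number from a narrow base to a wide base by one multiplication and one mask. -/

namespace Cfsg.Agent.Mult

theorem div_eq' (a b : ℕ) : Nat.div a b = a / b := rfl
theorem mod_eq' (a b : ℕ) : Nat.mod a b = a % b := rfl

theorem digit_land (w x y r : ℕ) :
    (x &&& y) / (2 ^ w) ^ r % 2 ^ w = (x / (2 ^ w) ^ r % 2 ^ w) &&& (y / (2 ^ w) ^ r % 2 ^ w) := by
  rw [← pow_mul, Nat.and_div_two_pow, Nat.and_mod_two_pow]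

theorem digit_mod_pow {B t r : ℕ} (hr : r < t) (x : ℕ) : x % B ^ t / B ^ r % B = x / B ^ r % B := by
  obtain ⟨l, rfl⟩ : ∃ l, t = r + (l + 1) := ⟨t - r - 1, by omega⟩
  rw [pow_add, Nat.mod_mul_right_div_self, mod_pow_succ_mod]

/-- `1 + S + ⋯ + S^(m-1)`. -/
noncomputable def ones (S m : ℕ) : ℕ := Nat.rec 0 (fun _ ih => Nat.succ (Nat.mul S ih)) m

theorem ones_succ (S m : ℕ) : ones S (m + 1) = S * ones S m + 1 := rfl

theorem mul_ones_digit {S h : ℕ} (hh : h < S) {m k : ℕ} (hk : k < m) :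
    h * ones S m / S ^ k % S = h := by
  induction m generalizing k with
  | zero => omega
  | succ m ih =>
    have e : h * ones S (m + 1) = h + S * (h * ones S m) := by rw [ones_succ]; ring
    cases k with
    | zero => rw [e, pow_zero, Nat.div_one, Nat.add_mul_mod_self_left, Nat.mod_eq_of_lt hh]
    | succ k =>
      rw [e, div_pow_succ', Nat.add_mul_div_left _ _ (by omega), Nat.div_eq_of_lt hh, zero_add,
        ih (by omega)]

theorem mul_ones_lt {S h : ℕ} (hh : h < S) (m : ℕ) : h * ones S m < S ^ m := by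
  induction m with
  | zero => simp [ones]
  | succ m ih =>
    have e : h * ones S (m + 1) = h + S * (h * ones S m) := by rw [ones_succ]; ring
    rw [e, pow_succ']
    nlinarith

theorem nfF_of_digits {Γ : Type*} [Monoid Γ] (T : ℕ → Γ) {B b a m x y : ℕ}
    (h : ∀ r < m, x / B ^ r % B = y / b ^ r % b) : nfF T B a m x = nfF T b a m y := by
  induction m generalizing a x y with
  | zero => rw [nfF_zero, nfF_zero]
  | succ m ih =>
    have h0 := h 0 (by omega)
    simp only [pow_zero, Nat.div_one] at h0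
    rw [nfF_succ, nfF_succ, h0, ih]
    intro r hr
    have := h (r + 1) (by omega)
    rwa [div_pow_succ', div_pow_succ'] at this

theorem Gd_of_digits {c B b n m x y : ℕ} (hx : x < B ^ n) (hm : m ≤ n)
    (h : ∀ r < n, x / B ^ r % B = y / b ^ r % b) (hy : Gd c b m y) : Gd c B m x := by
  induction n generalizing m x y with
  | zero =>
    obtain rfl : m = 0 := by omega
    rw [Gd_zero]; simpa using hx
  | succ n ih =>
    have h0 := h 0 (by omega)
    simp only [pow_zero, Nat.div_one] at h0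
    have hB : 0 < B := by
      rcases Nat.eq_zero_or_pos B with rfl | hB
      · simp at hx
      · exact hB
    have hx' : x / B < B ^ n := by rw [Nat.div_lt_iff_lt_mul hB, ← pow_succ]; exact hx
    have h' : ∀ r < n, x / B / B ^ r % B = y / b / b ^ r % b := by
      intro r hr
      have := h (r + 1) (by omega)
      rwa [div_pow_succ', div_pow_succ'] at this
    cases m with
    | zero =>
      rw [Gd_zero] at hy ⊢
      have h1 := ih (m := 0) hx' (by omega) h' (by rw [hy, Gd_zero]; simp)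
      rw [Gd_zero] at h1
      rw [← Nat.mod_add_div x B, h0, h1, hy]; simp
    | succ m =>
      rw [Gd_succ] at hy ⊢
      exact ⟨h0 ▸ hy.1, ih hx' (by omega) h' hy.2⟩

theorem spread_digit {wb w n h r : ℕ} (hw : n * wb + wb ≤ w) (hh : h < (2 ^ wb) ^ n) (hr : r < n) :
    ((h * ones (2 ^ (w - wb)) n) &&& ((2 ^ wb - 1) * ones (2 ^ w) n)) / (2 ^ w) ^ r % 2 ^ w =
      h / (2 ^ wb) ^ r % 2 ^ wb := by
  obtain ⟨c, rfl⟩ : ∃ c, w = c + wb := ⟨w - wb, by omega⟩
  have hc : n * wb ≤ c := by omega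
  have h1 : 2 ^ wb - 1 < 2 ^ (c + wb) := by
    have := Nat.pow_le_pow_right (show 0 < 2 by norm_num) (show wb ≤ c + wb by omega)
    have := Nat.two_pow_pos wb
    omega
  have h2 : h < 2 ^ c := by
    rw [← pow_mul, mul_comm] at hh
    exact hh.trans_le (Nat.pow_le_pow_right (by norm_num) hc)
  rw [digit_land, mul_ones_digit h1 hr, Nat.and_two_pow_sub_one_eq_mod, Nat.add_sub_cancel,
    Nat.mod_mod_of_dvd _ (pow_dvd_pow 2 (by omega)), pow_add, mul_pow, ← Nat.div_div_eq_div_mul]
  have h3 := mul_ones_digit h2 hr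
  generalize h * ones (2 ^ c) n / (2 ^ c) ^ r = Y at *
  obtain ⟨l, rfl⟩ : ∃ l, c = wb * (r + 1) + l := ⟨c - wb * (r + 1), by
    have : wb * (r + 1) ≤ n * wb := by rw [mul_comm]; exact Nat.mul_le_mul_right _ hr
    omega⟩
  rw [← h3, ← digit_mod_pow (Nat.lt_succ_self r) Y, ← digit_mod_pow (Nat.lt_succ_self r) (Y % 2 ^ (wb * (r + 1) + l)),
    Nat.mod_mod_of_dvd _ (by rw [← pow_mul]; exact pow_dvd_pow 2 (Nat.le_add_right _ _))]

theorem spread_lt {wb w n x : ℕ} (hw : wb ≤ w) :
    (x &&& ((2 ^ wb - 1) * ones (2 ^ w) n)) < (2 ^ w) ^ n := by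
  refine Nat.and_le_right.trans_lt (mul_ones_lt ?_ n)
  have := Nat.pow_le_pow_right (show 0 < 2 by norm_num) hw
  have := Nat.two_pow_pos wb
  omega

end Cfsg.Agent.Mult
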