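import Cfsg.Agent.Mult.Mat

set_option autoImplicit false
set_option linter.style.haveILetI false
set_option linter.unusedSectionVars false

/-! Standard coordinates over the fields with 2, 3, 4, 9 elements. -/

namespace Cfsg.Agent.Mult

open Subgroup hiding ext
open Cfsg.Agent.CGT Equiv

/-- A digit as a natural number. -/
noncomputable def dg (P : Pl) (t n : ℕ) : ℕ :=
  Nat.add (Nat.land (Nat.shiftRight (nth (0, 0) P t).1 n) 1)
    (Nat.mul 2 (Nat.land (Nat.shiftRight (nth (0, 0) P t).2 n) 1))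

theorem cast_bit (R : Type*) [Semiring R] (a n : ℕ) :
    ((Nat.land (Nat.shiftRight a n) 1 : ℕ) : R) = bt R (a.testBit n) := by
  have e : Nat.land (Nat.shiftRight a n) 1 = (a >>> n) % 2 := Nat.and_one_is_mod _
  rw [e, bt, Nat.testBit, Nat.one_and_eq_mod_two]
  rcases Nat.mod_two_eq_zero_or_one (a >>> n) with h | h <;> simp [h]

theorem cast_dg (q : ℕ) (P : Pl) (t n : ℕ) : ((dg P t n : ℕ) : ZMod q) = pv q P t n := by
  simp only [dg, Nat.add_eq, Nat.mul_eq, Nat.cast_add, Nat.cast_mul, cast_bit, pv, val,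
    Nat.cast_ofNat]

/-- A field with a basis of powers of `θ` over the prime field. -/
structure KF (K : Type) [Field K] (q : ℕ) where
  hq : q = 2 ∨ q = 3
  f : ZMod q →+* K
  m : ℕ
  θ : K
  pos : 0 < m
  ind : ∀ c : Fin m → ZMod q, ∑ i, f (c i) * θ ^ (i : ℕ) = 0 → ∀ i, c i = 0

/-- A numbering of the coordinates. -/
structure Ix (ι : Type) where
  σ : ι → ℕ
  d : ℕ
  inj : ∀ x y, σ x = σ y → x = y
  lt : ∀ x, σ x < d
  surj : ∀ t < d, ∃ x, σ x = t

variable {K : Type} [Field K] {q : ℕ} (S : KF K q) {ι : Type} [Fintype ι] [DecidableEq ι] (I : Ix ι)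
  {F : Type*} [Field F] (ψ : K →+* F)

/-- The field element given by `m` consecutive digits. -/
noncomputable def KF.elt (P : Pl) (t n : ℕ) : K :=
  ∑ i ∈ Finset.range S.m, (dg P (t + i) n : K) * S.θ ^ i

/-- Standard coordinates. -/
noncomputable def stdCo : Co q F (ι → F) where
  hq := S.hq
  f := ψ.comp S.f
  D := I.d * S.m
  b s z := if I.σ z = s / S.m then ψ S.θ ^ (s % S.m) else 0
  span := by
    rw [eq_top_iff, ← (Pi.basisFun F ι).span_eq, Submodule.span_le]
    rintro _ ⟨x, rfl⟩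
    refine Submodule.subset_span ⟨I.σ x * S.m, Nat.mul_lt_mul_of_pos_right (I.lt x) S.pos, ?_⟩
    funext z
    beta_reduce
    rw [Nat.mul_div_cancel _ S.pos, Nat.mul_mod_left, pow_zero, Pi.basisFun_apply, Pi.single_apply]
    exact if_congr ⟨I.inj _ _, congrArg _⟩ rfl rfl

theorem stdCo_D : (stdCo S I ψ).D = I.d * S.m := rfl

theorem vec_std (P : Pl) (n : ℕ) (z : ι) :
    (stdCo S I ψ).vec P n z = ψ (S.elt P (I.σ z * S.m) n) := by
  rw [Co.vec, Finset.sum_apply, stdCo_D, sum_range_mul, Finset.sum_eq_single ⟨I.σ z, I.lt z⟩,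
    KF.elt, map_sum]
  · refine Finset.sum_congr rfl fun i hi => ?_
    have hi' := Finset.mem_range.1 hi
    have e1 : (I.σ z * S.m + i) / S.m = I.σ z := by
      rw [Nat.add_comm, Nat.add_mul_div_right _ _ S.pos, Nat.div_eq_of_lt hi', Nat.zero_add]
    have e2 : (I.σ z * S.m + i) % S.m = i := by
      rw [Nat.add_comm, Nat.add_mul_mod_self_right, Nat.mod_eq_of_lt hi']
    simp only [stdCo, Pi.smul_apply, e1, e2, if_true, smul_eq_mul, ← cast_dg, map_natCast, map_mul,
      map_pow]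
  · intro x _ hx
    refine Finset.sum_eq_zero fun i hi => ?_
    have e1 : (x * S.m + i) / S.m = x := by
      rw [Nat.add_comm, Nat.add_mul_div_right _ _ S.pos, Nat.div_eq_of_lt (Finset.mem_range.1 hi),
        Nat.zero_add]
    have : I.σ z ≠ x := fun e => hx (Fin.ext e.symm)
    simp [stdCo, e1, this]
  · simp

/-- The rows `r` describe the matrix `M`. -/
def KF.Chk (M : ι → ι → K) (r : Pl) : Prop :=
  r.length ≤ I.d * S.m ∧ ∀ z z', ∀ i < S.m, M z z' * S.θ ^ i = S.elt r (I.σ z * S.m) (I.σ z' * S.m + i)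

noncomputable instance [DecidableEq K] (M : ι → ι → K) (r : Pl) : Decidable (S.Chk I M r) := by
  unfold KF.Chk; infer_instance

variable {S I ψ}

theorem acts_std {T : Module.End F (ι → F)} {M : ι → ι → K} {r : Pl}
    (hT : ∀ z', T (Pi.single z' 1) = fun z => ψ (M z z')) (h : S.Chk I M r) :
    (stdCo S I ψ).Acts T r := by
  refine ⟨h.1, fun s hs => ?_⟩
  obtain ⟨z', hz⟩ := I.surj (s / S.m) (Nat.div_lt_of_lt_mul (by rwa [stdCo_D, Nat.mul_comm] at hs))
  have e : (stdCo S I ψ).b s = ψ S.θ ^ (s % S.m) • Pi.single z' (1 : F) := by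
    funext z
    simp only [stdCo, Pi.smul_apply, Pi.single_apply, smul_eq_mul, mul_ite, mul_one, mul_zero, ← hz]
    exact if_congr ⟨I.inj _ _, congrArg _⟩ rfl rfl
  funext z
  rw [e, map_smul, hT, vec_std, Pi.smul_apply, smul_eq_mul, mul_comm, ← map_pow, ← map_mul,
    h.2 z z' _ (Nat.mod_lt _ S.pos), hz, Nat.div_add_mod']

theorem acts_mat {M : Matrix ι ι K} {r : Pl} (h : S.Chk I M r) :
    (stdCo S I ψ).Acts (Matrix.toLinAlgEquiv' (M.map ψ)) r :=
  acts_std (fun z' => by funext z; simp [Matrix.toLinAlgEquiv'_apply]) h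

theorem scal_std {Ts : List (K × Pl)}
    (h : ∀ p ∈ Ts, p.1 ≠ 0 ∧ S.Chk I (fun z z' => if z = z' then p.1 else 0) p.2) :
    (stdCo S I ψ).Scal (Ts.map Prod.snd) := by
  intro T hT
  obtain ⟨p, hp, rfl⟩ := List.mem_map.1 hT
  refine ⟨Units.mk0 (ψ p.1) (by simpa using (h p hp).1), acts_std (fun z' => ?_) (h p hp).2⟩
  funext z
  by_cases e : z = z' <;> simp [e]

/-- The digits are reduced and the columns are sorted. -/
noncomputable def redB (q : ℕ) (P : Pl) (N : ℕ) : Bool :=
  (allL P fun c => Nat.beq (Bool.rec c.2 (Nat.land c.1 c.2) (Nat.beq q 3)) 0) &&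
    sortedB (P.map Prod.fst ++ P.map Prod.snd) N

theorem redB_sound (hq : q = 2 ∨ q = 3) {P : Pl} {N : ℕ} (h : redB q P N = true) {i j : ℕ}
    (hi : i < N) (hj : j < N) (e : ∀ t < P.length, pv q P t i = pv q P t j) : i = j := by
  rw [redB, Bool.and_eq_true, allL_iff] at h
  have key : ∀ t (ht : t < P.length), P[t].1.testBit i = P[t].1.testBit j ∧
      P[t].2.testBit i = P[t].2.testBit j := fun t ht => by
    have h1 := Nat.eq_of_beq_eq_true (h.1 _ (List.getElem_mem ht))
    have h2 := e t ht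
    rw [pv, pv, nth_eq, List.getD_eq_getElem _ _ ht, val, val] at h2
    rcases hq with rfl | rfl
    · have h3 : P[t].2 = 0 := h1
      simp only [h3, Nat.zero_testBit] at h2 ⊢
      revert h2
      cases P[t].1.testBit i <;> cases P[t].1.testBit j <;> decide
    · have h3 : P[t].1 &&& P[t].2 = 0 := h1
      have h4 := congrArg (·.testBit i) h3
      have h5 := congrArg (·.testBit j) h3
      simp only [Nat.testBit_and, Nat.zero_testBit] at h4 h5
      revert h2 h4 h5
      cases P[t].1.testBit i <;> cases P[t].1.testBit j <;> cases P[t].2.testBit i <;>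
        cases P[t].2.testBit j <;> decide
  refine sortedB_sound h.2 hi hj fun t => ?_
  rw [nth_eq]
  by_cases h1 : t < P.length
  · rw [List.getD_append _ _ _ _ (by simpa using h1), List.getD_eq_getElem _ _ (by simpa using h1),
      List.getElem_map]
    exact (key t h1).1
  · rw [List.getD_append_right _ _ _ _ (by simpa using h1), List.length_map]
    by_cases h2 : t - P.length < P.length
    · rw [List.getD_eq_getElem _ _ (by simpa using h2), List.getElem_map]
      exact (key _ h2).2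
    · rw [List.getD_eq_default _ _ (by simpa using h2)]; simp

theorem vec_inj {P : Pl} {N : ℕ} (hP : P.length ≤ I.d * S.m) (h : redB q P N = true) {i j : ℕ}
    (hi : i < N) (hj : j < N) (e : (stdCo S I ψ).vec P i = (stdCo S I ψ).vec P j) : i = j := by
  refine redB_sound S.hq h hi hj fun t ht => ?_
  obtain ⟨z, hz⟩ := I.surj (t / S.m) (Nat.div_lt_of_lt_mul (by rw [Nat.mul_comm]; omega))
  have h1 := congrFun e z
  rw [vec_std, vec_std] at h1
  have h2 := S.ind (fun a => pv q P (I.σ z * S.m + a) i - pv q P (I.σ z * S.m + a) j) (by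
    have h3 := sub_eq_zero.2 (ψ.injective h1)
    rw [KF.elt, KF.elt, ← Finset.sum_sub_distrib, Finset.sum_range] at h3
    simpa only [map_sub, ← cast_dg, map_natCast, sub_mul] using h3) ⟨t % S.m, Nat.mod_lt _ S.pos⟩
  rwa [sub_eq_zero, hz, Nat.div_add_mod'] at h2

/-- The first non-zero coordinate of every column is one. -/
noncomputable def leadB (d m : ℕ) (P : Pl) (N : ℕ) : Bool :=
  allLt N fun n => !(allLt d fun z => !(Nat.beq (dg P (Nat.mul z m) n) 1 &&
    allLt (Nat.add (Nat.mul z m) m) fun t => Nat.beq t (Nat.mul z m) || Nat.beq (dg P t n) 0))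

theorem leadB_sound {P : Pl} {N : ℕ} (h : leadB I.d S.m P N = true) {n : ℕ} (hn : n < N) :
    ∃ x, (stdCo S I ψ).vec P n x = 1 ∧ ∀ y, I.σ y < I.σ x → (stdCo S I ψ).vec P n y = 0 := by
  have h1 := allLt_iff.1 h n hn
  rw [Bool.not_eq_true', ← Bool.not_eq_true, allLt_iff] at h1
  push Not at h1
  obtain ⟨z, hz, h2⟩ := h1
  simp only [ne_eq, Bool.not_eq_true', Bool.not_eq_false, Bool.and_eq_true, allLt_iff,
    Bool.or_eq_true, Nat.beq_eq, Nat.mul_eq, Nat.add_eq] at h2
  obtain ⟨x, rfl⟩ := I.surj z hz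
  refine ⟨x, ?_, fun y hy => ?_⟩
  · rw [vec_std, KF.elt, Finset.sum_eq_single 0]
    · simp [h2.1]
    · intro i hi e
      rw [(h2.2 _ (Nat.add_lt_add_left (Finset.mem_range.1 hi) _)).resolve_left (by omega)]
      simp
    · simp [S.pos]
  · rw [vec_std, KF.elt, Finset.sum_eq_zero, map_zero]
    intro i hi
    have h3 : I.σ y * S.m + i < I.σ x * S.m := by
      have := Finset.mem_range.1 hi
      nlinarith
    rw [(h2.2 _ (by omega)).resolve_left (by omega)]
    simp

theorem uniq_lead {P : Pl} {N : ℕ} (hP : P.length ≤ I.d * S.m) (h : redB q P N = true)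
    (h' : leadB I.d S.m P N = true) (i j : ℕ) (hi : i < N) (hj : j < N) (a : Fˣ)
    (e : (stdCo S I ψ).vec P i = (a : F) • (stdCo S I ψ).vec P j) : i = j := by
  obtain ⟨x, h1, h2⟩ := leadB_sound (ψ := ψ) h' hi
  obtain ⟨y, h3, h4⟩ := leadB_sound (ψ := ψ) h' hj
  have e1 := congrFun e x
  have e2 := congrFun e y
  rw [Pi.smul_apply, smul_eq_mul] at e1 e2
  rcases lt_trichotomy (I.σ x) (I.σ y) with h5 | h5 | h5
  · rw [h1, h4 x h5, mul_zero] at e1; exact absurd e1 one_ne_zero
  · rw [I.inj _ _ h5] at h1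
    rw [h1, h3, mul_one] at e2
    rw [← e2, one_smul] at e
    exact vec_inj hP h hi hj e
  · rw [h3, h2 y h5, mul_one] at e2; exact absurd e2.symm a.ne_zero

theorem unit_eq_one [Fintype F] (hF : Fintype.card F = 2) (a : Fˣ) : (a : F) = 1 := by
  have := FiniteField.pow_card_sub_one_eq_one (a : F) a.ne_zero
  rwa [hF, pow_one] at this

theorem uniq_two [Fintype F] (hF : Fintype.card F = 2) {P : Pl} {N : ℕ} (hP : P.length ≤ I.d * S.m)
    (h : redB q P N = true) (i j : ℕ) (hi : i < N) (hj : j < N) (a : Fˣ)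
    (e : (stdCo S I ψ).vec P i = (a : F) • (stdCo S I ψ).vec P j) : i = j :=
  vec_inj hP h hi hj (by rwa [unit_eq_one hF, one_smul] at e)

instance fact4 : Fact (∀ r : ZMod 2, r ^ 2 ≠ 1 + 1 * r) := ⟨by decide⟩
instance fact9' : Fact (∀ r : ZMod 3, r ^ 2 ≠ 1 + 1 * r) := ⟨by decide⟩

/-- The field with four elements. -/
abbrev K4 : Type := QuadraticAlgebra (ZMod 2) 1 1
/-- The field with nine elements. -/
abbrev K9 : Type := QuadraticAlgebra (ZMod 3) 1 1

instance fin4 : Fintype K4 := Fintype.ofEquiv _ (QuadraticAlgebra.equivProd (1 : ZMod 2) 1).symm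
instance fin9' : Fintype K9 := Fintype.ofEquiv _ (QuadraticAlgebra.equivProd (1 : ZMod 3) 1).symm

theorem cardK4 : Fintype.card K4 = 4 := by rw [Fintype.ofEquiv_card]; simp
theorem cardK9 : Fintype.card K9 = 9 := by rw [Fintype.ofEquiv_card]; simp

/-- The prime fields and the quadratic extensions. -/
def kf2 : KF (ZMod 2) 2 := ⟨.inl rfl, RingHom.id _, 1, 1, by decide, by decide⟩
def kf3 : KF (ZMod 3) 3 := ⟨.inr rfl, RingHom.id _, 1, 1, by decide, by decide⟩
def kf4 : KF K4 2 := ⟨.inl rfl, algebraMap _ _, 2, ⟨0, 1⟩, by decide, by decide +kernel⟩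
def kf9 : KF K9 3 := ⟨.inr rfl, algebraMap _ _, 2, ⟨0, 1⟩, by decide, by decide +kernel⟩

/-- The scalars are the centre. -/
theorem mk_eq_one_iff {G V : Type*} [Group G] [AddCommGroup V] [Module F V] [Nontrivial V]
    {ρ : G →* Module.End F V} (hρ : Function.Injective ρ)
    (h : ∀ z ∈ center G, ∃ a : F, ρ z = a • 1) (x : G) :
    QuotientGroup.mk' (center G) x = 1 ↔ ∃ a : Fˣ, ρ x = (a : F) • 1 := by
  rw [QuotientGroup.mk'_apply, QuotientGroup.eq_one_iff]
  constructor
  · intro hx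
    obtain ⟨a, ha⟩ := h x hx
    have : a ≠ 0 := fun e => by
      have h1 : ρ x * ρ x⁻¹ = 1 := by rw [← map_mul, mul_inv_cancel, map_one]
      rw [ha, e, zero_smul, zero_mul] at h1
      exact zero_ne_one h1
    exact ⟨Units.mk0 a this, ha⟩
  · rintro ⟨a, ha⟩
    exact mem_center_iff.2 fun g => hρ (by rw [map_mul, map_mul, ha]; simp)

theorem id_eq_one_iff {G V : Type*} [Group G] [AddCommGroup V] [Module F V]
    {ρ : G →* Module.End F V} (hρ : Function.Injective ρ) (h : center G = ⊥) (x : G) :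
    MonoidHom.id G x = 1 ↔ ∃ a : Fˣ, ρ x = (a : F) • 1 := by
  refine ⟨fun e => ⟨1, by rw [show x = 1 from e]; simp⟩, fun ⟨a, ha⟩ => ?_⟩
  have : x ∈ center G := mem_center_iff.2 fun g => hρ (by rw [map_mul, map_mul, ha]; simp)
  rwa [h] at this

theorem id_eq_one_iff_two [Fintype F] (hF : Fintype.card F = 2) {G V : Type*} [Group G]
    [AddCommGroup V] [Module F V] {ρ : G →* Module.End F V} (hρ : Function.Injective ρ) (x : G) :
    MonoidHom.id G x = 1 ↔ ∃ a : Fˣ, ρ x = (a : F) • 1 :=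
  ⟨fun e => ⟨1, by rw [show x = 1 from e]; simp⟩, fun ⟨a, ha⟩ =>
    hρ (by rwa [unit_eq_one hF, one_smul, ← map_one ρ] at ha)⟩

end Cfsg.Agent.Mult
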