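import Cfsg.Agent.Mult.Glue

set_option autoImplicit false
set_option linter.style.haveILetI false

/-! The order of the Sylow subgroup by following single points. -/

namespace Cfsg.Agent.Mult

open Subgroup hiding ext
open Cfsg.Agent.CGT Equiv

universe u

/-- The points of the list are distinct and outside the mask. -/
noncomputable def nodupB (l : List ℕ) (m : ℕ) : Bool :=
  List.rec (motive := fun _ => ℕ → Bool) (fun _ => true)
    (fun a _ ih m => lit (Nat.shiftLeft 1 a) fun s =>
      Nat.beq (Nat.land m s) 0 && lit (Nat.lor m s) ih) l m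

theorem nodupB_sound {l : List ℕ} {m : ℕ} (h : nodupB l m = true) :
    l.Nodup ∧ ∀ a ∈ l, m.testBit a = false := by
  induction l generalizing m with
  | nil => simp
  | cons a l ih =>
    have h' : (Nat.beq (m &&& (1 <<< a)) 0 && nodupB l (m ||| (1 <<< a))) = true := h
    rw [Bool.and_eq_true, Nat.beq_eq, Nat.one_shiftLeft] at h'
    obtain ⟨h1, h2⟩ := ih h'.2
    have h3 := congrArg (fun x => x.testBit a) h'.1
    simp only [Nat.testBit_and, Nat.testBit_two_pow_self, Bool.and_true, Nat.zero_testBit] at h3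
    refine ⟨List.nodup_cons.2 ⟨fun ha => ?_, h1⟩, fun b hb => ?_⟩
    · have := h2 a ha
      simp at this
    · rcases List.mem_cons.1 hb with rfl | hb
      · exact h3
      · have := h2 b hb
        rw [Nat.testBit_or, Bool.or_eq_false_iff] at this
        exact this.1

/-- Each `h` is applied up to `c` times to the points found so far. -/
noncomputable def growP (f : ℕ → ℕ → ℕ) (c : ℕ) (hs : List ℕ) (k : List ℕ → Bool) (O : List ℕ) :
    Bool :=
  List.rec (motive := fun _ => List ℕ → Bool) k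
    (fun h _ ih O => Nat.rec (motive := fun _ => List ℕ → List ℕ → Bool) (fun _ acc => ih acc)
      (fun _ ih2 cur acc => litL (mapL (f h) cur) fun cur' => litL (appL cur' acc) (ih2 cur'))
      c O O) hs O

theorem growP_sound {P : ℕ → Prop} {f : ℕ → ℕ → ℕ} {c : ℕ} {hs : List ℕ} {k : List ℕ → Bool}
    {O : List ℕ} (hf : ∀ h ∈ hs, ∀ a, P a → P (f h a)) (hO : ∀ a ∈ O, P a)
    (h : growP f c hs k O = true) :
    ∃ O' : List ℕ, (∀ a ∈ O', P a) ∧ O'.length = O.length * (c + 1) ^ hs.length ∧ k O' = true := by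
  induction hs generalizing O with
  | nil => exact ⟨O, hO, by simp, h⟩
  | cons u hs ih =>
    have key : ∀ (c' : ℕ) (cur acc : List ℕ), (∀ a ∈ cur, P a) → (∀ a ∈ acc, P a) →
        Nat.rec (motive := fun _ => List ℕ → List ℕ → Bool) (fun _ acc => growP f c hs k acc)
          (fun _ ih2 cur acc => litL (mapL (f u) cur) fun cur' => litL (appL cur' acc) (ih2 cur'))
          c' cur acc = true → ∃ acc' : List ℕ, (∀ a ∈ acc', P a) ∧
            acc'.length = acc.length + c' * cur.length ∧ growP f c hs k acc' = true := by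
      intro c'
      induction c' with
      | zero => exact fun cur acc _ h2 h3 => ⟨acc, h2, by simp, h3⟩
      | succ c' ih2 =>
        intro cur acc h1 h2 h3
        simp only [litL_eq, mapL_eq, appL_eq] at h3 ih2
        have h4 : ∀ a ∈ cur.map (f u), P a := by
          intro a ha
          obtain ⟨b, hb, rfl⟩ := List.mem_map.1 ha
          exact hf u (by simp) b (h1 b hb)
        obtain ⟨acc', h5, h6, h7⟩ := ih2 _ _ h4
          (fun a ha => (List.mem_append.1 ha).elim (h4 a) (h2 a)) h3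
        refine ⟨acc', h5, ?_, h7⟩
        rw [h6, List.length_append, List.length_map]; ring
    obtain ⟨acc, h1, h2, h3⟩ := key c O O hO hO h
    obtain ⟨O', h4, h5, h6⟩ := ih (fun v hv => hf v (by simp [hv])) h1 h3
    refine ⟨O', h4, ?_, h6⟩
    rw [h5, h2, List.length_cons]; ring

/-- One level: the normal words `hs` fix the points `F` and move `b` to `p ^ hs.length` points. -/
noncomputable def levB (D : PC) (k : ℕ) (ts : List Tab) (ds : List (List ℕ)) (F : List ℕ) (b : ℕ)
    (hs : List ℕ) : Bool :=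
  Nat.ble b (msk k) &&
    (allL hs (fun u => allL F fun a => Nat.beq (apD k (msk k) ts ds (D.unp u) a) a) &&
      growP (fun u => apD k (msk k) ts ds (D.unp u)) (Nat.sub D.p 1) hs (fun O => nodupB O 0) [b])

/-- The subgroup generated by the letters below `n`. -/
abbrev PC.grp (D : PC) {G : Type*} [Group G] (x : ℕ → G) : Subgroup G :=
  closure (x '' Set.Iio D.n)

/-- The stabiliser of the points `F` has order at least `p ^ m`. -/
def Low {G : Type*} [Group G] (φ : G →* Perm ℕ) (D : PC) (x : ℕ → G) (k : ℕ) (F : List ℕ) (m : ℕ) :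
    Prop :=
  ptsOK k F = true → 1 ≤ D.p → D.p ^ m ≤ Nat.card (St φ (D.grp x) F)

theorem Low.zero {G : Type*} [Group G] [Finite G] {φ : G →* Perm ℕ} {D : PC} {x : ℕ → G} {k : ℕ}
    {F : List ℕ} : Low φ D x k F 0 := fun _ _ => by
  rw [pow_zero]; exact Nat.card_pos

theorem Low.step {G : Type*} [Group G] [Finite G] {φ : G →* Perm ℕ} {γ : ℕ → G} {k : ℕ}
    {ns : List Net} {ts : List Tab} (M : Model φ γ k ns ts) {D : PC} {ds : List (List ℕ)}
    {F : List ℕ} {b : ℕ} {hs : List ℕ} (h : levB D k ts ds F b hs = true) {m : ℕ}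
    (h' : Low φ D (der (ext γ) ds) k (b :: F) m) : Low φ D (der (ext γ) ds) k F (len hs + m) := by
  intro hF hp
  unfold levB at h
  simp only [Bool.and_eq_true, allL_iff, Nat.beq_eq] at h
  obtain ⟨h1, h2, h3⟩ := h
  have hb : b < 2 ^ k := lt_of_ble_msk h1
  set K := D.grp (der (ext γ) ds) with hK
  have hmem : ∀ u ∈ hs, ev (der (ext γ) ds) (D.unp u) ∈ St φ K F := fun u hu => by
    refine ⟨?_, fun a ha => ?_⟩
    · rw [PC.ev_unp]
      exact nfF_mem _ _ _ _ fun r hr => subset_closure ⟨_, by simpa using hr, rfl⟩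
    · have := h2 u hu a ha
      rwa [msk_eq, M.apD ds _ (ptsOK_lt hF ha)] at this
  have hbd : ∀ g : G, g ∈ K → ∀ a < 2 ^ k, φ g a < 2 ^ k := by
    intro g hg
    have : φ g ∈ bddPerm (2 ^ k) := by
      have hle : K ≤ (bddPerm (2 ^ k)).comap φ := by
        rw [hK, closure_le]
        rintro _ ⟨j, -, rfl⟩
        change φ (ev (ext γ) _) ∈ bddPerm (2 ^ k)
        rw [M.map_ev']
        exact ev_lp_mem M.valid _
      exact hle hg
    exact fun a ha => bddPerm_lt this ha
  obtain ⟨O, h4, h5, h6⟩ := growP_sound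
    (P := fun a => a < 2 ^ k ∧ ∃ x ∈ St φ K F, φ x b = a) (fun u hu a ha => by
      obtain ⟨ha, x, hx, rfl⟩ := ha
      rw [msk_eq, M.apD ds _ ha]
      exact ⟨hbd _ (hmem u hu).1 _ ha, _, mul_mem (hmem u hu) hx, by simp⟩)
    (fun a ha => by
      obtain rfl : a = b := by simpa using ha
      exact ⟨hb, 1, one_mem _, by simp⟩) h3
  have h7 : O.length ≤ {j | ∃ x ∈ St φ K F, φ x b = j}.ncard := by
    have hfin : {j | ∃ x ∈ St φ K F, φ x b = j}.Finite :=
      (Set.finite_range fun x : G => φ x b).subset (by rintro _ ⟨x, -, rfl⟩; exact ⟨x, rfl⟩)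
    rw [← List.toFinset_card_of_nodup (nodupB_sound h6).1, ← Set.ncard_coe_finset]
    exact Set.ncard_le_ncard (fun a ha => (h4 a (by simpa using ha)).2) hfin
  rw [card_St φ K b F, pow_add, len_eq]
  refine Nat.mul_le_mul (le_trans (le_of_eq ?_) h7) (h' (ptsOK_cons hb hF) hp)
  rw [h5, show Nat.sub D.p 1 + 1 = D.p from Nat.sub_add_cancel hp]; simp

/-- All levels in one test. -/
noncomputable def sylP (D : PC) (k : ℕ) (ts : List Tab) (ds : List (List ℕ))
    (ls : List (ℕ × List ℕ)) (F : List ℕ) (m : ℕ) : Bool :=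
  List.rec (motive := fun _ => List ℕ → ℕ → Bool) (fun _ m => Nat.beq m 0)
    (fun l _ ih F m => levB D k ts ds F l.1 l.2 &&
      (Nat.ble (len l.2) m && ih (l.1 :: F) (Nat.sub m (len l.2)))) ls F m

theorem sylP_sound {G : Type*} [Group G] [Finite G] {φ : G →* Perm ℕ} {γ : ℕ → G} {k : ℕ}
    {ns : List Net} {ts : List Tab} (M : Model φ γ k ns ts) {D : PC} {ds : List (List ℕ)}
    {ls : List (ℕ × List ℕ)} {F : List ℕ} {m : ℕ} (h : sylP D k ts ds ls F m = true) :
    Low φ D (der (ext γ) ds) k F m := by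
  induction ls generalizing F m with
  | nil => rw [Nat.eq_of_beq_eq_true (h : Nat.beq m 0 = true)]; exact Low.zero
  | cons l ls ih =>
    have h' : (levB D k ts ds F l.1 l.2 && (Nat.ble (len l.2) m &&
      sylP D k ts ds ls (l.1 :: F) (m - len l.2))) = true := h
    simp only [Bool.and_eq_true, Nat.ble_eq] at h'
    have := Low.step M h'.1 (ih h'.2.2)
    rwa [Nat.add_sub_cancel' h'.2.1] at this

theorem Low.dvd {G : Type*} [Group G] [Finite G] {φ : G →* Perm ℕ} {D : PC} {x : ℕ → G} {k : ℕ}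
    (h : Low φ D x k [] D.n) (hok : D.okB = true) (hx : ∀ r ∈ D.rules, ev x r.1 = ev x r.2) :
    D.p ^ D.n ∣ Nat.card (closure (x '' Set.Iio D.n)) := by
  have ok := PC.ok_of_okB D hok
  have h1 := h rfl (by have := ok.p_pos; omega)
  rw [St_nil] at h1
  exact dvd_of_eq (le_antisymm h1
    (PC.Rules.card_le ok (PC.rules_sound hx).pow (PC.rules_sound hx).conj))

/-- The upper bound at one prime from its parts. -/
theorem pbound_parts {G : Type u} [Group G] [Finite G] {φ : G →* Perm ℕ} {k N : ℕ}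
    (hN : Nat.card G = N) {D : PC} {c : Mult.Cert} {x : ℕ → G} (hpr : D.p.Prime)
    (h2 : ¬ D.p ^ (D.n + 1) ∣ N) (hx : ∀ r ∈ D.rules, ev x r.1 = ev x r.2)
    (hl : Low φ D x k [] D.n) {ss : List Spec} (h : D.check c ss = true) : PBound G D.p c.e :=
  PC.pbound_of_check D c ss hpr x hx (hl.dvd (by
    unfold PC.check at h; rw [Bool.and_eq_true] at h; exact h.1) hx) (hN ▸ h2) h

/-- The same with the test on the tails in several pieces. -/
theorem pbound_parts' {G : Type u} [Group G] [Finite G] {φ : G →* Perm ℕ} {k N : ℕ}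
    (hN : Nat.card G = N) {D : PC} {c : Mult.Cert} {x : ℕ → G} (hpr : D.p.Prime)
    (h2 : ¬ D.p ^ (D.n + 1) ∣ N) (hx : ∀ r ∈ D.rules, ev x r.1 = ev x r.2)
    (hl : Low φ D x k [] D.n) (hok : D.okB = true) {vs : List ℕ} (hc : D.Chunk c vs)
    (hlin : D.Lin c vs) : PBound G D.p c.e :=
  PC.pbound_of_chunks D c vs hpr x hx (hl.dvd hok hx) (hN ▸ h2) hok hc hlin

/-- Everything in one test. -/
noncomputable def allB (D : PC) (c : Mult.Cert) (ss : List Spec) (k : ℕ) (ts : List Tab)
    (ds : List (List ℕ)) (B : List ℕ) (ls : List (ℕ × List ℕ)) : Bool :=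
  ptsOK k B && (rulesD k ts ds B D.rules && (sylP D k ts ds ls [] D.n && D.check c ss))

theorem pbound_all {G : Type u} [Group G] [Finite G] {φ : G →* Perm ℕ} {γ : ℕ → G} {k : ℕ}
    {ns : List Net} {ts : List Tab} (M : Model φ γ k ns ts) {B : List ℕ} (hB : IsBase φ ⊤ B)
    {N : ℕ} (hN : Nat.card G = N) {D : PC} {c : Mult.Cert} {ss : List Spec} {ds : List (List ℕ)}
    {ls : List (ℕ × List ℕ)} (hpr : D.p.Prime) (h2 : ¬ D.p ^ (D.n + 1) ∣ N)
    (h : allB D c ss k ts ds B ls = true) : PBound G D.p c.e := by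
  unfold allB at h
  simp only [Bool.and_eq_true] at h
  exact pbound_parts hN hpr h2 (rulesD_sound M hB h.1 h.2.1) (sylP_sound M h.2.2.1) h.2.2.2

end Cfsg.Agent.Mult
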