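import Cfsg.Agent.Mult.Lin
import Cfsg.Agent.Cover.Quot

set_option autoImplicit false
set_option linter.style.haveILetI false

/-! The upper bound for the `p`-part of the kernel of a stem extension. -/

namespace Cfsg.Agent.Mult

open Cfsg.Agent.CGT Subgroup

universe u

/-- No finite stem extension of `G` has a kernel of order divisible by `p^(e+1)`. -/
def PBound (G : Type u) [Group G] (p e : ℕ) : Prop :=
  ∀ (Γ : Type u) [Group Γ] [Finite Γ] (σ : Γ →* G), IsStemExtension σ →
    ¬ p ^ (e + 1) ∣ Nat.card σ.ker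

theorem card_closure_le_aux {H : Type*} [Group H] [Finite H] (y : ℕ → H) {p n : ℕ} (hp : 0 < p)
    (hpow : ∀ i < n, y i ^ p ∈ closure (y '' {k | i + 1 ≤ k ∧ k < n}))
    (hconj : ∀ i j, i < j → j < n → (y i)⁻¹ * y j * y i ∈ closure (y '' {k | i + 1 ≤ k ∧ k < n}))
    (m a : ℕ) (ha : a + m = n) : Nat.card (closure (y '' {k | a ≤ k ∧ k < n})) ≤ p ^ m := by
  induction m generalizing a with
  | zero =>
    have : {k | a ≤ k ∧ k < n} = ∅ := by ext k; simp; omega
    simp [this]
  | succ m ih =>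
    have h1 := ih (a + 1) (by omega)
    set K := closure (y '' {k | a + 1 ≤ k ∧ k < n}) with hK
    have hn : ∀ h ∈ K, (y a)⁻¹ * h * y a ∈ K := by
      intro h hh
      induction hh using closure_induction with
      | mem x hx => obtain ⟨j, hj, rfl⟩ := hx; exact hconj a j hj.1 hj.2
      | one => simp
      | mul x z _ _ hx hz => have := K.mul_mem hx hz; convert this using 1; group
      | inv x _ hx => have := K.inv_mem hx; convert this using 1; group
    have key : ∀ s ∈ closure (y '' {k | a ≤ k ∧ k < n}), ∃ c < p, ∃ h ∈ K, s = y a ^ c * h := by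
      intro s hs
      have hs' : s ∈ Submonoid.closure (y '' {k | a ≤ k ∧ k < n}) := by
        rw [← closure_toSubmonoid_of_finite]; exact hs
      clear hs
      induction hs' using Submonoid.closure_induction_right with
      | one => exact ⟨0, hp, 1, K.one_mem, by simp⟩
      | mul_right x _ z hz hx =>
        obtain ⟨c, hc, h, hh, rfl⟩ := hx
        obtain ⟨j, hj, rfl⟩ := hz
        rcases Nat.eq_or_lt_of_le hj.1 with rfl | hlt
        · rcases Nat.lt_or_ge (c + 1) p with h2 | h2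
          · exact ⟨c + 1, h2, _, hn h hh, by rw [pow_succ]; group⟩
          · refine ⟨0, hp, _, K.mul_mem (hpow a hj.2) (hn h hh), ?_⟩
            rw [show p = c + 1 by omega, pow_succ]; group
        · exact ⟨c, hc, _, K.mul_mem hh (subset_closure ⟨j, ⟨hlt, hj.2⟩, rfl⟩), by rw [mul_assoc]⟩
    choose! f hf g hg hfg using key
    have hinj : Function.Injective (fun s : closure (y '' {k | a ≤ k ∧ k < n}) =>
        ((⟨f s, hf s s.2⟩, ⟨g s, hg s s.2⟩) : Fin p × K)) := by
      intro s t hst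
      simp only [Prod.mk.injEq, Fin.mk.injEq, Subtype.mk.injEq] at hst
      exact Subtype.ext (by rw [hfg s s.2, hfg t t.2, hst.1, hst.2])
    have := Nat.card_le_card_of_injective _ hinj
    rw [Nat.card_prod, Nat.card_fin] at this
    rw [pow_succ']
    exact this.trans (Nat.mul_le_mul_left _ h1)

theorem nfF_mul_central {Γ C : Type*} [Group Γ] [CommGroup C] {ι : C →* Γ}
    (cen : ∀ c g, ι c * g = g * ι c) (X : ℕ → Γ) (γ : ℕ → C) (b a m u : ℕ) :
    nfF (fun k => X k * ι (γ k)) b a m u = nfF X b a m u * ι (nfF γ b a m u) := by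
  induction m generalizing a u with
  | zero => simp [nfF_zero]
  | succ m ih =>
    rw [nfF_succ, nfF_succ, nfF_succ, ih, Commute.mul_pow (cen (γ a) (X a)).symm, ← map_pow,
      map_mul, mul_assoc, ← mul_assoc (ι _), cen]
    simp only [mul_assoc]

theorem card_closure_list_le {Q : Type*} [CommGroup Q] [Finite Q] (p : ℕ) (hp : 0 < p)
    (zl : List (Q × ℕ)) (h : ∀ z ∈ zl, z.1 ^ p ^ z.2 = 1) :
    Nat.card (closure {a | ∃ z ∈ zl, z.1 = a}) ≤ p ^ (zl.map Prod.snd).sum := by
  induction zl with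
  | nil => simp
  | cons z l ih =>
    have h1 := ih fun w hw => h w (by simp [hw])
    have e : {a | ∃ w ∈ z :: l, w.1 = a} = {z.1} ∪ {a | ∃ w ∈ l, w.1 = a} := by
      ext a; simp [eq_comm]
    rw [e, Subgroup.closure_union, ← zpowers_eq_closure, List.map_cons, List.sum_cons, pow_add]
    set K := closure {a | ∃ w ∈ l, w.1 = a}
    have h2 : Nat.card (zpowers z.1) ≤ p ^ z.2 := by
      rw [Nat.card_zpowers]
      exact orderOf_le_of_pow_eq_one (by positivity) (h z (by simp))
    have hs : Function.Surjective (fun x : zpowers z.1 × K =>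
        (⟨x.1 * x.2, mul_mem_sup x.1.2 x.2.2⟩ : (zpowers z.1 ⊔ K : Subgroup Q))) := by
      rintro ⟨x, hx⟩
      obtain ⟨a, ha, b, hb, rfl⟩ := mem_sup.1 hx
      exact ⟨(⟨a, ha⟩, ⟨b, hb⟩), rfl⟩
    have := Nat.card_le_card_of_surjective _ hs
    rw [Nat.card_prod] at this
    exact this.trans (Nat.mul_le_mul h2 h1)

theorem not_dvd_of_gen {C : Type*} [CommGroup C] [Finite C] {p e : ℕ} (hp : p.Prime)
    (zl : List (C × ℕ)) (he : (zl.map Prod.snd).sum = e)
    (hz : ∀ z ∈ zl, z.1 ^ p ^ z.2 ∈ (powMonoidHom (p ^ (e + 1)) : C →* C).range)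
    (htop : closure {a | ∃ z ∈ zl, z.1 = a} ⊔ (powMonoidHom p : C →* C).range = ⊤) :
    ¬ p ^ (e + 1) ∣ Nat.card C := by
  intro hd
  haveI := Fact.mk hp
  set Z := closure {a | ∃ z ∈ zl, z.1 = a} with hZ
  have nak : ∀ j, ∀ k : C, ∃ z ∈ Z, ∃ a, k = z * a ^ p ^ j := by
    intro j
    induction j with
    | zero => exact fun k => ⟨1, Z.one_mem, k, by simp⟩
    | succ j ih =>
      intro k
      obtain ⟨z, hz, a, rfl⟩ := ih k
      obtain ⟨z', hz', _, ⟨a', rfl⟩, rfl⟩ := mem_sup.1 (htop ▸ mem_top a)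
      exact ⟨_, Z.mul_mem hz (Z.pow_mem hz' (p ^ j)), a', by
        rw [powMonoidHom_apply, mul_pow, ← pow_mul, ← pow_succ', mul_assoc]⟩
  set R := (powMonoidHom (p ^ (e + 1)) : C →* C).range with hR
  let zl' : List ((C ⧸ R) × ℕ) := zl.map fun z => (QuotientGroup.mk z.1, z.2)
  have h1 := card_closure_list_le p hp.pos zl' (by
    intro z hz'
    obtain ⟨z, hz'', rfl⟩ := List.mem_map.1 hz'
    exact (QuotientGroup.eq_one_iff _).2 (hz z hz''))
  have h2 : closure {a | ∃ z ∈ zl', z.1 = a} = ⊤ := by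
    rw [eq_top_iff]
    rintro q -
    obtain ⟨k, rfl⟩ := QuotientGroup.mk_surjective q
    obtain ⟨z, hz, a, rfl⟩ := nak (e + 1) k
    have h3 : (QuotientGroup.mk (a ^ p ^ (e + 1)) : C ⧸ R) = 1 :=
      (QuotientGroup.eq_one_iff _).2 ⟨a, rfl⟩
    rw [QuotientGroup.mk_mul, h3, mul_one]
    have h4 : Z ≤ (closure {a | ∃ z ∈ zl', z.1 = a}).comap (QuotientGroup.mk' R) := by
      rw [hZ, closure_le]
      rintro _ ⟨w, hw, rfl⟩
      exact subset_closure ⟨_, List.mem_map.2 ⟨w, hw, rfl⟩, rfl⟩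
    exact h4 hz
  have h5 : (zl'.map Prod.snd).sum = e := by rw [← he]; simp [zl', List.map_map, Function.comp_def]
  rw [h2, h5, card_top, ← index_eq_card, hR, index_range] at h1
  obtain ⟨K, hK⟩ := Sylow.exists_subgroup_card_pow_prime p hd
  have h6 : K ≤ (powMonoidHom (p ^ (e + 1)) : C →* C).ker := by
    intro x hx
    have := pow_card_eq_one' (x := (⟨x, hx⟩ : K))
    rw [hK] at this
    exact congrArg Subtype.val this
  have h7 := (card_le_of_le h6).trans h1
  rw [hK, pow_succ] at h7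
  have := hp.two_le
  have : 0 < p ^ e := by positivity
  nlinarith

namespace PC

variable (D : PC)

/-- The word of a packed normal word. -/
noncomputable def unp (u : ℕ) : List ℕ := unpackF D.b D.n 0 u

/-- The power and conjugation rules with first index `i`. -/
noncomputable def rulesAt (i : ℕ) : List (List ℕ × List ℕ) :=
  (Nat.rec [] (fun _ l => i :: l) D.p, D.unp (D.W i i)) ::
    Nat.rec [] (fun r ih => lit (Nat.add (Nat.succ i) r) fun j =>
      ([j, i], i :: D.unp (D.W i j)) :: ih) (Nat.sub D.n (Nat.succ i))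

/-- All power and conjugation rules. -/
noncomputable def pcRules : List (List ℕ × List ℕ) :=
  Nat.rec [] (fun i ih => lit i fun i => appL (D.rulesAt i) ih) D.n

/-- The fusion rules. -/
noncomputable def fusRules : List (List ℕ × List ℕ) :=
  mapL (fun t => (t.1 :: D.unp t.2.1, appL (D.unp t.2.2) [t.1])) D.fp

/-- All the equations between words that have to hold in the group. -/
noncomputable def rules : List (List ℕ × List ℕ) := appL D.pcRules D.fusRules

/-- The equations, spelled out. -/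
structure Rules {G : Type*} [Group G] (x : ℕ → G) : Prop where
  pow : ∀ i < D.n, x i ^ D.p = D.nf x (D.W i i)
  conj : ∀ i j, i < j → j < D.n → x j * x i = x i * D.nf x (D.W i j)
  fus : ∀ a < D.fp.length, x (D.FP a).1 * D.nf x (D.FP a).2.1 = D.nf x (D.FP a).2.2 * x (D.FP a).1

variable {D}

theorem ev_unp {G : Type*} [Group G] (x : ℕ → G) (u : ℕ) : ev x (D.unp u) = D.nf x u :=
  ev_unpackF x _ _ _ _

theorem rulesAt_sub {i n : ℕ} (hi : i < n) {r : List ℕ × List ℕ} (hr : r ∈ D.rulesAt i) :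
    r ∈ (Nat.rec [] (fun i ih => lit i fun i => appL (D.rulesAt i) ih) n :
      List (List ℕ × List ℕ)) := by
  induction n with
  | zero => omega
  | succ n ih =>
    show r ∈ appL (D.rulesAt n) _
    rw [appL_eq, List.mem_append]
    rcases Nat.lt_succ_iff_lt_or_eq.1 hi with h | rfl
    · exact Or.inr (ih h)
    · exact Or.inl hr

theorem rules_sound {G : Type*} [Group G] {x : ℕ → G}
    (h : ∀ r ∈ D.rules, ev x r.1 = ev x r.2) : D.Rules x := by
  unfold rules at h
  simp only [appL_eq, List.mem_append] at h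
  refine ⟨fun i hi => ?_, fun i j hij hj => ?_, fun a ha => ?_⟩
  · have := h _ (Or.inl (rulesAt_sub hi (List.mem_cons_self)))
    rw [ev_unp, ev_rec_cons] at this
    simpa using this
  · have h1 : ∀ m, j < i + 1 + m → ([j, i], i :: D.unp (D.W i j)) ∈
        (Nat.rec [] (fun r ih => lit (Nat.add (Nat.succ i) r) fun j =>
          ([j, i], i :: D.unp (D.W i j)) :: ih) m : List (List ℕ × List ℕ)) := by
      intro m
      induction m with
      | zero => omega
      | succ m ih =>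
        intro hm
        rcases Nat.lt_succ_iff_lt_or_eq.1 (show j < i + 1 + m + 1 from hm) with h2 | rfl
        · exact List.mem_cons_of_mem _ (ih h2)
        · exact List.mem_cons_self
    have := h _ (Or.inl (rulesAt_sub (show i < D.n by omega)
      (List.mem_cons_of_mem _ (h1 (D.n - (i + 1)) (by omega)))))
    simpa [ev_unp] using this
  · have h1 : D.FP a ∈ D.fp := by
      rw [FP, nth_eq, List.getD_eq_getElem _ _ ha]; exact List.getElem_mem ha
    have := h _ (Or.inr (by rw [fusRules, mapL_eq]; exact List.mem_map.2 ⟨_, h1, rfl⟩))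
    simpa [ev_unp, appL_eq] using this

theorem exists_setting {Γ G C : Type*} [Group Γ] [Group G] [CommGroup C] {σ : Γ →* G}
    (hσ : Function.Surjective σ) {ι : C →* Γ} (cen : ∀ c g, ι c * g = g * ι c)
    (hker : ∀ g, σ g = 1 → ∃ c, ι c = g) {x : ℕ → G} (hx : D.Rules x) :
    ∃ (X : ℕ → Γ) (T : ℕ → C), (∀ i, σ (X i) = x i) ∧ D.Setting ι X T := by
  choose X hX using fun i => hσ (x i)
  choose! t ht using hker
  have hnf : ∀ u, σ (D.nf X u) = D.nf x u := fun u => by
    rw [nf, map_nfF]; simp only [hX]; rfl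
  let raw : ℕ → Γ := fun m => if m < D.n * D.n then
      (if m / D.n = m % D.n then (D.nf X (D.W (m / D.n) (m / D.n)))⁻¹ * X (m / D.n) ^ D.p
      else (X (m / D.n) * D.nf X (D.W (m / D.n) (m % D.n)))⁻¹ * (X (m % D.n) * X (m / D.n)))
    else (D.nf X (D.FP (m - D.n * D.n)).2.2)⁻¹ * (X (D.FP (m - D.n * D.n)).1 *
      D.nf X (D.FP (m - D.n * D.n)).2.1) * (X (D.FP (m - D.n * D.n)).1)⁻¹
  have hd : ∀ i j, j < D.n → (i * D.n + j) / D.n = i ∧ (i * D.n + j) % D.n = j := by
    intro i j hj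
    rw [add_comm, Nat.add_mul_div_right _ _ (by omega), Nat.add_mul_mod_self_right,
      Nat.div_eq_of_lt hj, Nat.mod_eq_of_lt hj, zero_add]
    exact ⟨rfl, rfl⟩
  refine ⟨X, fun m => t (raw m), hX, cen, fun i hi => ?_, fun i j hij hj => ?_, fun a ha => ?_⟩
  · have h1 : i * D.n + i < D.n * D.n := by nlinarith
    have e : raw (i * D.n + i) = (D.nf X (D.W i i))⁻¹ * X i ^ D.p := by
      simp only [raw, if_pos h1, (hd i i hi).1, (hd i i hi).2, if_true]
    rw [ht _ (by rw [e, map_mul, map_inv, map_pow, hnf, hX, hx.pow i hi, inv_mul_cancel]), e]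
    group
  · have h1 : i * D.n + j < D.n * D.n := by nlinarith
    have e : raw (i * D.n + j) = (X i * D.nf X (D.W i j))⁻¹ * (X j * X i) := by
      simp only [raw, if_pos h1, (hd i j hj).1, (hd i j hj).2, if_neg hij.ne]
    rw [ht _ (by
      rw [e, map_mul, map_inv, map_mul, map_mul, hnf, hX, hX, hx.conj i j hij hj, inv_mul_cancel]),
      e]
    group
  · have e : raw (D.n * D.n + a) = (D.nf X (D.FP a).2.2)⁻¹ * (X (D.FP a).1 *
        D.nf X (D.FP a).2.1) * (X (D.FP a).1)⁻¹ := by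
      simp only [raw, if_neg (show ¬ D.n * D.n + a < D.n * D.n by omega), Nat.add_sub_cancel_left]
    rw [ht _ (by
      rw [e, map_mul, map_mul, map_mul, map_inv, map_inv, hnf, hnf, hX, hx.fus a ha]; group), e]
    group

theorem nf_mem_high (ok : D.OK) {H : Type*} [Group H] (y : ℕ → H) {i j : ℕ} (hij : i ≤ j)
    (hj : j < D.n) : D.nf y (D.W i j) ∈ closure (y '' {k | i + 1 ≤ k ∧ k < D.n}) := by
  obtain ⟨m, hm⟩ : ∃ m, D.n = i + 1 + m := ⟨D.n - (i + 1), by omega⟩
  rw [nf, hm, nfF_add, ← hm, ok.low i j hij hj, nfF_zero', one_mul]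
  exact nfF_mem _ _ _ _ fun r hr => subset_closure ⟨_, ⟨by omega, by omega⟩, rfl⟩

theorem Rules.card_le (ok : D.OK) {H : Type*} [Group H] [Finite H] {y : ℕ → H}
    (hpow : ∀ i < D.n, y i ^ D.p = D.nf y (D.W i i))
    (hconj : ∀ i j, i < j → j < D.n → y j * y i = y i * D.nf y (D.W i j)) :
    Nat.card (closure (y '' Set.Iio D.n)) ≤ D.p ^ D.n := by
  have := card_closure_le_aux y (p := D.p) (n := D.n) (by have := ok.p_pos; omega)
    (fun i hi => by rw [hpow i hi]; exact nf_mem_high ok y le_rfl hi)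
    (fun i j hij hj => by
      rw [mul_assoc, hconj i j hij hj, inv_mul_cancel_left]; exact nf_mem_high ok y hij.le hj)
    D.n 0 (by omega)
  simpa [Set.Iio] using this

theorem top_of_concl (ok : D.OK) {Γ G C : Type*} [Group Γ] [Finite Γ] [Group G] [Finite G]
    [CommGroup C] {σ : Γ →* G} (hσ : IsStemExtension σ) {ι : C →* Γ} (hι : Function.Injective ι)
    (hker : ∀ g, σ g = 1 ↔ ∃ c, ι c = g) {x : ℕ → G} {X : ℕ → Γ} {T : ℕ → C}
    (hX : ∀ i, σ (X i) = x i) (S : D.Setting ι X T) (hp : D.p.Prime)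
    (hcard : D.p ^ D.n ∣ Nat.card (closure (x '' Set.Iio D.n)))
    (hG : ¬ D.p ^ (D.n + 1) ∣ Nat.card G) (N : Subgroup C)
    (hN : (powMonoidHom D.p : C →* C).range ≤ N) (γ : ℕ → C)
    (h1 : ∀ i < D.n, T (i * D.n + i) * nfF γ D.b 0 D.n (D.W i i) ^ (D.p - 1) ∈ N)
    (h2 : ∀ i j, i < j → j < D.n →
      T (i * D.n + j) * γ j * nfF γ D.b 0 D.n (D.W i j) ^ (D.p - 1) ∈ N) : N = ⊤ := by
  have hpw : ∀ a : C, a ^ D.p ∈ N := fun a => hN ⟨a, rfl⟩
  have hinv : ∀ a b : C, a * b ^ (D.p - 1) ∈ N → a * b⁻¹ ∈ N := by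
    intro a b h
    have := N.mul_mem h (N.inv_mem (hpw b))
    obtain ⟨q, hq⟩ : ∃ q, D.p = q + 1 := ⟨D.p - 1, by have := hp.pos; omega⟩
    rw [hq, Nat.add_sub_cancel, pow_succ, mul_inv, mul_assoc, mul_inv_cancel_left] at this
    exact this
  have hc : ∀ c, ι c ∈ center Γ := fun c => mem_center_iff.2 fun g => (S.cen c g).symm
  set N' := N.map ι with hN'
  haveI : N'.Normal := Cover.normal_of_le_center (by rintro _ ⟨c, -, rfl⟩; exact hc c)
  let X' : ℕ → Γ := fun k => X k * ι (γ k)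
  have hX' : ∀ k, σ (X' k) = x k := fun k => by
    simp only [X', map_mul, hX, (hker _).2 ⟨γ k, rfl⟩, mul_one]
  let π := QuotientGroup.mk' N'
  let y : ℕ → Γ ⧸ N' := fun k => π (X' k)
  have hπ : ∀ c ∈ N, π (ι c) = 1 := fun c hc => (QuotientGroup.eq_one_iff _).2 ⟨c, hc, rfl⟩
  have hy : ∀ u, D.nf y u = π (D.nf X u * ι (nfF γ D.b 0 D.n u)) := fun u => by
    rw [nf, nf, ← nfF_mul_central S.cen, map_nfF]
  have hle := Rules.card_le ok (y := y) (fun i hi => by
      have h3 := hπ _ (N.mul_mem (hinv _ _ (h1 i hi)) (hpw (γ i)))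
      rw [hy, ← mul_one (π _), ← h3, ← map_mul, ← map_pow, Commute.mul_pow (S.cen (γ i) (X i)).symm,
        S.pow i hi, ← map_pow, mul_assoc, mul_assoc, ← map_mul, ← map_mul]
      congr 3
      rw [mul_comm (T _) _⁻¹, mul_assoc, mul_inv_cancel_left])
    (fun i j hij hj => by
      have h3 := hπ _ (hinv _ _ (h2 i j hij hj))
      rw [hy, ← mul_one (π (D.nf X _ * _)), ← h3, ← map_mul, ← map_mul, ← map_mul]
      congr 1
      simp only [X']
      rw [mul_assoc, ← mul_assoc (ι _), S.cen (γ j), ← mul_assoc, ← mul_assoc, S.conj i j hij hj,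
        mul_assoc (X i) (ι _), S.cen (γ i)]
      simp only [mul_assoc, ← map_mul]
      congr 3
      rw [mul_comm (nfF _ _ _ _ _)]
      simp only [mul_assoc]
      rw [mul_comm (γ i) (nfF _ _ _ _ _), inv_mul_cancel_left])
  have hNk : N' ≤ σ.ker := by rintro _ ⟨c, -, rfl⟩; exact (hker _).2 ⟨c, rfl⟩
  let σ' := QuotientGroup.lift N' σ hNk
  set P := closure (x '' Set.Iio D.n) with hP
  set Y := closure (y '' Set.Iio D.n) with hY
  have hmap : Y.map σ' = P := by
    rw [hY, MonoidHom.map_closure, ← Set.image_comp]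
    congr 1
    exact Set.image_congr fun k _ => hX' k
  have hinj : ∀ s ∈ Y, σ' s = 1 → s = 1 := by
    have h3 : Function.Surjective (σ'.subgroupMap Y) := σ'.subgroupMap_surjective Y
    have h4 : Nat.card Y ≤ Nat.card (Y.map σ') := by
      rw [hmap]; exact hle.trans (Nat.le_of_dvd Nat.card_pos hcard)
    have h5 : Function.Bijective (σ'.subgroupMap Y) :=
      (Nat.bijective_iff_surjective_and_card _).2 ⟨h3,
        le_antisymm h4 (Nat.card_le_card_of_surjective _ h3)⟩
    intro s hs h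
    have : (⟨s, hs⟩ : Y) = 1 := h5.1 (Subtype.ext (by rw [map_one]; exact h))
    exact congrArg Subtype.val this
  set S' := closure (X' '' Set.Iio D.n) with hS'
  have hS1 : S'.map σ = P := by
    rw [hS', MonoidHom.map_closure, ← Set.image_comp]
    congr 1
    exact Set.image_congr fun k _ => hX' k
  have hS2 : S'.map π = Y := by
    rw [hS', MonoidHom.map_closure, ← Set.image_comp]; rfl
  set Pt := P.comap σ with hPt
  have hcomm : (commutator Pt).map Pt.subtype ≤ S' := by
    rw [map_subtype_commutator, commutator_le]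
    intro a ha b hb
    obtain ⟨s, hs, hs'⟩ : σ a ∈ S'.map σ := hS1 ▸ ha
    obtain ⟨t, ht, ht'⟩ : σ b ∈ S'.map σ := hS1 ▸ hb
    rw [Cover.comm_eq_of_map_eq hσ.2.1 hs'.symm ht'.symm, commutatorElement_def]
    exact S'.mul_mem (S'.mul_mem (S'.mul_mem hs ht) (S'.inv_mem hs)) (S'.inv_mem ht)
  have hidx : D.p.Coprime Pt.index := by
    rw [hPt, index_comap_of_surjective _ hσ.1, hp.coprime_iff_not_dvd]
    intro h
    apply hG
    rw [← P.card_mul_index, pow_succ]
    exact Nat.mul_dvd_mul hcard h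
  rw [eq_top_iff]
  rintro k -
  have hk : σ (ι k) = 1 := (hker _).2 ⟨k, rfl⟩
  have hkP : ι k ∈ Pt := by rw [hPt, mem_comap, hk]; exact P.one_mem
  have h3 := Cover.transfer_central (Abelianization.of : Pt →* Abelianization Pt) (hc k)
    (hσ.2.2 hk) hkP
  rw [← map_pow] at h3
  have h4 : (⟨ι k, hkP⟩ : Pt) ^ Pt.index ∈ commutator Pt := by
    rw [← Abelianization.ker_of]; exact h3
  have h5 : ι (k ^ Pt.index) ∈ S' := hcomm ⟨_, h4, by simp⟩
  have h6 : π (ι (k ^ Pt.index)) = 1 :=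
    hinj _ (hS2 ▸ mem_map_of_mem π h5) ((hker _).2 ⟨_, rfl⟩)
  obtain ⟨c, hc', h7⟩ := (QuotientGroup.eq_one_iff _).1 h6
  rw [hι h7] at hc'
  have h8 : (QuotientGroup.mk k : C ⧸ N) ^ D.p = 1 := (QuotientGroup.eq_one_iff _).2 (hpw k)
  have h9 : (QuotientGroup.mk k : C ⧸ N) ^ Pt.index = 1 := (QuotientGroup.eq_one_iff _).2 hc'
  have h10 := pow_gcd_eq_one.2 ⟨h8, h9⟩
  rw [hidx, pow_one] at h10
  exact (QuotientGroup.eq_one_iff _).1 h10

/-- The general form of the upper bound. -/
theorem pbound_of {G : Type u} [Group G] [Finite G] (ok : D.OK) (hp : D.p.Prime) {x : ℕ → G}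
    (hx : D.Rules x) (hcard : D.p ^ D.n ∣ Nat.card (closure (x '' Set.Iio D.n)))
    (hG : ¬ D.p ^ (D.n + 1) ∣ Nat.card G) {e : ℕ}
    (h : ∀ (Γ C : Type u) [Group Γ] [CommGroup C] (ι : C →* Γ) (X : ℕ → Γ) (T : ℕ → C),
      Function.Injective ι → D.Setting ι X T → D.Concl e T) : PBound G D.p e := by
  intro Γ _ _ σ hσ
  letI : CommGroup σ.ker := { (inferInstance : Group σ.ker) with
    mul_comm := fun a b => Subtype.ext (mem_center_iff.1 (hσ.2.1 b.2) a) }
  have hker : ∀ g, σ g = 1 ↔ ∃ c : σ.ker, σ.ker.subtype c = g :=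
    fun g => ⟨fun hg => ⟨⟨g, hg⟩, rfl⟩, by rintro ⟨c, rfl⟩; exact c.2⟩
  obtain ⟨X, T, hX, S⟩ := exists_setting hσ.1 (ι := σ.ker.subtype)
    (fun c g => (mem_center_iff.1 (hσ.2.1 c.2) g).symm) (fun g => (hker g).1) hx
  obtain ⟨γ, zl, h1, h2, h3, h4⟩ := h Γ σ.ker _ X T Subtype.val_injective S
  exact not_dvd_of_gen hp zl h1 h2 (top_of_concl ok hσ Subtype.val_injective hker hX S hp hcard hG
    _ le_sup_right γ h3 h4)

/-- The whole test in one piece. -/
noncomputable def check (D : PC) (c : Cert) (ss : List Spec) : Bool :=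
  D.okB && (D.sizeB c 0 && D.vecsK (D.M c) c.F ss (D.linB c))

theorem one_le_M (ok : D.OK) (c : Cert) : 1 ≤ D.M c :=
  Nat.one_le_pow _ _ (by have := ok.p_pos; omega)

/-- The upper bound, from one test. -/
theorem pbound_of_check {G : Type u} [Group G] [Finite G] (D : PC) (c : Cert) (ss : List Spec)
    (hp : D.p.Prime) (x : ℕ → G) (hx : ∀ r ∈ D.rules, ev x r.1 = ev x r.2)
    (hcard : D.p ^ D.n ∣ Nat.card (closure (x '' Set.Iio D.n)))
    (hG : ¬ D.p ^ (D.n + 1) ∣ Nat.card G) (h : D.check c ss = true) : PBound G D.p c.e := by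
  unfold check at h
  simp only [Bool.and_eq_true] at h
  have ok := ok_of_okB D h.1
  refine pbound_of ok hp (rules_sound hx) hcard hG fun Γ C _ _ ι X T hι S => ?_
  obtain ⟨vs, h1, h2⟩ := vecsK_sound ok S hι (one_le_M ok c) (cb_lt_of_sizeB h.2.1) h.2.2
  exact lin_sound ok h1 (lin_of_linB h2)

/-- The vectors `vs` come from relations. -/
def Chunk (D : PC) (c : Cert) (vs : List ℕ) : Prop :=
  ∀ v ∈ vs, ∃ ss vs', v ∈ vs' ∧ D.vecsK (D.M c) c.F ss (fun l => beqL l vs') = true

theorem chunk_of {c : Cert} {vs : List ℕ} (ss : List Spec)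
    (h : D.vecsK (D.M c) c.F ss (fun l => beqL l vs) = true) : D.Chunk c vs :=
  fun _ hv => ⟨ss, vs, hv, h⟩

theorem Chunk.append {c : Cert} {vs vs' : List ℕ} (h : D.Chunk c vs) (h' : D.Chunk c vs') :
    D.Chunk c (vs ++ vs') := fun v hv => (List.mem_append.1 hv).elim (h v) (h' v)

/-- The upper bound, from tests in several pieces. -/
theorem pbound_of_chunks {G : Type u} [Group G] [Finite G] (D : PC) (c : Cert) (vs : List ℕ)
    (hp : D.p.Prime) (x : ℕ → G) (hx : ∀ r ∈ D.rules, ev x r.1 = ev x r.2)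
    (hcard : D.p ^ D.n ∣ Nat.card (closure (x '' Set.Iio D.n)))
    (hG : ¬ D.p ^ (D.n + 1) ∣ Nat.card G) (hok : D.okB = true) (hc : D.Chunk c vs)
    (hl : D.Lin c vs) : PBound G D.p c.e := by
  have ok := ok_of_okB D hok
  refine pbound_of ok hp (rules_sound hx) hcard hG fun Γ C _ _ ι X T hι S => ?_
  refine lin_sound ok (fun v hv => ?_) hl
  obtain ⟨ss, vs', h1, h2⟩ := hc v hv
  obtain ⟨l, h3, h4⟩ := vecsK_sound ok S hι (one_le_M ok c) (cb_lt_of_sizeB hl.1) h2
  exact h3 v (beqL_sound h4 ▸ h1)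

end PC

end Cfsg.Agent.Mult
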